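import Cfsg.Agent.Lib.DCE.Eval

/-!
Runs that carry the left factor only by the images of the base points, so that long runs are
checked in linear time and bounded depth.
-/

set_option autoImplicit false

namespace CfsgLib.DCE

open CfsgLib.PresCert

variable (S : Setup)

/-- apply a word to the images, forcing them -/
noncomputable def stepImg (q : List Nat) (a : List Nat) : List Nat := a.map fun x => S.P.app q x

/-- the images are points (this also evaluates them) -/
noncomputable def inRange (a : List Nat) : Bool := a.all fun x => Nat.blt x S.P.n

/-- a run with the left factor given by images -/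
noncomputable def Setup.runI (fs : List Fact) (n : Nat) :
    List Step → List Nat → List Nat → Nat → List Nat → Option (List Nat × Nat × List Nat)
  | [], ls, a, i, k => if ls = [] then some (a, i, k) else none
  | .lett x :: t, ls, a, i, k =>
    match ls with
    | [] => none
    | l :: ls => if x = l ∧ x < S.P.g then Setup.runI fs n t ls a i (k ++ [x]) else none
  | .stab f fwd :: t, ls, a, i, k =>
    let F := Setup.fget fs f
    if f < n ∧ F.ty = 0 ∧ F.i = i ∧ inRange S a = true then
      if fwd then Setup.runI fs n t ls (stepImg S F.q a) i (ivw F.p ++ k)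
      else Setup.runI fs n t ls (stepImg S (ivw F.q) a) i (F.p ++ k)
    else none
  | .edge f wu :: t, ls, a, i, k =>
    match ls with
    | [] => none
    | l :: ls =>
      let F := Setup.fget fs f
      let L := S.letE l
      if f < n ∧ F.ty = 1 ∧ F.i = i ∧ inRange S a = true ∧ S.P.g ≤ l ∧ l < S.P.g + S.lets.length ∧
          F.e = L.1 ∧ (wu.all fun x => Nat.blt x (S.edge L.1).src.length) = true ∧
          S.same (k ++ ivw L.2) (F.r ++ S.srcW L.1 wu) = true then
        Setup.runI fs n t ls (stepImg S F.p a) F.j (F.q ++ (S.imgW L.1 wu ++ L.2))
      else none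
  | .coin f :: t, ls, a, i, k =>
    let F := Setup.fget fs f
    if f < n ∧ F.ty = 2 ∧ F.i = i ∧ inRange S a = true then
      Setup.runI fs n t ls (stepImg S F.p a) F.j (F.q ++ k)
    else none

theorem app_append_run (u w : List Nat) (i : Nat) :
    S.P.app (u ++ w) i = S.P.app w (S.P.app u i) := by
  induction u generalizing i with
  | nil => rfl
  | cons x u ih => exact ih _

theorem stepImg_map (v q : List Nat) :
    stepImg S q (S.base.map fun b => S.P.app v b) = S.base.map fun b => S.P.app (v ++ q) b := by
  simp only [stepImg, List.map_map, Function.comp_def, app_append_run]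

theorem runI_spec (fs : List Fact) (n : Nat) :
    ∀ (st : List Step) (ls v : List Nat) (i : Nat) (k : List Nat) (a : List Nat) (j : Nat)
      (k' : List Nat), S.runI fs n st ls (S.base.map fun b => S.P.app v b) i k = some (a, j, k') →
      ∃ t, S.run fs n st ls ⟨v, i, k⟩ = some t ∧ t.i = j ∧ t.k = k' ∧
        (S.base.map fun b => S.P.app t.v b) = a := by
  intro st
  induction st with
  | nil =>
    intro ls v i k a j k' h
    simp only [Setup.runI] at h
    split at h
    · next hl =>
      simp only [Option.some.injEq, Prod.mk.injEq] at h
      exact ⟨⟨v, i, k⟩, by simp only [Setup.run, hl, if_true], h.2.1, h.2.2, h.1⟩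
    · cases h
  | cons s st ih =>
    intro ls v i k a j k' h
    cases s with
    | lett x =>
      cases ls with
      | nil => simp [Setup.runI] at h
      | cons l ls =>
        simp only [Setup.runI] at h
        split at h
        · next hc =>
          simp only [Setup.run, if_pos hc]
          exact ih _ _ _ _ _ _ _ h
        · cases h
    | stab f fwd =>
      simp only [Setup.runI] at h
      split at h
      · next hc =>
        simp only [Setup.run, if_pos (⟨hc.1, hc.2.1, hc.2.2.1⟩ :
          f < n ∧ (Setup.fget fs f).ty = 0 ∧ (Setup.fget fs f).i = i)]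
        cases fwd with
        | true =>
          simp only [if_true, stepImg_map] at h
          exact ih _ _ _ _ _ _ _ h
        | false =>
          simp only [Bool.false_eq_true, if_false, stepImg_map] at h
          exact ih _ _ _ _ _ _ _ h
      · cases h
    | edge f wu =>
      cases ls with
      | nil => simp [Setup.runI] at h
      | cons l ls =>
        simp only [Setup.runI] at h
        split at h
        · next hc =>
          obtain ⟨c1, c2, c3, -, c4, c5, c6, c7, c8⟩ := hc
          simp only [Setup.run, if_pos (⟨c1, c2, c3, c4, c5, c6, c7, c8⟩ :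
            f < n ∧ (Setup.fget fs f).ty = 1 ∧ (Setup.fget fs f).i = i ∧ S.P.g ≤ l ∧
              l < S.P.g + S.lets.length ∧ (Setup.fget fs f).e = (S.letE l).1 ∧
              (wu.all fun x => Nat.blt x (S.edge (S.letE l).1).src.length) = true ∧
              S.same (k ++ ivw (S.letE l).2)
                ((Setup.fget fs f).r ++ S.srcW (S.letE l).1 wu) = true)]
          rw [stepImg_map] at h
          exact ih _ _ _ _ _ _ _ h
        · cases h
    | coin f =>
      simp only [Setup.runI] at h
      split at h
      · next hc =>
        simp only [Setup.run, if_pos (⟨hc.1, hc.2.1, hc.2.2.1⟩ :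
          f < n ∧ (Setup.fget fs f).ty = 2 ∧ (Setup.fget fs f).i = i)]
        rw [stepImg_map] at h
        exact ih _ _ _ _ _ _ _ h
      · cases h

/-- equality of lists of numbers -/
noncomputable def eqNats : List Nat → List Nat → Bool
  | [], [] => true
  | x :: a, y :: b => Nat.beq x y && eqNats a b
  | _, _ => false

theorem eqNats_eq : ∀ {a b : List Nat}, eqNats a b = true → a = b
  | [], [], _ => rfl
  | x :: a, y :: b, h => by
    simp only [eqNats, Bool.and_eq_true, Nat.beq_eq] at h
    rw [h.1, eqNats_eq h.2]
  | [], _ :: _, h => by simp [eqNats] at h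
  | _ :: _, [], h => by simp [eqNats] at h

/-- the check: the run of a word ends with the value of `w` -/
noncomputable def Setup.okValI (fs : List Fact) (n : Nat) (st : List Step) (ls w : List Nat) :
    Bool :=
  S.okW w &&
  match S.runI fs n st ls S.base (nat_lit 0) [] with
  | some (a, i, k) =>
    Nat.beq i (nat_lit 0) && eqNats (stepImg S k a) (S.base.map fun b => S.P.app w b)
  | none => false

variable {S} {H Q : Type*} [Group H] [Group Q] (N : Model S H Q)

include N in
theorem okValI_spec (hS : S.okSetup = true) {fs : List Fact} {n : Nat}
    (hfs : ∀ f < n, N.FactOK (Setup.fget fs f)) {st : List Step} {ls w : List Nat}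
    (h : S.okValI fs n st ls w = true) : (ls.map N.gen').prod = N.wq w := by
  simp only [Setup.okValI, Bool.and_eq_true] at h
  obtain ⟨hw, h⟩ := h
  split at h
  · next a i k e =>
    simp only [Bool.and_eq_true, Nat.beq_eq] at h
    have hb : S.base = S.base.map fun b => S.P.app [] b := by simp [PermData.app]
    conv at e =>
      lhs
      rw [hb]
    obtain ⟨t, ht, hi, hk, ha⟩ := runI_spec S fs n st ls [] 0 [] a i k e
    refine val_of_run N hS hfs ht (hi.trans h.1) hw ?_
    have h2 := eqNats_eq h.2
    rw [← ha, ← hk, stepImg_map, List.map_inj_left] at h2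
    simpa [Setup.same] using h2
  · cases h

end CfsgLib.DCE
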