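import Cfsg.Agent.Lib.Spor.LyOut.Frame
import Cfsg.Agent.Lib.Recog.CarmichaelPresentation

/-!
A frame on an involution centraliser from elements satisfying Carmichael's relations modulo the
involution and the bound on the order.
-/

set_option autoImplicit false

namespace CfsgLib.Spor.LyOut

open Equiv Equiv.Perm CfsgLib.Recog

variable {G : Type*} [Group G] {t : G}

/-- The frame together with the images of the nine elements. -/
theorem exists_frame [Finite G] (h2 : t * t = 1) (hne : t ≠ 1)
    (y : Fin 9 → Subgroup.centralizer ({t} : Set G))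
    (hrel : ∀ r ∈ carmichaelRelators 9,
      ((FreeGroup.lift y r : Subgroup.centralizer ({t} : Set G)) : G) ∈ Subgroup.zpowers t)
    (hy : ∃ i, (y i : G) ∉ Subgroup.zpowers t)
    (hcard : Nat.card (Subgroup.centralizer ({t} : Set G)) ≤ 39916800) :
    ∃ Φ : Subgroup.centralizer ({t} : Set G) →* Perm (Fin 11),
      Frame t Φ ∧ ∀ i, Φ (y i) = carmichaelGen 9 i := by
  classical
  let t' : (Subgroup.centralizer ({t} : Set G)) := ⟨t, Subgroup.mem_centralizer_singleton_iff.2 rfl⟩
  let Z : Subgroup (Subgroup.centralizer ({t} : Set G)) := Subgroup.zpowers t'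
  have hZn : Z.Normal := ⟨fun x hx g => by
    obtain ⟨k, rfl⟩ := Subgroup.mem_zpowers_iff.1 hx
    have hc : Commute g t' := Subtype.ext (Subgroup.mem_centralizer_singleton_iff.1 g.2)
    rw [(hc.zpow_right k).eq, mul_inv_cancel_right]
    exact hx⟩
  have hto : orderOf t = 2 := orderOf_eq_prime (by rw [pow_two, h2]) hne
  have hZcard : Nat.card Z = 2 := by
    rw [Nat.card_zpowers, ← Subgroup.orderOf_coe, show ((t' : (Subgroup.centralizer ({t} : Set G))) : G) = t from rfl, hto]
  have hZmem : ∀ x : (Subgroup.centralizer ({t} : Set G)), x ∈ Z ↔ (x : G) ∈ Subgroup.zpowers t := fun x => by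
    simp only [Z, Subgroup.mem_zpowers_iff]
    constructor
    · rintro ⟨k, rfl⟩
      exact ⟨k, (SubgroupClass.coe_zpow t' k).symm⟩
    · rintro ⟨k, hk⟩
      exact ⟨k, Subtype.ext ((SubgroupClass.coe_zpow t' k).trans hk)⟩
  let a : Fin 9 → alternatingGroup (Fin 11) :=
    fun i => ⟨carmichaelGen 9 i, carmichaelGen_mem 9 i⟩
  let ε : PresentedGroup (carmichaelRelators 9) →* Perm (Fin 11) :=
    PresentedGroup.toGroup (lift_carmichaelGen_eq_one 9)
  have hεr : ε.range = alternatingGroup (Fin 11) := by
    refine le_antisymm ?_ ((alternatingGroup_le_closure 9 (by norm_num)).trans ?_)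
    · rw [MonoidHom.range_eq_map, ← PresentedGroup.closure_range_of, MonoidHom.map_closure,
        Subgroup.closure_le]
      rintro _ ⟨_, ⟨i, rfl⟩, rfl⟩
      simp only [ε, PresentedGroup.toGroup.of]
      exact carmichaelGen_mem 9 i
    · rw [Subgroup.closure_le]
      rintro _ ⟨i, rfl⟩
      exact ⟨PresentedGroup.of i, PresentedGroup.toGroup.of _⟩
  obtain ⟨e0⟩ := presentation_alternating 9 (by norm_num)
  haveI : Finite (PresentedGroup (carmichaelRelators 9)) := Finite.of_equiv _ e0.toEquiv.symm
  let ψ : PresentedGroup (carmichaelRelators 9) →* (Subgroup.centralizer ({t} : Set G)) ⧸ Z :=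
    PresentedGroup.toGroup (f := fun i => QuotientGroup.mk' Z (y i)) fun r hr => by
      rw [show FreeGroup.lift (fun i => QuotientGroup.mk' Z (y i)) r =
        ((QuotientGroup.mk' Z).comp (FreeGroup.lift y)) r from
          congrFun (congrArg DFunLike.coe (FreeGroup.ext_hom _ _ fun i => by simp)) r]
      exact (QuotientGroup.eq_one_iff _).2 ((hZmem _).2 (hrel r hr))
  haveI hs0 : IsSimpleGroup (alternatingGroup (Fin 11)) := alternatingGroup.isSimpleGroup (by simp)
  haveI : IsSimpleGroup (PresentedGroup (carmichaelRelators 9)) := e0.isSimpleGroup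
  have hψi : Function.Injective ψ := by
    rw [← MonoidHom.ker_eq_bot_iff]
    refine (IsSimpleGroup.eq_bot_or_eq_top_of_normal ψ.ker inferInstance).resolve_right fun h => ?_
    obtain ⟨i, hi⟩ := hy
    refine hi ?_
    have h' : ψ (PresentedGroup.of i) = 1 := MonoidHom.mem_ker.1 (h ▸ Subgroup.mem_top _)
    simp only [ψ, PresentedGroup.toGroup.of] at h'
    exact (hZmem _).1 ((QuotientGroup.eq_one_iff _).1 h')
  have hP : Nat.card (PresentedGroup (carmichaelRelators 9)) = 19958400 := by
    rw [Nat.card_congr e0.toEquiv, nat_card_alternatingGroup, Nat.card_fin]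
    decide
  have hQ : Nat.card ((Subgroup.centralizer ({t} : Set G)) ⧸ Z) ≤ 19958400 := by
    have h := Subgroup.card_eq_card_quotient_mul_card_subgroup Z
    rw [hZcard] at h
    omega
  have hψb : Function.Bijective ψ := (Nat.bijective_iff_injective_and_card ψ).2
    ⟨hψi, le_antisymm (Nat.card_le_card_of_injective ψ hψi) (hP.symm ▸ hQ)⟩
  have hεi : Function.Injective ε := by
    rw [← MonoidHom.ker_eq_bot_iff]
    refine (IsSimpleGroup.eq_bot_or_eq_top_of_normal ε.ker inferInstance).resolve_right fun h => ?_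
    have h' : carmichaelGen 9 0 = 1 := by
      have := MonoidHom.mem_ker.1 (h ▸ Subgroup.mem_top _ :
        (PresentedGroup.of 0 : PresentedGroup (carmichaelRelators 9)) ∈ ε.ker)
      simpa only [ε, PresentedGroup.toGroup.of] using this
    exact absurd h' (by decide)
  let E := MulEquiv.ofBijective ψ hψb
  let Φ : (Subgroup.centralizer ({t} : Set G)) →* Perm (Fin 11) := (ε.comp E.symm.toMonoidHom).comp (QuotientGroup.mk' Z)
  refine ⟨Φ, ⟨h2, hne, fun x => ?_, ?_⟩, fun i => ?_⟩
  · have h1 : Φ x = 1 ↔ x ∈ Z := by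
      rw [← QuotientGroup.eq_one_iff]
      simp only [Φ, MonoidHom.comp_apply, MulEquiv.coe_toMonoidHom, map_eq_one_iff ε hεi,
        map_eq_one_iff E.symm E.symm.injective]
      rfl
    rw [h1, hZmem, Subgroup.mem_zpowers_iff]
    constructor
    · rintro ⟨k, hk⟩
      rcases Int.even_or_odd' k with ⟨j, rfl | rfl⟩
      · left; rw [← hk, zpow_mul, zpow_two, h2, one_zpow]
      · right; rw [← hk, zpow_add, zpow_mul, zpow_two, h2, one_zpow, one_mul, zpow_one]
    · rintro (h | h)
      · exact ⟨0, by rw [h, zpow_zero]⟩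
      · exact ⟨1, by rw [h, zpow_one]⟩
  · rw [← hεr]
    refine le_antisymm (fun p hp => ?_) (fun p hp => ?_)
    · obtain ⟨x, rfl⟩ := hp
      exact ⟨_, rfl⟩
    · obtain ⟨z, rfl⟩ := hp
      obtain ⟨x, hx⟩ := QuotientGroup.mk'_surjective Z (E z)
      exact ⟨x, by simp only [Φ, MonoidHom.comp_apply, hx, MulEquiv.coe_toMonoidHom,
        MulEquiv.symm_apply_apply]⟩
  · simp only [Φ, MonoidHom.comp_apply, MulEquiv.coe_toMonoidHom]
    have hE : E (PresentedGroup.of i) = QuotientGroup.mk' Z (y i) := by
      show ψ (PresentedGroup.of i) = _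
      exact PresentedGroup.toGroup.of _
    rw [← hE, MulEquiv.symm_apply_apply]
    exact PresentedGroup.toGroup.of _

end CfsgLib.Spor.LyOut
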