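import Cfsg.Agent.Lib.DCE.Check

/-!
Recorded runs proving Carmichael's relations modulo `a^4` for the nine elements (generated data).
-/

namespace CfsgLib.Spor.LyOut

open CfsgLib.DCE

/-- steps of relation 0 -/
def crun0 : List Step :=
  [.lett 3, .lett 3, .stab 1 false, .stab 1 false, .edge 4 [], .lett 1, .lett 6, .edge 13 [5],
    .lett 1, .lett 2, .lett 2, .lett 6, .lett 3, .lett 3, .edge 23 [], .lett 1, .lett 6,
    .stab 29 false, .stab 26 false, .stab 29 false, .edge 37 [], .coin 38, .lett 1, .lett 2,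
    .lett 2, .lett 6, .lett 3, .lett 3, .stab 16 false, .stab 15 false, .stab 17 false,
    .stab 17 false, .stab 16 false, .stab 17 false, .edge 19 [5,5,5,6,5,7], .coin 20, .lett 1,
    .lett 6, .edge 11 [0,0,6,1,2,7,5,7], .coin 12, .lett 1, .lett 2, .lett 2, .lett 6, .lett 1,
    .lett 1, .lett 1, .lett 1]

/-- steps of relation 1 -/
def crun1 : List Step :=
  [.lett 3, .lett 3, .lett 4, .lett 0, .lett 4, .lett 1, .lett 5, .lett 0, .lett 5, .lett 6,
    .stab 1 false, .stab 2 false, .stab 0 false, .stab 3 false, .stab 1 false, .stab 0 false,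
    .stab 2 false, .stab 0 false, .stab 1 false, .stab 2 false, .stab 3 false,
    .edge 4 [4,6,7,0,0,0], .lett 1, .lett 6, .lett 0, .stab 7 false, .stab 7 false, .stab 7 false,
    .stab 6 false, .stab 7 false, .stab 8 false, .stab 6 false, .stab 5 false, .stab 7 false,
    .edge 13 [7,5,7], .lett 1, .lett 2, .lett 2, .lett 6, .lett 4, .lett 0, .lett 4, .lett 1,
    .lett 5, .lett 0, .lett 5, .lett 0, .lett 3, .lett 3, .lett 4, .lett 0, .lett 4, .lett 1,
    .lett 5, .lett 0, .lett 5, .lett 6, .edge 19 [7,5,7], .coin 20, .lett 1, .lett 6, .lett 0,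
    .edge 11 [1,7,1,2,6,7,5], .coin 12, .lett 1, .lett 2, .lett 2, .lett 6, .lett 4, .lett 0,
    .lett 4, .lett 1, .lett 5, .lett 0, .lett 5, .lett 0, .lett 1, .lett 1, .lett 1, .lett 1]

/-- steps of relation 2 -/
def crun2 : List Step :=
  [.lett 2, .lett 1, .lett 2, .lett 4, .lett 0, .lett 4, .lett 1, .lett 5, .lett 0, .lett 5,
    .lett 0, .stab 1 false, .stab 1 false, .edge 4 [5,5,4,7,6,5], .lett 1, .lett 6, .lett 3,
    .stab 8 false, .stab 7 false, .stab 8 false, .stab 6 false, .stab 7 false, .stab 8 false,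
    .stab 7 false, .stab 8 false, .stab 7 false, .stab 7 false, .edge 41 [5,5,5,5,6], .lett 1,
    .lett 6, .lett 4, .lett 0, .lett 4, .lett 1, .lett 5, .lett 0, .lett 5, .lett 3,
    .stab 50 false, .stab 44 false, .stab 43 false, .stab 44 false, .edge 48 [5,4,7,5], .lett 1,
    .edge 48 [5,4,5,6,7], .lett 1, .lett 2, .lett 1, .lett 2, .lett 4, .lett 0, .lett 4, .lett 1,
    .lett 5, .lett 0, .lett 5, .lett 0, .edge 71 [5,5,6,5,7,6], .coin 72, .lett 1, .lett 6,
    .lett 3, .edge 11 [3,2,2,7,6,1], .coin 12, .lett 1, .lett 6, .lett 4, .lett 0, .lett 4,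
    .lett 1, .lett 5, .lett 0, .lett 5, .lett 3, .stab 1 false, .stab 0 false, .stab 3 false,
    .stab 1 false, .stab 1 false, .stab 0 false, .stab 1 false, .stab 2 false, .stab 3 false,
    .edge 4 [1,5,6,7,0,5,7,2], .lett 1, .edge 11 [5,3,3,6,1,5,6], .coin 12, .lett 1, .lett 1,
    .lett 1, .lett 1, .lett 1]

/-- steps of relation 3 -/
def crun3 : List Step :=
  [.lett 1, .lett 3, .lett 1, .lett 3, .lett 4, .lett 0, .lett 4, .lett 1, .lett 5, .lett 0,
    .lett 5, .stab 1 false, .stab 1 false, .edge 4 [5,4,5,5,5,7,6,5], .lett 1, .lett 6, .lett 3,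
    .stab 7 false, .stab 8 false, .stab 6 false, .stab 7 false, .stab 8 false, .stab 7 false,
    .stab 8 false, .stab 7 false, .stab 7 false, .edge 41 [5,5,5,5,6,7], .lett 1, .lett 1,
    .lett 3, .lett 6, .lett 4, .lett 0, .lett 4, .lett 1, .lett 5, .lett 0, .lett 5, .lett 1,
    .lett 1, .lett 3, .lett 1, .lett 3, .lett 4, .lett 0, .lett 4, .lett 1, .lett 5, .lett 0,
    .lett 5, .stab 44 false, .stab 43 false, .stab 44 false, .edge 71 [6,7,6], .coin 72, .lett 1,
    .lett 6, .lett 3, .edge 11 [2,4,6,1], .coin 12, .lett 1, .lett 1, .lett 3, .lett 6, .lett 4,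
    .lett 0, .lett 4, .lett 1, .lett 5, .lett 0, .lett 5, .lett 1, .lett 1, .lett 1, .lett 1,
    .lett 1]

/-- steps of relation 4 -/
def crun4 : List Step :=
  [.lett 1, .lett 1, .lett 3, .lett 4, .lett 0, .lett 4, .lett 1, .lett 5, .lett 0, .lett 5,
    .lett 3, .stab 1 false, .stab 1 false, .edge 4 [5,4,5,5,5,5,5,6], .lett 1, .lett 2, .lett 0,
    .lett 2, .lett 6, .stab 7 false, .stab 6 false, .stab 5 false, .stab 7 false, .stab 8 false,
    .stab 6 false, .stab 7 false, .stab 7 false, .stab 8 false, .stab 7 false,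
    .edge 41 [5,5,5,7,6], .lett 1, .lett 6, .lett 4, .lett 0, .lett 4, .lett 1, .lett 5, .lett 0,
    .lett 5, .lett 1, .lett 1, .lett 1, .lett 3, .lett 4, .lett 0, .lett 4, .lett 1, .lett 5,
    .lett 0, .lett 5, .lett 3, .stab 44 false, .stab 43 false, .stab 44 false, .edge 71 [5,5,6],
    .coin 72, .lett 1, .lett 2, .lett 0, .lett 2, .lett 6, .edge 11 [0,1,5,7,1,6,1,5], .coin 12,
    .lett 1, .lett 6, .lett 4, .lett 0, .lett 4, .lett 1, .lett 5, .lett 0, .lett 5, .lett 1,
    .lett 1, .lett 1, .lett 1, .lett 1]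

/-- steps of relation 5 -/
def crun5 : List Step :=
  [.lett 3, .lett 3, .lett 1, .stab 1 false, .stab 1 false, .edge 4 [7,5,7], .lett 1, .lett 2,
    .lett 2, .lett 3, .lett 3, .lett 1, .edge 11 [5], .coin 12, .lett 1, .lett 2, .lett 2,
    .lett 1, .lett 1, .lett 1, .lett 1]

/-- steps of relation 6 -/
def crun6 : List Step :=
  [.lett 3, .lett 4, .lett 0, .lett 4, .lett 1, .lett 5, .lett 0, .lett 5, .lett 3,
    .stab 1 false, .stab 1 false, .edge 4 [4,4,6], .lett 1, .lett 2, .lett 6, .stab 7 false,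
    .stab 8 false, .stab 7 false, .stab 6 false, .stab 8 false, .stab 7 false, .stab 6 false,
    .stab 5 false, .stab 7 false, .stab 7 false, .edge 41 [5,6,5,7], .lett 1, .lett 1, .lett 2,
    .lett 6, .lett 4, .lett 0, .lett 4, .lett 1, .lett 5, .lett 0, .lett 5, .lett 0, .lett 3,
    .lett 4, .lett 0, .lett 4, .lett 1, .lett 5, .lett 0, .lett 5, .lett 3, .stab 44 false,
    .stab 43 false, .stab 44 false, .edge 71 [5,5,5,5,5], .coin 72, .lett 1, .lett 2, .lett 6,
    .edge 11 [5,6,7,6,2,6,5,2,6], .coin 12, .lett 1, .lett 1, .lett 2, .lett 6, .lett 4, .lett 0,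
    .lett 4, .lett 1, .lett 5, .lett 0, .lett 5, .lett 0, .lett 1, .lett 1, .lett 1, .lett 1]

/-- steps of relation 7 -/
def crun7 : List Step :=
  [.lett 3, .lett 4, .lett 0, .lett 4, .lett 1, .lett 5, .lett 0, .lett 5, .lett 3, .lett 0,
    .stab 1 false, .stab 1 false, .edge 4 [4,4,6,5], .lett 1, .lett 6, .lett 3, .stab 7 false,
    .stab 8 false, .stab 7 false, .stab 8 false, .stab 7 false, .stab 7 false, .stab 8 false,
    .stab 7 false, .stab 7 false, .edge 41 [7,6], .lett 1, .lett 6, .lett 4, .lett 0, .lett 4,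
    .lett 1, .lett 5, .lett 0, .lett 5, .lett 3, .lett 0, .lett 3, .lett 4, .lett 0, .lett 4,
    .lett 1, .lett 5, .lett 0, .lett 5, .lett 3, .lett 0, .stab 44 false, .stab 43 false,
    .stab 44 false, .edge 71 [5,5,6,7,5,6,5], .coin 72, .lett 1, .lett 6, .lett 3,
    .edge 11 [6,7,3,6,7,3,6], .coin 12, .lett 1, .lett 6, .lett 4, .lett 0, .lett 4, .lett 1,
    .lett 5, .lett 0, .lett 5, .lett 3, .lett 0, .lett 1, .lett 1, .lett 1, .lett 1]

/-- steps of relation 8 -/
def crun8 : List Step :=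
  [.lett 0, .lett 2, .lett 4, .lett 0, .lett 4, .lett 1, .lett 5, .lett 0, .lett 5, .lett 2,
    .stab 1 false, .stab 1 false, .edge 4 [4,5,5,5,5,6,5], .lett 1, .lett 6, .lett 3,
    .stab 8 false, .stab 7 false, .stab 8 false, .stab 7 false, .stab 8 false, .stab 7 false,
    .stab 7 false, .stab 8 false, .stab 7 false, .stab 7 false, .edge 41 [5,5,5,5,6,7,6], .lett 1,
    .lett 1, .lett 3, .lett 6, .lett 4, .lett 0, .lett 4, .lett 1, .lett 5, .lett 0, .lett 5,
    .lett 0, .lett 2, .lett 4, .lett 0, .lett 4, .lett 1, .lett 5, .lett 0, .lett 5, .lett 2,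
    .stab 44 false, .stab 43 false, .stab 44 false, .edge 71 [5,5,7,6,5,7], .coin 72, .lett 1,
    .lett 6, .lett 3, .edge 11 [2,4,6,1,6], .coin 12, .lett 1, .lett 1, .lett 3, .lett 6, .lett 4,
    .lett 0, .lett 4, .lett 1, .lett 5, .lett 0, .lett 5, .lett 1, .lett 1, .lett 1, .lett 1]

/-- steps of relation 9 -/
def crun9 : List Step :=
  [.lett 3, .lett 3, .stab 1 false, .stab 1 false, .edge 4 [], .lett 1, .lett 6, .edge 13 [5],
    .lett 1, .lett 2, .lett 2, .lett 6, .lett 3, .lett 3, .lett 4, .lett 0, .lett 4, .lett 1,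
    .lett 5, .lett 0, .lett 5, .lett 6, .stab 17 false, .stab 17 false, .stab 14 false,
    .stab 17 false, .stab 15 false, .edge 22 [3,6,5,7,1,6,5,7,5], .lett 1, .lett 6, .lett 0,
    .stab 16 false, .stab 16 false, .stab 17 false, .stab 17 false, .stab 17 false,
    .edge 23 [7,5,4], .lett 1, .lett 2, .lett 2, .lett 6, .lett 4, .lett 0, .lett 4, .lett 1,
    .lett 5, .lett 0, .lett 5, .lett 0, .lett 3, .lett 3, .stab 29 false, .stab 29 false,
    .stab 25 false, .stab 29 false, .edge 37 [4,7,6], .coin 38, .lett 1, .lett 6, .stab 16 false,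
    .stab 17 false, .stab 16 false, .edge 22 [3,5,5,7,6,1,5,5], .lett 1, .lett 2, .lett 2,
    .lett 6, .lett 3, .lett 3, .lett 4, .lett 0, .lett 4, .lett 1, .lett 5, .lett 0, .lett 5,
    .lett 6, .stab 16 false, .stab 17 false, .stab 16 false, .stab 14 false,
    .edge 22 [3,5,5,5,6,1,1,7], .lett 1, .lett 6, .lett 0, .stab 16 false, .stab 16 false,
    .stab 17 false, .stab 17 false, .stab 17 false, .edge 23 [5,5,4,7,6], .lett 1, .lett 2,
    .lett 2, .lett 6, .lett 4, .lett 0, .lett 4, .lett 1, .lett 5, .lett 0, .lett 5, .lett 0,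
    .lett 3, .lett 3, .stab 29 false, .stab 29 false, .stab 25 false, .stab 29 false,
    .edge 37 [5,7,6,4,5], .coin 38, .lett 1, .lett 6, .stab 17 false, .stab 17 false,
    .stab 15 false, .stab 15 false, .stab 14 false, .edge 22 [3,5,5,5,5,6,7,0,6], .lett 1,
    .lett 2, .lett 2, .lett 6, .lett 3, .lett 3, .lett 4, .lett 0, .lett 4, .lett 1, .lett 5,
    .lett 0, .lett 5, .lett 6, .stab 16 false, .stab 16 false, .stab 17 false, .stab 17 false,
    .stab 17 false, .edge 19 [5,5,5,5,5,6], .coin 20, .lett 1, .lett 6, .lett 0,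
    .edge 11 [1,7,1,2,6,7,6,5], .coin 12, .lett 1, .lett 2, .lett 2, .lett 6, .lett 4, .lett 0,
    .lett 4, .lett 1, .lett 5, .lett 0, .lett 5, .lett 0]

/-- steps of relation 10 -/
def crun10 : List Step :=
  [.lett 3, .lett 3, .lett 4, .lett 0, .lett 4, .lett 1, .lett 5, .lett 0, .lett 5, .lett 6,
    .stab 1 false, .stab 2 false, .stab 0 false, .stab 3 false, .stab 1 false, .stab 0 false,
    .stab 2 false, .stab 0 false, .stab 1 false, .stab 2 false, .stab 3 false,
    .edge 4 [4,6,7,0,0,0], .lett 1, .lett 6, .lett 0, .stab 7 false, .stab 7 false, .stab 7 false,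
    .stab 6 false, .stab 7 false, .stab 8 false, .stab 6 false, .stab 5 false, .stab 7 false,
    .edge 13 [7,5,7], .lett 1, .lett 2, .lett 2, .lett 6, .lett 4, .lett 0, .lett 4, .lett 1,
    .lett 5, .lett 0, .lett 5, .lett 0, .lett 2, .lett 1, .lett 2, .lett 4, .lett 0, .lett 4,
    .lett 1, .lett 5, .lett 0, .lett 5, .lett 0, .edge 23 [5,7,5,4,6,5], .lett 1, .lett 6,
    .lett 3, .stab 25 false, .stab 24 false, .stab 24 false, .stab 29 false, .edge 37 [6,7,6,4],
    .coin 38, .lett 1, .lett 6, .lett 4, .lett 0, .lett 4, .lett 1, .lett 5, .lett 0, .lett 5,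
    .lett 3, .stab 16 false, .stab 17 false, .stab 17 false, .stab 15 false, .stab 17 false,
    .edge 32 [7,3,5,3,5,5,6], .lett 1, .stab 25 false, .stab 26 false, .stab 25 false,
    .stab 29 false, .stab 29 false, .edge 75 [1,0,6,3,5,6,7], .coin 76, .lett 1, .lett 3, .lett 3,
    .lett 4, .lett 0, .lett 4, .lett 1, .lett 5, .lett 0, .lett 5, .lett 6, .stab 17 false,
    .stab 17 false, .stab 16 false, .stab 17 false, .stab 17 false, .stab 15 false,
    .stab 14 false, .edge 32 [6,2,7,5,0,3,7], .lett 1, .lett 6, .lett 0, .stab 24 false,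
    .stab 26 false, .stab 25 false, .edge 69 [0,5,6,5,3,6,5,3], .lett 1, .lett 2, .lett 2,
    .lett 6, .lett 4, .lett 0, .lett 4, .lett 1, .lett 5, .lett 0, .lett 5, .lett 0, .lett 2,
    .lett 1, .lett 2, .lett 4, .lett 0, .lett 4, .lett 1, .lett 5, .lett 0, .lett 5, .lett 0,
    .stab 50 false, .stab 43 false, .stab 42 false, .stab 44 false, .edge 71 [5,7,4,5,6,7],
    .coin 72, .lett 1, .lett 6, .lett 3, .stab 6 false, .stab 5 false, .stab 7 false,
    .stab 7 false, .stab 8 false, .stab 7 false, .stab 8 false, .stab 7 false,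
    .edge 13 [5,5,4,6,7,5,6], .lett 1, .lett 6, .lett 4, .lett 0, .lett 4, .lett 1, .lett 5,
    .lett 0, .lett 5, .lett 3, .stab 17 false, .stab 16 false, .stab 17 false, .stab 17 false,
    .stab 15 false, .stab 14 false, .edge 32 [7,3,4,5,3,7], .lett 1, .stab 25 false,
    .stab 26 false, .stab 25 false, .stab 29 false, .stab 29 false, .edge 75 [7,2,6,7,6,2,5,6],
    .coin 76, .lett 1, .lett 3, .lett 3, .lett 4, .lett 0, .lett 4, .lett 1, .lett 5, .lett 0,
    .lett 5, .lett 6, .stab 15 false, .stab 17 false, .stab 16 false, .stab 14 false,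
    .stab 17 false, .stab 14 false, .edge 32 [0,5,6,7,6,5,2,1,6], .lett 1, .lett 6, .lett 0,
    .stab 24 false, .stab 26 false, .stab 25 false, .edge 69 [1,5,7,6,3,7,5,6,3,5], .lett 1,
    .lett 2, .lett 2, .lett 6, .lett 4, .lett 0, .lett 4, .lett 1, .lett 5, .lett 0, .lett 5,
    .lett 0, .lett 2, .lett 1, .lett 2, .lett 4, .lett 0, .lett 4, .lett 1, .lett 5, .lett 0,
    .lett 5, .lett 0, .stab 50 false, .stab 43 false, .stab 42 false, .stab 44 false,
    .edge 71 [5,5,6,7,5,6,5], .coin 72, .lett 1, .lett 6, .lett 3, .edge 11 [6,7,3,6,7,3,6],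
    .coin 12, .lett 1, .lett 6, .lett 4, .lett 0, .lett 4, .lett 1, .lett 5, .lett 0, .lett 5,
    .lett 3, .stab 1 false, .stab 0 false, .stab 3 false, .stab 1 false, .stab 1 false,
    .stab 0 false, .stab 1 false, .stab 2 false, .stab 3 false, .edge 4 [5,5,6,0,5,7,3,6,3],
    .lett 1, .edge 11 [6,5,2,6,1,2,7,6], .coin 12, .lett 1]

/-- steps of relation 11 -/
def crun11 : List Step :=
  [.lett 2, .lett 1, .lett 2, .lett 4, .lett 0, .lett 4, .lett 1, .lett 5, .lett 0, .lett 5,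
    .lett 0, .stab 1 false, .stab 1 false, .edge 4 [5,5,4,7,6,5], .lett 1, .lett 6, .lett 3,
    .stab 8 false, .stab 7 false, .stab 8 false, .stab 6 false, .stab 7 false, .stab 8 false,
    .stab 7 false, .stab 8 false, .stab 7 false, .stab 7 false, .edge 41 [5,5,5,5,6], .lett 1,
    .lett 6, .lett 4, .lett 0, .lett 4, .lett 1, .lett 5, .lett 0, .lett 5, .lett 3,
    .stab 50 false, .stab 44 false, .stab 43 false, .stab 44 false, .edge 48 [5,4,7,5], .lett 1,
    .edge 48 [5,4,5,6,7], .lett 1, .lett 1, .lett 3, .lett 1, .lett 3, .lett 4, .lett 0, .lett 4,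
    .lett 1, .lett 5, .lett 0, .lett 5, .edge 71 [6,7,5,4,6], .coin 72, .lett 1, .lett 6, .lett 3,
    .stab 6 false, .stab 8 false, .stab 5 false, .stab 7 false, .stab 8 false, .stab 7 false,
    .stab 7 false, .edge 13 [5,5,5,4,6,5], .lett 1, .lett 1, .lett 3, .lett 6, .lett 4, .lett 0,
    .lett 4, .lett 1, .lett 5, .lett 0, .lett 5, .lett 1, .lett 2, .lett 1, .lett 2, .lett 4,
    .lett 0, .lett 4, .lett 1, .lett 5, .lett 0, .lett 5, .lett 0, .stab 17 false, .stab 16 false,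
    .stab 15 false, .stab 14 false, .stab 17 false, .stab 17 false, .stab 15 false,
    .stab 14 false, .edge 32 [0,3,0,6,1,7], .lett 1, .lett 6, .lett 3, .stab 24 false,
    .stab 24 false, .stab 29 false, .stab 25 false, .stab 25 false, .stab 24 false,
    .edge 75 [1,6,2,4,5], .coin 76, .lett 1, .lett 6, .lett 4, .lett 0, .lett 4, .lett 1, .lett 5,
    .lett 0, .lett 5, .lett 3, .stab 17 false, .stab 15 false, .edge 18 [4,6,5,7,6], .lett 1,
    .stab 16 false, .stab 17 false, .stab 15 false, .edge 18 [5,7,6,4,5], .lett 1, .lett 1,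
    .lett 3, .lett 1, .lett 3, .lett 4, .lett 0, .lett 4, .lett 1, .lett 5, .lett 0, .lett 5,
    .stab 16 false, .stab 17 false, .edge 23 [5,5,4,6,5,7,6], .lett 1, .lett 6, .lett 3,
    .stab 25 false, .stab 24 false, .stab 29 false, .edge 37 [5,5,6,4,7,6], .coin 38, .lett 1,
    .lett 1, .lett 3, .lett 6, .lett 4, .lett 0, .lett 4, .lett 1, .lett 5, .lett 0, .lett 5,
    .lett 1, .lett 2, .lett 1, .lett 2, .lett 4, .lett 0, .lett 4, .lett 1, .lett 5, .lett 0,
    .lett 5, .lett 0, .stab 17 false, .stab 15 false, .stab 15 false, .stab 15 false,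
    .stab 17 false, .stab 14 false, .edge 32 [3,6,1,5,7,0,5], .lett 1, .lett 6, .lett 3,
    .stab 26 false, .stab 25 false, .stab 29 false, .edge 69 [1,6,5,3,6,7,5], .lett 1, .lett 6,
    .lett 4, .lett 0, .lett 4, .lett 1, .lett 5, .lett 0, .lett 5, .lett 3, .stab 43 false,
    .stab 50 false, .stab 44 false, .stab 43 false, .edge 48 [4,5,7,5], .lett 1,
    .edge 48 [4,5,5,6,7], .lett 1, .lett 1, .lett 3, .lett 1, .lett 3, .lett 4, .lett 0, .lett 4,
    .lett 1, .lett 5, .lett 0, .lett 5, .edge 71 [6,7,5,6], .coin 72, .lett 1, .lett 6, .lett 3,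
    .edge 11 [1,2,5,3,7,2,5,6], .coin 12, .lett 1, .lett 1, .lett 3, .lett 6, .lett 4, .lett 0,
    .lett 4, .lett 1, .lett 5, .lett 0, .lett 5, .lett 1, .lett 1, .lett 1, .lett 1, .lett 1]

/-- steps of relation 12 -/
def crun12 : List Step :=
  [.lett 1, .lett 3, .lett 1, .lett 3, .lett 4, .lett 0, .lett 4, .lett 1, .lett 5, .lett 0,
    .lett 5, .stab 1 false, .stab 1 false, .edge 4 [5,4,5,5,5,7,6,5], .lett 1, .lett 6, .lett 3,
    .stab 7 false, .stab 8 false, .stab 6 false, .stab 7 false, .stab 8 false, .stab 7 false,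
    .stab 8 false, .stab 7 false, .stab 7 false, .edge 41 [5,5,5,5,6,7], .lett 1, .lett 1,
    .lett 3, .lett 6, .lett 4, .lett 0, .lett 4, .lett 1, .lett 5, .lett 0, .lett 5, .lett 1,
    .lett 1, .lett 1, .lett 3, .lett 4, .lett 0, .lett 4, .lett 1, .lett 5, .lett 0, .lett 5,
    .lett 3, .stab 44 false, .stab 43 false, .stab 44 false, .edge 71 [5,5,5,6,7,6,5], .coin 72,
    .lett 1, .lett 2, .lett 0, .lett 2, .lett 6, .edge 10 [0,4,5,7,5,6,3], .lett 1, .lett 6,
    .lett 4, .lett 0, .lett 4, .lett 1, .lett 5, .lett 0, .lett 5, .lett 1, .lett 1, .lett 3,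
    .lett 1, .lett 3, .lett 4, .lett 0, .lett 4, .lett 1, .lett 5, .lett 0, .lett 5,
    .stab 7 false, .stab 8 false, .stab 7 false, .stab 6 false, .stab 7 false, .stab 6 false,
    .stab 6 false, .stab 7 false, .stab 6 false, .stab 6 false, .stab 6 false,
    .edge 41 [5,6,7,5,6], .lett 1, .lett 6, .lett 3, .stab 44 false, .stab 43 false,
    .stab 44 false, .edge 71 [5,5,7,5], .coin 72, .lett 1, .lett 1, .lett 3, .lett 6, .lett 4,
    .lett 0, .lett 4, .lett 1, .lett 5, .lett 0, .lett 5, .lett 1, .lett 1, .lett 1, .lett 3,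
    .lett 4, .lett 0, .lett 4, .lett 1, .lett 5, .lett 0, .lett 5, .lett 3,
    .edge 11 [1,5,7,5,3,5,2], .coin 12, .lett 1, .lett 2, .lett 0, .lett 2, .lett 6,
    .stab 1 false, .stab 1 false, .stab 2 false, .stab 0 false, .stab 3 false, .stab 0 false,
    .stab 2 false, .stab 3 false, .edge 4 [1,5,6,1,5,5,3,7], .lett 1, .lett 6, .lett 4, .lett 0,
    .lett 4, .lett 1, .lett 5, .lett 0, .lett 5, .lett 1, .lett 1, .lett 3, .lett 1, .lett 3,
    .lett 4, .lett 0, .lett 4, .lett 1, .lett 5, .lett 0, .lett 5, .stab 7 false, .stab 8 false,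
    .stab 6 false, .stab 6 false, .stab 7 false, .stab 6 false, .stab 6 false, .stab 5 false,
    .stab 7 false, .edge 41 [5,7,6,5], .lett 1, .lett 6, .lett 3, .stab 44 false, .stab 43 false,
    .stab 44 false, .edge 48 [5,5,5,5,6], .lett 1, .lett 1, .lett 3, .lett 6, .lett 4, .lett 0,
    .lett 4, .lett 1, .lett 5, .lett 0, .lett 5, .lett 1, .lett 1, .lett 1, .lett 3, .lett 4,
    .lett 0, .lett 4, .lett 1, .lett 5, .lett 0, .lett 5, .lett 3, .stab 44 false, .stab 43 false,
    .stab 44 false, .edge 71 [5,6,7,5,6,5], .coin 72, .lett 1, .lett 2, .lett 0, .lett 2, .lett 6,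
    .edge 11 [2,4,6,1,5,7,6,5], .coin 12, .lett 1, .lett 6, .lett 4, .lett 0, .lett 4, .lett 1,
    .lett 5, .lett 0, .lett 5, .lett 1, .lett 1, .lett 1, .lett 1, .lett 1]

/-- steps of relation 13 -/
def crun13 : List Step :=
  [.lett 1, .lett 1, .lett 3, .lett 4, .lett 0, .lett 4, .lett 1, .lett 5, .lett 0, .lett 5,
    .lett 3, .stab 1 false, .stab 1 false, .edge 4 [5,4,5,5,5,5,5,6], .lett 1, .lett 2, .lett 0,
    .lett 2, .lett 6, .stab 7 false, .stab 6 false, .stab 5 false, .stab 7 false, .stab 8 false,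
    .stab 6 false, .stab 7 false, .stab 7 false, .stab 8 false, .stab 7 false,
    .edge 41 [5,5,5,7,6], .lett 1, .lett 6, .lett 4, .lett 0, .lett 4, .lett 1, .lett 5, .lett 0,
    .lett 5, .lett 1, .lett 3, .lett 3, .lett 1, .stab 44 false, .stab 43 false, .stab 44 false,
    .edge 71 [5,5,5,4], .coin 72, .lett 1, .lett 2, .lett 2, .lett 1, .lett 1, .lett 3, .lett 4,
    .lett 0, .lett 4, .lett 1, .lett 5, .lett 0, .lett 5, .lett 3, .stab 6 false, .stab 7 false,
    .stab 8 false, .stab 5 false, .stab 7 false, .stab 6 false, .edge 41 [5,7,5,6,7], .lett 1,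
    .lett 2, .lett 0, .lett 2, .lett 6, .stab 44 false, .stab 43 false, .stab 44 false,
    .edge 48 [5,6,5], .lett 1, .lett 6, .lett 4, .lett 0, .lett 4, .lett 1, .lett 5, .lett 0,
    .lett 5, .lett 1, .lett 3, .lett 3, .lett 1, .stab 44 false, .stab 43 false, .stab 44 false,
    .edge 71 [5,5,5,4,5,5,6,5], .coin 72, .lett 1, .lett 2, .lett 2, .lett 1, .lett 1, .lett 3,
    .lett 4, .lett 0, .lett 4, .lett 1, .lett 5, .lett 0, .lett 5, .lett 3, .stab 6 false,
    .stab 7 false, .stab 8 false, .stab 5 false, .stab 7 false, .stab 6 false,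
    .edge 41 [6,7,5,6,5], .lett 1, .lett 2, .lett 0, .lett 2, .lett 6, .stab 44 false,
    .stab 43 false, .stab 44 false, .edge 71 [5,5,6], .coin 72, .lett 1, .lett 6, .lett 4,
    .lett 0, .lett 4, .lett 1, .lett 5, .lett 0, .lett 5, .lett 1, .lett 3, .lett 3, .lett 1,
    .edge 11 [2,6,1,5,5,4,6], .coin 12, .lett 1, .lett 2, .lett 2, .lett 1, .lett 1, .lett 1,
    .lett 1]

/-- steps of relation 14 -/
def crun14 : List Step :=
  [.lett 3, .lett 3, .lett 1, .stab 1 false, .stab 1 false, .edge 4 [7,5,7], .lett 1, .lett 2,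
    .lett 2, .lett 3, .lett 4, .lett 0, .lett 4, .lett 1, .lett 5, .lett 0, .lett 5, .lett 3,
    .edge 11 [5,4,5,6], .coin 12, .lett 1, .lett 2, .lett 6, .stab 3 false, .stab 2 false,
    .stab 0 false, .stab 0 false, .stab 0 false, .stab 2 false, .stab 1 false, .stab 2 false,
    .stab 3 false, .edge 4 [5,5,5,3,7,6,5], .lett 1, .lett 1, .lett 2, .lett 6, .lett 4, .lett 0,
    .lett 4, .lett 1, .lett 5, .lett 0, .lett 5, .lett 0, .lett 3, .lett 3, .lett 1,
    .stab 6 false, .stab 6 false, .stab 7 false, .stab 7 false, .stab 8 false, .stab 7 false,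
    .stab 6 false, .stab 7 false, .stab 8 false, .stab 6 false, .stab 7 false, .edge 41 [7,4,6,5],
    .lett 1, .lett 2, .lett 2, .lett 3, .lett 4, .lett 0, .lett 4, .lett 1, .lett 5, .lett 0,
    .lett 5, .lett 3, .edge 71 [7,6,5], .coin 72, .lett 1, .lett 2, .lett 6, .stab 6 false,
    .stab 6 false, .stab 6 false, .edge 10 [1,2,3,7,4,5,2], .lett 1, .lett 1, .lett 2, .lett 6,
    .lett 4, .lett 0, .lett 4, .lett 1, .lett 5, .lett 0, .lett 5, .lett 0, .lett 3, .lett 3,
    .lett 1, .stab 7 false, .stab 7 false, .stab 8 false, .stab 6 false, .stab 6 false,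
    .stab 5 false, .stab 7 false, .stab 6 false, .edge 41 [5,4,5,5,5,6,7,6], .lett 1, .lett 2,
    .lett 2, .lett 3, .lett 4, .lett 0, .lett 4, .lett 1, .lett 5, .lett 0, .lett 5, .lett 3,
    .edge 71 [5,6,7], .coin 72, .lett 1, .lett 2, .lett 6, .edge 11 [2,4,7,5,6,1,7,5], .coin 12,
    .lett 1, .lett 1, .lett 2, .lett 6, .lett 4, .lett 0, .lett 4, .lett 1, .lett 5, .lett 0,
    .lett 5, .lett 0, .lett 1, .lett 1, .lett 1, .lett 1]

/-- steps of relation 15 -/
def crun15 : List Step :=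
  [.lett 3, .lett 4, .lett 0, .lett 4, .lett 1, .lett 5, .lett 0, .lett 5, .lett 3,
    .stab 1 false, .stab 1 false, .edge 4 [4,4,6], .lett 1, .lett 2, .lett 6, .stab 7 false,
    .stab 8 false, .stab 7 false, .stab 6 false, .stab 8 false, .stab 7 false, .stab 6 false,
    .stab 5 false, .stab 7 false, .stab 7 false, .edge 41 [5,6,5,7], .lett 1, .lett 1, .lett 2,
    .lett 6, .lett 4, .lett 0, .lett 4, .lett 1, .lett 5, .lett 0, .lett 5, .lett 0, .lett 3,
    .lett 4, .lett 0, .lett 4, .lett 1, .lett 5, .lett 0, .lett 5, .lett 3, .lett 0,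
    .stab 44 false, .stab 43 false, .stab 44 false, .edge 71 [5,5,5,5,5,5], .coin 72, .lett 1,
    .lett 6, .lett 3, .stab 6 false, .stab 6 false, .stab 6 false, .edge 10 [1,2,5,4,6,5,2],
    .lett 1, .lett 6, .lett 4, .lett 0, .lett 4, .lett 1, .lett 5, .lett 0, .lett 5, .lett 3,
    .lett 0, .lett 3, .lett 4, .lett 0, .lett 4, .lett 1, .lett 5, .lett 0, .lett 5, .lett 3,
    .stab 7 false, .stab 7 false, .stab 8 false, .stab 6 false, .stab 6 false, .stab 5 false,
    .stab 7 false, .stab 6 false, .edge 41 [5,5,5,5,5,5,6], .lett 1, .lett 2, .lett 6,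
    .stab 44 false, .stab 43 false, .stab 44 false, .edge 71 [6,7], .coin 72, .lett 1, .lett 1,
    .lett 2, .lett 6, .lett 4, .lett 0, .lett 4, .lett 1, .lett 5, .lett 0, .lett 5, .lett 0,
    .lett 3, .lett 4, .lett 0, .lett 4, .lett 1, .lett 5, .lett 0, .lett 5, .lett 3, .lett 0,
    .edge 11 [2,4,6,1,7,5], .coin 12, .lett 1, .lett 6, .lett 3, .stab 2 false, .stab 1 false,
    .stab 2 false, .stab 3 false, .stab 1 false, .stab 1 false, .stab 0 false, .stab 2 false,
    .stab 3 false, .edge 4 [5,7,2,6,5,7,1,6,5], .lett 1, .lett 6, .lett 4, .lett 0, .lett 4,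
    .lett 1, .lett 5, .lett 0, .lett 5, .lett 3, .lett 0, .lett 3, .lett 4, .lett 0, .lett 4,
    .lett 1, .lett 5, .lett 0, .lett 5, .lett 3, .stab 5 false, .stab 7 false, .stab 6 false,
    .stab 5 false, .stab 7 false, .stab 6 false, .stab 6 false, .stab 7 false, .stab 6 false,
    .stab 6 false, .edge 41 [5,6,5,7,6,5], .lett 1, .lett 2, .lett 6, .stab 50 false,
    .stab 44 false, .stab 43 false, .stab 44 false, .edge 48 [5,5,5,6,7], .lett 1, .lett 1,
    .lett 2, .lett 6, .lett 4, .lett 0, .lett 4, .lett 1, .lett 5, .lett 0, .lett 5, .lett 0,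
    .lett 3, .lett 4, .lett 0, .lett 4, .lett 1, .lett 5, .lett 0, .lett 5, .lett 3, .lett 0,
    .stab 44 false, .stab 43 false, .stab 44 false, .edge 71 [5,5,6,5,7,6,5], .coin 72, .lett 1,
    .lett 6, .lett 3, .edge 11 [3,7,0,2,0], .coin 12, .lett 1, .lett 6, .lett 4, .lett 0, .lett 4,
    .lett 1, .lett 5, .lett 0, .lett 5, .lett 3, .lett 0]

/-- steps of relation 16 -/
def crun16 : List Step :=
  [.lett 3, .lett 4, .lett 0, .lett 4, .lett 1, .lett 5, .lett 0, .lett 5, .lett 3, .lett 0,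
    .stab 1 false, .stab 1 false, .edge 4 [4,4,6,5], .lett 1, .lett 6, .lett 3, .stab 7 false,
    .stab 8 false, .stab 7 false, .stab 8 false, .stab 7 false, .stab 7 false, .stab 8 false,
    .stab 7 false, .stab 7 false, .edge 41 [7,6], .lett 1, .lett 6, .lett 4, .lett 0, .lett 4,
    .lett 1, .lett 5, .lett 0, .lett 5, .lett 3, .lett 0, .lett 0, .lett 2, .lett 4, .lett 0,
    .lett 4, .lett 1, .lett 5, .lett 0, .lett 5, .lett 2, .stab 44 false, .stab 43 false,
    .stab 44 false, .edge 71 [5,5,6,4,5,7,6,5], .coin 72, .lett 1, .lett 6, .lett 3,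
    .stab 6 false, .stab 8 false, .stab 5 false, .stab 7 false, .stab 8 false, .stab 7 false,
    .stab 7 false, .edge 13 [5,5,5,4,5,6,5], .lett 1, .lett 1, .lett 3, .lett 6, .lett 4, .lett 0,
    .lett 4, .lett 1, .lett 5, .lett 0, .lett 5, .lett 3, .lett 4, .lett 0, .lett 4, .lett 1,
    .lett 5, .lett 0, .lett 5, .lett 3, .lett 0, .stab 17 false, .stab 16 false, .stab 15 false,
    .stab 14 false, .stab 17 false, .stab 17 false, .stab 15 false, .stab 14 false,
    .edge 32 [0,3,0,6,1,5,7], .lett 1, .lett 6, .lett 3, .stab 24 false, .stab 24 false,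
    .stab 29 false, .stab 25 false, .stab 25 false, .stab 24 false, .edge 75 [0,5,5,2,6,5,0,6],
    .coin 76, .lett 1, .lett 6, .lett 4, .lett 0, .lett 4, .lett 1, .lett 5, .lett 0, .lett 5,
    .lett 3, .lett 0, .lett 0, .lett 2, .lett 4, .lett 0, .lett 4, .lett 1, .lett 5, .lett 0,
    .lett 5, .lett 2, .stab 17 false, .edge 23 [4,5,7,6], .lett 1, .lett 6, .lett 3,
    .stab 24 false, .stab 24 false, .stab 29 false, .edge 37 [4,4,7,6], .coin 38, .lett 1,
    .lett 1, .lett 3, .lett 6, .lett 4, .lett 0, .lett 4, .lett 1, .lett 5, .lett 0, .lett 5,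
    .lett 3, .lett 4, .lett 0, .lett 4, .lett 1, .lett 5, .lett 0, .lett 5, .lett 3, .lett 0,
    .stab 17 false, .stab 15 false, .stab 15 false, .stab 15 false, .stab 17 false,
    .stab 14 false, .edge 32 [2,7,6,5,3,7,1,5], .lett 1, .lett 6, .lett 3, .stab 26 false,
    .stab 25 false, .stab 29 false, .edge 69 [1,7,1,5,7,2,2,6], .lett 1, .lett 6, .lett 4,
    .lett 0, .lett 4, .lett 1, .lett 5, .lett 0, .lett 5, .lett 3, .lett 0, .lett 0, .lett 2,
    .lett 4, .lett 0, .lett 4, .lett 1, .lett 5, .lett 0, .lett 5, .lett 2, .stab 50 false,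
    .stab 43 false, .stab 44 false, .edge 71 [6,5,7,6], .coin 72, .lett 1, .lett 6, .lett 3,
    .edge 11 [6,7,3,6,7,3], .coin 12, .lett 1, .lett 1, .lett 3, .lett 6, .lett 4, .lett 0,
    .lett 4, .lett 1, .lett 5, .lett 0, .lett 5]

/-- steps of relation 17 -/
def crun17 : List Step :=
  [.lett 3, .lett 3, .stab 1 false, .stab 1 false, .edge 4 [], .lett 1, .lett 6, .edge 13 [5],
    .lett 1, .lett 2, .lett 2, .lett 6, .lett 2, .lett 1, .lett 2, .lett 4, .lett 0, .lett 4,
    .lett 1, .lett 5, .lett 0, .lett 5, .lett 0, .edge 23 [5,5,4,7,6,5], .lett 1, .lett 6,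
    .lett 3, .stab 25 false, .stab 25 false, .stab 24 false, .stab 24 false, .stab 29 false,
    .edge 37 [4,4,5,5], .coin 38, .lett 1, .lett 6, .lett 4, .lett 0, .lett 4, .lett 1, .lett 5,
    .lett 0, .lett 5, .lett 3, .stab 16 false, .stab 15 false, .stab 16 false, .stab 15 false,
    .stab 15 false, .stab 15 false, .edge 32 [5,2,6,5,0,4,7,5,6], .lett 1, .stab 25 false,
    .stab 26 false, .stab 25 false, .stab 29 false, .stab 29 false, .edge 75 [2,6,7,5,7,2,6],
    .coin 76, .lett 1, .lett 3, .lett 3, .stab 15 false, .stab 17 false, .stab 17 false,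
    .stab 15 false, .stab 15 false, .stab 16 false, .stab 15 false, .stab 14 false,
    .edge 32 [6,2,7,5,0,3,7], .lett 1, .lett 6, .stab 24 false, .stab 26 false, .stab 25 false,
    .edge 69 [1,6,4,5,3,5,5], .lett 1, .lett 2, .lett 2, .lett 6, .lett 2, .lett 1, .lett 2,
    .lett 4, .lett 0, .lett 4, .lett 1, .lett 5, .lett 0, .lett 5, .lett 0, .stab 50 false,
    .stab 43 false, .stab 42 false, .stab 44 false, .edge 71 [5,5,6,7], .coin 72, .lett 1,
    .lett 6, .lett 3, .edge 11 [2,4,6,1,5,7,5], .coin 12, .lett 1, .lett 6, .lett 4, .lett 0,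
    .lett 4, .lett 1, .lett 5, .lett 0, .lett 5, .lett 3, .stab 2 false, .stab 1 false,
    .stab 2 false, .stab 3 false, .stab 1 false, .stab 1 false, .stab 0 false, .stab 2 false,
    .stab 3 false, .edge 4 [2,7,5,7,6,3,5,7,6], .lett 1, .edge 11 [5,5,6,1,5,2,7,6], .coin 12,
    .lett 1, .lett 1, .lett 1, .lett 1, .lett 1]

/-- steps of relation 18 -/
def crun18 : List Step :=
  [.lett 3, .lett 3, .stab 1 false, .stab 1 false, .edge 4 [], .lett 1, .lett 6, .edge 13 [5],
    .lett 1, .lett 2, .lett 2, .lett 6, .lett 1, .lett 3, .lett 1, .lett 3, .lett 4, .lett 0,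
    .lett 4, .lett 1, .lett 5, .lett 0, .lett 5, .edge 23 [5,4,5,5,5,7,6,5], .lett 1, .lett 6,
    .lett 3, .stab 26 false, .stab 24 false, .stab 24 false, .stab 29 false, .edge 37 [5,7,5,4],
    .coin 38, .lett 1, .lett 1, .lett 3, .lett 6, .lett 4, .lett 0, .lett 4, .lett 1, .lett 5,
    .lett 0, .lett 5, .lett 1, .lett 3, .lett 3, .stab 17 false, .stab 15 false, .stab 15 false,
    .stab 15 false, .stab 17 false, .stab 14 false, .edge 32 [2,2,6,3,0], .lett 1, .lett 6,
    .stab 24 false, .stab 26 false, .stab 25 false, .edge 69 [1,6,4,5,3,5], .lett 1, .lett 2,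
    .lett 2, .lett 6, .lett 1, .lett 3, .lett 1, .lett 3, .lett 4, .lett 0, .lett 4, .lett 1,
    .lett 5, .lett 0, .lett 5, .stab 50 false, .stab 43 false, .stab 42 false, .stab 44 false,
    .edge 71 [6,7,6], .coin 72, .lett 1, .lett 6, .lett 3, .edge 11 [2,4,6,1], .coin 12, .lett 1,
    .lett 1, .lett 3, .lett 6, .lett 4, .lett 0, .lett 4, .lett 1, .lett 5, .lett 0, .lett 5,
    .lett 1, .lett 1, .lett 1, .lett 1, .lett 1]

/-- steps of relation 19 -/
def crun19 : List Step :=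
  [.lett 3, .lett 3, .stab 1 false, .stab 1 false, .edge 4 [], .lett 1, .lett 6, .edge 13 [5],
    .lett 1, .lett 2, .lett 2, .lett 6, .lett 1, .lett 1, .lett 3, .lett 4, .lett 0, .lett 4,
    .lett 1, .lett 5, .lett 0, .lett 5, .lett 3, .edge 23 [5,4,5,5,5,5,5,6], .lett 1, .lett 2,
    .lett 0, .lett 2, .lett 6, .stab 29 false, .stab 29 false, .edge 37 [4,5,5,5,6,7,5,6],
    .coin 38, .lett 1, .lett 6, .lett 4, .lett 0, .lett 4, .lett 1, .lett 5, .lett 0, .lett 5,
    .lett 1, .lett 3, .lett 3, .stab 14 false, .stab 17 false, .stab 17 false, .stab 15 false,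
    .stab 17 false, .stab 16 false, .stab 14 false, .edge 32 [5,7,1,1,6,5,0,7], .lett 1, .lett 6,
    .stab 24 false, .stab 26 false, .stab 25 false, .edge 69 [0,5,6,5,3,7,5,6,5,2], .lett 1,
    .lett 2, .lett 2, .lett 6, .lett 1, .lett 1, .lett 3, .lett 4, .lett 0, .lett 4, .lett 1,
    .lett 5, .lett 0, .lett 5, .lett 3, .stab 50 false, .stab 43 false, .stab 42 false,
    .stab 44 false, .edge 71 [5,5,5,5,5,5,6], .coin 72, .lett 1, .lett 2, .lett 0, .lett 2,
    .lett 6, .edge 11 [2,4,7,5,6,1,5], .coin 12, .lett 1, .lett 6, .lett 4, .lett 0, .lett 4,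
    .lett 1, .lett 5, .lett 0, .lett 5, .lett 1, .lett 1, .lett 1, .lett 1, .lett 1]

/-- steps of relation 20 -/
def crun20 : List Step :=
  [.lett 3, .lett 3, .stab 1 false, .stab 1 false, .edge 4 [], .lett 1, .lett 6, .edge 13 [5],
    .lett 1, .lett 2, .lett 2, .lett 6, .lett 3, .lett 3, .lett 1, .edge 23 [7,5,7], .lett 1,
    .lett 2, .lett 2, .lett 3, .lett 3, .edge 37 [5,5], .coin 38, .lett 1, .lett 6,
    .stab 16 false, .stab 15 false, .stab 17 false, .stab 17 false, .stab 16 false,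
    .stab 17 false, .edge 19 [5,6,5,7], .coin 20, .lett 1, .lett 2, .lett 2, .lett 6, .lett 3,
    .lett 3, .lett 1, .edge 11 [0,0,6,1,2], .coin 12, .lett 1, .lett 2, .lett 2, .lett 1, .lett 1,
    .lett 1, .lett 1]

/-- steps of relation 21 -/
def crun21 : List Step :=
  [.lett 3, .lett 3, .stab 1 false, .stab 1 false, .edge 4 [], .lett 1, .lett 6, .edge 13 [5],
    .lett 1, .lett 2, .lett 2, .lett 6, .lett 3, .lett 4, .lett 0, .lett 4, .lett 1, .lett 5,
    .lett 0, .lett 5, .lett 3, .edge 23 [4,4,6], .lett 1, .lett 2, .lett 6, .stab 24 false,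
    .stab 25 false, .stab 24 false, .stab 29 false, .edge 37 [5,5,5,4,6,7,5,6], .coin 38, .lett 1,
    .lett 1, .lett 2, .lett 6, .lett 4, .lett 0, .lett 4, .lett 1, .lett 5, .lett 0, .lett 5,
    .lett 0, .lett 3, .lett 3, .stab 17 false, .stab 15 false, .stab 15 false, .stab 15 false,
    .stab 17 false, .stab 14 false, .edge 32 [0,5,7,2,1,7,3], .lett 1, .lett 6, .stab 24 false,
    .stab 26 false, .stab 25 false, .edge 69 [0,0,1,3,3,3,5], .lett 1, .lett 2, .lett 2, .lett 6,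
    .lett 3, .lett 4, .lett 0, .lett 4, .lett 1, .lett 5, .lett 0, .lett 5, .lett 3,
    .stab 50 false, .stab 43 false, .stab 42 false, .stab 44 false, .edge 71 [5,6,7], .coin 72,
    .lett 1, .lett 2, .lett 6, .edge 11 [2,4,7,5,6,1,7,5], .coin 12, .lett 1, .lett 1, .lett 2,
    .lett 6, .lett 4, .lett 0, .lett 4, .lett 1, .lett 5, .lett 0, .lett 5, .lett 0, .lett 1,
    .lett 1, .lett 1, .lett 1]

/-- steps of relation 22 -/
def crun22 : List Step :=
  [.lett 3, .lett 3, .stab 1 false, .stab 1 false, .edge 4 [], .lett 1, .lett 6, .edge 13 [5],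
    .lett 1, .lett 2, .lett 2, .lett 6, .lett 3, .lett 4, .lett 0, .lett 4, .lett 1, .lett 5,
    .lett 0, .lett 5, .lett 3, .lett 0, .edge 23 [4,4,6,5], .lett 1, .lett 6, .lett 3,
    .stab 24 false, .stab 29 false, .edge 37 [4,4,7,6], .coin 38, .lett 1, .lett 6, .lett 4,
    .lett 0, .lett 4, .lett 1, .lett 5, .lett 0, .lett 5, .lett 3, .lett 0, .lett 3, .lett 3,
    .stab 17 false, .stab 15 false, .stab 15 false, .stab 15 false, .stab 17 false,
    .stab 14 false, .edge 32 [5,7,5,0,6,7,0,5,6], .lett 1, .lett 6, .stab 24 false,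
    .stab 26 false, .stab 25 false, .edge 69 [1,6,4,5,3,7,6,5], .lett 1, .lett 2, .lett 2,
    .lett 6, .lett 3, .lett 4, .lett 0, .lett 4, .lett 1, .lett 5, .lett 0, .lett 5, .lett 3,
    .lett 0, .stab 50 false, .stab 43 false, .stab 42 false, .stab 44 false, .edge 71 [7,6,5,7],
    .coin 72, .lett 1, .lett 6, .lett 3, .edge 11 [2,4,6,1,5,5,6], .coin 12, .lett 1, .lett 6,
    .lett 4, .lett 0, .lett 4, .lett 1, .lett 5, .lett 0, .lett 5, .lett 3, .lett 0, .lett 1,
    .lett 1, .lett 1, .lett 1]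

/-- steps of relation 23 -/
def crun23 : List Step :=
  [.lett 3, .lett 3, .stab 1 false, .stab 1 false, .edge 4 [], .lett 1, .lett 6, .edge 13 [5],
    .lett 1, .lett 2, .lett 2, .lett 6, .lett 0, .lett 2, .lett 4, .lett 0, .lett 4, .lett 1,
    .lett 5, .lett 0, .lett 5, .lett 2, .edge 23 [4,5,5,5,5,6,5], .lett 1, .lett 6, .lett 3,
    .stab 26 false, .stab 24 false, .stab 29 false, .edge 37 [5,5,5,4,5,6,7,6], .coin 38, .lett 1,
    .lett 1, .lett 3, .lett 6, .lett 4, .lett 0, .lett 4, .lett 1, .lett 5, .lett 0, .lett 5,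
    .lett 3, .lett 3, .stab 17 false, .stab 15 false, .stab 15 false, .stab 15 false,
    .stab 17 false, .stab 14 false, .edge 32 [2,6,7,3,7,5,7,1,6], .lett 1, .lett 6,
    .stab 24 false, .stab 26 false, .stab 25 false, .edge 69 [1,6,4,5,3,5,5,7,6], .lett 1,
    .lett 2, .lett 2, .lett 6, .lett 0, .lett 2, .lett 4, .lett 0, .lett 4, .lett 1, .lett 5,
    .lett 0, .lett 5, .lett 2, .stab 50 false, .stab 43 false, .stab 42 false, .stab 44 false,
    .edge 71 [5,5,6,5,7,6,5], .coin 72, .lett 1, .lett 6, .lett 3, .edge 11 [3,7,0,2,0], .coin 12,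
    .lett 1, .lett 1, .lett 3, .lett 6, .lett 4, .lett 0, .lett 4, .lett 1, .lett 5, .lett 0,
    .lett 5, .lett 1, .lett 1, .lett 1, .lett 1]

/-- steps of relation 24 -/
def crun24 : List Step :=
  [.lett 3, .lett 3, .lett 4, .lett 0, .lett 4, .lett 1, .lett 5, .lett 0, .lett 5, .lett 6,
    .stab 1 false, .stab 2 false, .stab 0 false, .stab 3 false, .stab 1 false, .stab 0 false,
    .stab 2 false, .stab 0 false, .stab 1 false, .stab 2 false, .stab 3 false,
    .edge 4 [4,6,7,0,0,0], .lett 1, .lett 6, .lett 0, .stab 7 false, .stab 7 false, .stab 7 false,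
    .stab 6 false, .stab 7 false, .stab 8 false, .stab 6 false, .stab 5 false, .stab 7 false,
    .edge 13 [7,5,7], .lett 1, .lett 2, .lett 2, .lett 6, .lett 4, .lett 0, .lett 4, .lett 1,
    .lett 5, .lett 0, .lett 5, .lett 0, .lett 1, .lett 3, .lett 1, .lett 3, .lett 4, .lett 0,
    .lett 4, .lett 1, .lett 5, .lett 0, .lett 5, .edge 23 [4,7,6,5], .lett 1, .lett 6, .lett 3,
    .stab 24 false, .stab 24 false, .stab 29 false, .edge 37 [5,5,5,4,5,5,5], .coin 38, .lett 1,
    .lett 1, .lett 3, .lett 6, .lett 4, .lett 0, .lett 4, .lett 1, .lett 5, .lett 0, .lett 5,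
    .lett 1, .lett 3, .lett 3, .lett 4, .lett 0, .lett 4, .lett 1, .lett 5, .lett 0, .lett 5,
    .lett 6, .stab 16 false, .stab 16 false, .stab 16 false, .stab 17 false, .stab 16 false,
    .edge 32 [5,2,6,5,0,4,7,6], .lett 1, .lett 6, .lett 0, .stab 24 false, .stab 26 false,
    .stab 25 false, .edge 69 [0,5,6,5,3,7,5,6,5,2,6], .lett 1, .lett 2, .lett 2, .lett 6, .lett 4,
    .lett 0, .lett 4, .lett 1, .lett 5, .lett 0, .lett 5, .lett 0, .lett 1, .lett 3, .lett 1,
    .lett 3, .lett 4, .lett 0, .lett 4, .lett 1, .lett 5, .lett 0, .lett 5, .stab 50 false,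
    .stab 43 false, .stab 42 false, .stab 44 false, .edge 71 [7,6,5,7], .coin 72, .lett 1,
    .lett 6, .lett 3, .edge 11 [2,4,6,1,5,5,6], .coin 12, .lett 1, .lett 1, .lett 3, .lett 6,
    .lett 4, .lett 0, .lett 4, .lett 1, .lett 5, .lett 0, .lett 5, .lett 1, .lett 1, .lett 1,
    .lett 1, .lett 1]

/-- steps of relation 25 -/
def crun25 : List Step :=
  [.lett 3, .lett 3, .lett 4, .lett 0, .lett 4, .lett 1, .lett 5, .lett 0, .lett 5, .lett 6,
    .stab 1 false, .stab 2 false, .stab 0 false, .stab 3 false, .stab 1 false, .stab 0 false,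
    .stab 2 false, .stab 0 false, .stab 1 false, .stab 2 false, .stab 3 false,
    .edge 4 [4,6,7,0,0,0], .lett 1, .lett 6, .lett 0, .stab 7 false, .stab 7 false, .stab 7 false,
    .stab 6 false, .stab 7 false, .stab 8 false, .stab 6 false, .stab 5 false, .stab 7 false,
    .edge 13 [7,5,7], .lett 1, .lett 2, .lett 2, .lett 6, .lett 4, .lett 0, .lett 4, .lett 1,
    .lett 5, .lett 0, .lett 5, .lett 0, .lett 1, .lett 1, .lett 3, .lett 4, .lett 0, .lett 4,
    .lett 1, .lett 5, .lett 0, .lett 5, .lett 3, .edge 23 [4,5,5,6], .lett 1, .lett 2, .lett 0,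
    .lett 2, .lett 6, .stab 24 false, .stab 25 false, .stab 24 false, .stab 24 false,
    .stab 29 false, .edge 37 [6,5,7,4,6,5], .coin 38, .lett 1, .lett 6, .lett 4, .lett 0, .lett 4,
    .lett 1, .lett 5, .lett 0, .lett 5, .lett 1, .lett 3, .lett 3, .lett 4, .lett 0, .lett 4,
    .lett 1, .lett 5, .lett 0, .lett 5, .lett 6, .stab 16 false, .stab 16 false, .stab 16 false,
    .stab 17 false, .stab 16 false, .edge 32 [3,5,6,7,2,1,7,6], .lett 1, .lett 6, .lett 0,
    .stab 24 false, .stab 26 false, .stab 25 false, .edge 69 [0,0,1,3,3,3], .lett 1, .lett 2,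
    .lett 2, .lett 6, .lett 4, .lett 0, .lett 4, .lett 1, .lett 5, .lett 0, .lett 5, .lett 0,
    .lett 1, .lett 1, .lett 3, .lett 4, .lett 0, .lett 4, .lett 1, .lett 5, .lett 0, .lett 5,
    .lett 3, .stab 50 false, .stab 43 false, .stab 42 false, .stab 44 false,
    .edge 71 [5,5,5,6,5,7,6,5], .coin 72, .lett 1, .lett 2, .lett 0, .lett 2, .lett 6,
    .edge 11 [6,7,3,6,7,3,5,7,6], .coin 12, .lett 1, .lett 6, .lett 4, .lett 0, .lett 4, .lett 1,
    .lett 5, .lett 0, .lett 5, .lett 1, .lett 1, .lett 1, .lett 1, .lett 1]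

/-- steps of relation 26 -/
def crun26 : List Step :=
  [.lett 3, .lett 3, .lett 4, .lett 0, .lett 4, .lett 1, .lett 5, .lett 0, .lett 5, .lett 6,
    .stab 1 false, .stab 2 false, .stab 0 false, .stab 3 false, .stab 1 false, .stab 0 false,
    .stab 2 false, .stab 0 false, .stab 1 false, .stab 2 false, .stab 3 false,
    .edge 4 [4,6,7,0,0,0], .lett 1, .lett 6, .lett 0, .stab 7 false, .stab 7 false, .stab 7 false,
    .stab 6 false, .stab 7 false, .stab 8 false, .stab 6 false, .stab 5 false, .stab 7 false,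
    .edge 13 [7,5,7], .lett 1, .lett 2, .lett 2, .lett 6, .lett 4, .lett 0, .lett 4, .lett 1,
    .lett 5, .lett 0, .lett 5, .lett 0, .lett 3, .lett 3, .lett 1, .edge 23 [5,4,5,5], .lett 1,
    .lett 2, .lett 2, .lett 3, .lett 3, .lett 4, .lett 0, .lett 4, .lett 1, .lett 5, .lett 0,
    .lett 5, .lett 6, .stab 29 false, .stab 26 false, .stab 29 false, .edge 37 [], .coin 38,
    .lett 1, .lett 6, .lett 0, .stab 16 false, .stab 15 false, .stab 17 false, .stab 17 false,
    .stab 16 false, .stab 17 false, .edge 19 [5,6,7], .coin 20, .lett 1, .lett 2, .lett 2,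
    .lett 6, .lett 4, .lett 0, .lett 4, .lett 1, .lett 5, .lett 0, .lett 5, .lett 0, .lett 3,
    .lett 3, .lett 1, .edge 11 [6,1,3,7,5,0,7], .coin 12, .lett 1, .lett 2, .lett 2, .lett 1,
    .lett 1, .lett 1, .lett 1]

/-- steps of relation 27 -/
def crun27 : List Step :=
  [.lett 3, .lett 3, .lett 4, .lett 0, .lett 4, .lett 1, .lett 5, .lett 0, .lett 5, .lett 6,
    .stab 1 false, .stab 2 false, .stab 0 false, .stab 3 false, .stab 1 false, .stab 0 false,
    .stab 2 false, .stab 0 false, .stab 1 false, .stab 2 false, .stab 3 false,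
    .edge 4 [4,6,7,0,0,0], .lett 1, .lett 6, .lett 0, .stab 7 false, .stab 7 false, .stab 7 false,
    .stab 6 false, .stab 7 false, .stab 8 false, .stab 6 false, .stab 5 false, .stab 7 false,
    .edge 13 [7,5,7], .lett 1, .lett 2, .lett 2, .lett 6, .lett 4, .lett 0, .lett 4, .lett 1,
    .lett 5, .lett 0, .lett 5, .lett 0, .lett 3, .lett 4, .lett 0, .lett 4, .lett 1, .lett 5,
    .lett 0, .lett 5, .lett 3, .edge 23 [5,5,5,5,6], .lett 1, .lett 2, .lett 6, .stab 24 false,
    .stab 25 false, .stab 29 false, .stab 24 false, .stab 29 false, .edge 37 [5,7,6], .coin 38,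
    .lett 1, .lett 1, .lett 2, .lett 6, .lett 4, .lett 0, .lett 4, .lett 1, .lett 5, .lett 0,
    .lett 5, .lett 0, .lett 3, .lett 3, .lett 4, .lett 0, .lett 4, .lett 1, .lett 5, .lett 0,
    .lett 5, .lett 6, .stab 16 false, .stab 15 false, .stab 17 false, .stab 17 false,
    .stab 16 false, .stab 17 false, .edge 18 [5], .lett 1, .lett 6, .lett 0, .stab 16 false,
    .stab 17 false, .stab 15 false, .edge 47 [6,5,7,5], .lett 1, .lett 2, .lett 2, .lett 6,
    .lett 4, .lett 0, .lett 4, .lett 1, .lett 5, .lett 0, .lett 5, .lett 0, .lett 3, .lett 4,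
    .lett 0, .lett 4, .lett 1, .lett 5, .lett 0, .lett 5, .lett 3, .stab 44 false, .stab 43 false,
    .stab 44 false, .edge 71 [7,5,6,7], .coin 72, .lett 1, .lett 2, .lett 6,
    .edge 11 [5,6,7,3,6,3,0], .coin 12, .lett 1, .lett 1, .lett 2, .lett 6, .lett 4, .lett 0,
    .lett 4, .lett 1, .lett 5, .lett 0, .lett 5, .lett 0, .lett 1, .lett 1, .lett 1, .lett 1]

/-- steps of relation 28 -/
def crun28 : List Step :=
  [.lett 3, .lett 3, .lett 4, .lett 0, .lett 4, .lett 1, .lett 5, .lett 0, .lett 5, .lett 6,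
    .stab 1 false, .stab 2 false, .stab 0 false, .stab 3 false, .stab 1 false, .stab 0 false,
    .stab 2 false, .stab 0 false, .stab 1 false, .stab 2 false, .stab 3 false,
    .edge 4 [4,6,7,0,0,0], .lett 1, .lett 6, .lett 0, .stab 7 false, .stab 7 false, .stab 7 false,
    .stab 6 false, .stab 7 false, .stab 8 false, .stab 6 false, .stab 5 false, .stab 7 false,
    .edge 13 [7,5,7], .lett 1, .lett 2, .lett 2, .lett 6, .lett 4, .lett 0, .lett 4, .lett 1,
    .lett 5, .lett 0, .lett 5, .lett 0, .lett 3, .lett 4, .lett 0, .lett 4, .lett 1, .lett 5,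
    .lett 0, .lett 5, .lett 3, .lett 0, .edge 23 [5,5,5,5,6,5], .lett 1, .lett 6, .lett 3,
    .stab 29 false, .stab 24 false, .stab 29 false, .edge 37 [5,5,6,7,5,6], .coin 38, .lett 1,
    .lett 6, .lett 4, .lett 0, .lett 4, .lett 1, .lett 5, .lett 0, .lett 5, .lett 3, .lett 0,
    .lett 3, .lett 3, .lett 4, .lett 0, .lett 4, .lett 1, .lett 5, .lett 0, .lett 5, .lett 6,
    .stab 16 false, .stab 15 false, .stab 17 false, .stab 17 false, .stab 16 false,
    .stab 17 false, .edge 18 [5,6,5,7,6], .lett 1, .lett 6, .lett 0, .stab 16 false,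
    .stab 17 false, .stab 15 false, .edge 47 [7,5,6,7], .lett 1, .lett 2, .lett 2, .lett 6,
    .lett 4, .lett 0, .lett 4, .lett 1, .lett 5, .lett 0, .lett 5, .lett 0, .lett 3, .lett 4,
    .lett 0, .lett 4, .lett 1, .lett 5, .lett 0, .lett 5, .lett 3, .lett 0, .stab 44 false,
    .stab 43 false, .stab 44 false, .edge 71 [5,5,6,5,7], .coin 72, .lett 1, .lett 6, .lett 3,
    .edge 11 [2,4,6,1,7,6], .coin 12, .lett 1, .lett 6, .lett 4, .lett 0, .lett 4, .lett 1,
    .lett 5, .lett 0, .lett 5, .lett 3, .lett 0, .lett 1, .lett 1, .lett 1, .lett 1]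

/-- steps of relation 29 -/
def crun29 : List Step :=
  [.lett 3, .lett 3, .lett 4, .lett 0, .lett 4, .lett 1, .lett 5, .lett 0, .lett 5, .lett 6,
    .stab 1 false, .stab 2 false, .stab 0 false, .stab 3 false, .stab 1 false, .stab 0 false,
    .stab 2 false, .stab 0 false, .stab 1 false, .stab 2 false, .stab 3 false,
    .edge 4 [4,6,7,0,0,0], .lett 1, .lett 6, .lett 0, .stab 7 false, .stab 7 false, .stab 7 false,
    .stab 6 false, .stab 7 false, .stab 8 false, .stab 6 false, .stab 5 false, .stab 7 false,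
    .edge 13 [7,5,7], .lett 1, .lett 2, .lett 2, .lett 6, .lett 4, .lett 0, .lett 4, .lett 1,
    .lett 5, .lett 0, .lett 5, .lett 0, .lett 0, .lett 2, .lett 4, .lett 0, .lett 4, .lett 1,
    .lett 5, .lett 0, .lett 5, .lett 2, .edge 23 [6,5,4], .lett 1, .lett 6, .lett 3,
    .stab 24 false, .stab 25 false, .stab 29 false, .edge 37 [4,4,7], .coin 38, .lett 1, .lett 1,
    .lett 3, .lett 6, .lett 4, .lett 0, .lett 4, .lett 1, .lett 5, .lett 0, .lett 5, .lett 3,
    .lett 3, .lett 4, .lett 0, .lett 4, .lett 1, .lett 5, .lett 0, .lett 5, .lett 6,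
    .stab 16 false, .stab 16 false, .stab 16 false, .stab 17 false, .stab 16 false,
    .edge 32 [3,5,5,6,7,6,3,5,6,0], .lett 1, .lett 6, .lett 0, .stab 24 false, .stab 26 false,
    .stab 25 false, .edge 69 [1,6,4,5,3,5,7,5,6], .lett 1, .lett 2, .lett 2, .lett 6, .lett 4,
    .lett 0, .lett 4, .lett 1, .lett 5, .lett 0, .lett 5, .lett 0, .lett 0, .lett 2, .lett 4,
    .lett 0, .lett 4, .lett 1, .lett 5, .lett 0, .lett 5, .lett 2, .stab 50 false, .stab 43 false,
    .stab 42 false, .stab 44 false, .edge 71 [6,5,7,6,5], .coin 72, .lett 1, .lett 6, .lett 3,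
    .edge 11 [2,4,6,1,6,7], .coin 12, .lett 1, .lett 1, .lett 3, .lett 6, .lett 4, .lett 0,
    .lett 4, .lett 1, .lett 5, .lett 0, .lett 5, .lett 1, .lett 1, .lett 1, .lett 1]

/-- steps of relation 30 -/
def crun30 : List Step :=
  [.lett 2, .lett 1, .lett 2, .lett 4, .lett 0, .lett 4, .lett 1, .lett 5, .lett 0, .lett 5,
    .lett 0, .stab 1 false, .stab 1 false, .edge 4 [5,5,4,7,6,5], .lett 1, .lett 6, .lett 3,
    .stab 8 false, .stab 7 false, .stab 8 false, .stab 6 false, .stab 7 false, .stab 8 false,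
    .stab 7 false, .stab 8 false, .stab 7 false, .stab 7 false, .edge 41 [5,5,5,5,6], .lett 1,
    .lett 6, .lett 4, .lett 0, .lett 4, .lett 1, .lett 5, .lett 0, .lett 5, .lett 3,
    .stab 50 false, .stab 44 false, .stab 43 false, .stab 44 false, .edge 48 [5,4,7,5], .lett 1,
    .edge 48 [5,4,5,6,7], .lett 1, .lett 1, .lett 1, .lett 3, .lett 4, .lett 0, .lett 4, .lett 1,
    .lett 5, .lett 0, .lett 5, .lett 3, .edge 71 [5,7,6,4,5], .coin 72, .lett 1, .lett 2, .lett 0,
    .lett 2, .lett 6, .stab 6 false, .stab 8 false, .stab 5 false, .stab 7 false, .stab 8 false,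
    .stab 7 false, .stab 7 false, .edge 41 [5,5,6,4,7], .lett 1, .lett 6, .lett 4, .lett 0,
    .lett 4, .lett 1, .lett 5, .lett 0, .lett 5, .lett 1, .lett 2, .lett 1, .lett 2, .lett 4,
    .lett 0, .lett 4, .lett 1, .lett 5, .lett 0, .lett 5, .lett 0, .stab 43 false, .stab 44 false,
    .stab 44 false, .stab 42 false, .stab 44 false, .stab 42 false, .edge 64 [1,6,0,3,7,5,3,7],
    .lett 1, .lett 6, .lett 3, .stab 44 false, .stab 44 false, .stab 44 false, .stab 50 false,
    .stab 43 false, .edge 83 [2,3,2,2], .coin 84, .lett 1, .lett 6, .lett 4, .lett 0, .lett 4,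
    .lett 1, .lett 5, .lett 0, .lett 5, .lett 3, .stab 42 false, .stab 44 false, .stab 44 false,
    .stab 42 false, .stab 44 false, .edge 73 [5,4,7,5,6], .coin 74, .lett 1, .stab 17 false,
    .stab 16 false, .stab 17 false, .stab 17 false, .stab 15 false, .edge 47 [5,5,4,7,5,6,5],
    .lett 1, .lett 1, .lett 1, .lett 3, .lett 4, .lett 0, .lett 4, .lett 1, .lett 5, .lett 0,
    .lett 5, .lett 3, .edge 71 [5,7,5,6], .coin 72, .lett 1, .lett 2, .lett 0, .lett 2, .lett 6,
    .edge 11 [2,4,7,5,6,1], .coin 12, .lett 1, .lett 6, .lett 4, .lett 0, .lett 4, .lett 1,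
    .lett 5, .lett 0, .lett 5, .lett 1, .lett 1, .lett 1, .lett 1, .lett 1]

/-- steps of relation 31 -/
def crun31 : List Step :=
  [.lett 2, .lett 1, .lett 2, .lett 4, .lett 0, .lett 4, .lett 1, .lett 5, .lett 0, .lett 5,
    .lett 0, .stab 1 false, .stab 1 false, .edge 4 [5,5,4,7,6,5], .lett 1, .lett 6, .lett 3,
    .stab 8 false, .stab 7 false, .stab 8 false, .stab 6 false, .stab 7 false, .stab 8 false,
    .stab 7 false, .stab 8 false, .stab 7 false, .stab 7 false, .edge 41 [5,5,5,5,6], .lett 1,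
    .lett 6, .lett 4, .lett 0, .lett 4, .lett 1, .lett 5, .lett 0, .lett 5, .lett 3,
    .stab 50 false, .stab 44 false, .stab 43 false, .stab 44 false, .edge 48 [5,4,7,5], .lett 1,
    .edge 48 [5,4,5,6,7], .lett 1, .lett 3, .lett 3, .lett 1, .edge 71 [5,4,7,5,6], .coin 72,
    .lett 1, .lett 2, .lett 2, .lett 2, .lett 1, .lett 2, .lett 4, .lett 0, .lett 4, .lett 1,
    .lett 5, .lett 0, .lett 5, .lett 0, .stab 6 false, .stab 7 false, .stab 8 false,
    .stab 5 false, .stab 7 false, .stab 6 false, .edge 41 [5,5,5,6,7,5,6,5], .lett 1, .lett 6,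
    .lett 3, .stab 44 false, .stab 43 false, .stab 44 false, .edge 71 [5,5,5,7,6], .coin 72,
    .lett 1, .lett 6, .lett 4, .lett 0, .lett 4, .lett 1, .lett 5, .lett 0, .lett 5, .lett 3,
    .edge 10 [7,3,7,3,5,6,1], .lett 1, .edge 10 [6,5,2,6,7,1,7], .lett 1, .lett 3, .lett 3,
    .lett 1, .edge 11 [6,2,3,2,5,7,6,5], .coin 12, .lett 1, .lett 2, .lett 2, .lett 1, .lett 1,
    .lett 1, .lett 1]

/-- steps of relation 32 -/
def crun32 : List Step :=
  [.lett 2, .lett 1, .lett 2, .lett 4, .lett 0, .lett 4, .lett 1, .lett 5, .lett 0, .lett 5,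
    .lett 0, .stab 1 false, .stab 1 false, .edge 4 [5,5,4,7,6,5], .lett 1, .lett 6, .lett 3,
    .stab 8 false, .stab 7 false, .stab 8 false, .stab 6 false, .stab 7 false, .stab 8 false,
    .stab 7 false, .stab 8 false, .stab 7 false, .stab 7 false, .edge 41 [5,5,5,5,6], .lett 1,
    .lett 6, .lett 4, .lett 0, .lett 4, .lett 1, .lett 5, .lett 0, .lett 5, .lett 3,
    .stab 50 false, .stab 44 false, .stab 43 false, .stab 44 false, .edge 48 [5,4,7,5], .lett 1,
    .edge 48 [5,4,5,6,7], .lett 1, .lett 3, .lett 4, .lett 0, .lett 4, .lett 1, .lett 5, .lett 0,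
    .lett 5, .lett 3, .edge 71 [5,5,4,5,7,6,5], .coin 72, .lett 1, .lett 2, .lett 6,
    .stab 7 false, .stab 7 false, .stab 7 false, .stab 6 false, .stab 6 false, .stab 7 false,
    .stab 7 false, .stab 6 false, .stab 7 false, .edge 41 [5,5,4,5,5,7], .lett 1, .lett 1,
    .lett 2, .lett 6, .lett 4, .lett 0, .lett 4, .lett 1, .lett 5, .lett 0, .lett 5, .lett 0,
    .lett 2, .lett 1, .lett 2, .lett 4, .lett 0, .lett 4, .lett 1, .lett 5, .lett 0, .lett 5,
    .lett 0, .stab 43 false, .stab 44 false, .stab 44 false, .stab 50 false, .stab 44 false,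
    .edge 64 [1,7,6,3,7,2], .lett 1, .lett 6, .lett 3, .stab 44 false, .stab 43 false,
    .stab 43 false, .stab 42 false, .edge 83 [2,3,5,5,2,7], .coin 84, .lett 1, .lett 6, .lett 4,
    .lett 0, .lett 4, .lett 1, .lett 5, .lett 0, .lett 5, .lett 3, .stab 42 false, .stab 44 false,
    .stab 44 false, .stab 44 false, .stab 43 false, .edge 48 [4,5,6,5,7,5], .lett 1,
    .edge 48 [4,5,5,5,6,5,7], .lett 1, .lett 3, .lett 4, .lett 0, .lett 4, .lett 1, .lett 5,
    .lett 0, .lett 5, .lett 3, .edge 71 [5,5,5,6], .coin 72, .lett 1, .lett 2, .lett 6,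
    .edge 11 [5,6,7,6,2,6,5,2,6,5], .coin 12, .lett 1, .lett 1, .lett 2, .lett 6, .lett 4,
    .lett 0, .lett 4, .lett 1, .lett 5, .lett 0, .lett 5, .lett 0, .lett 1, .lett 1, .lett 1,
    .lett 1]

/-- steps of relation 33 -/
def crun33 : List Step :=
  [.lett 2, .lett 1, .lett 2, .lett 4, .lett 0, .lett 4, .lett 1, .lett 5, .lett 0, .lett 5,
    .lett 0, .stab 1 false, .stab 1 false, .edge 4 [5,5,4,7,6,5], .lett 1, .lett 6, .lett 3,
    .stab 8 false, .stab 7 false, .stab 8 false, .stab 6 false, .stab 7 false, .stab 8 false,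
    .stab 7 false, .stab 8 false, .stab 7 false, .stab 7 false, .edge 41 [5,5,5,5,6], .lett 1,
    .lett 6, .lett 4, .lett 0, .lett 4, .lett 1, .lett 5, .lett 0, .lett 5, .lett 3,
    .stab 50 false, .stab 44 false, .stab 43 false, .stab 44 false, .edge 48 [5,4,7,5], .lett 1,
    .edge 48 [5,4,5,6,7], .lett 1, .lett 3, .lett 4, .lett 0, .lett 4, .lett 1, .lett 5, .lett 0,
    .lett 5, .lett 3, .lett 0, .edge 71 [7,5,4,6], .coin 72, .lett 1, .lett 6, .lett 3,
    .stab 8 false, .stab 5 false, .stab 7 false, .stab 6 false, .stab 6 false, .stab 6 false,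
    .stab 7 false, .stab 6 false, .stab 7 false, .edge 41 [4,5,5,5,5,6,5], .lett 1, .lett 6,
    .lett 4, .lett 0, .lett 4, .lett 1, .lett 5, .lett 0, .lett 5, .lett 3, .lett 0, .lett 2,
    .lett 1, .lett 2, .lett 4, .lett 0, .lett 4, .lett 1, .lett 5, .lett 0, .lett 5, .lett 0,
    .stab 50 false, .stab 44 false, .stab 42 false, .stab 44 false, .stab 50 false,
    .stab 44 false, .edge 64 [0,1,5,0,1], .lett 1, .lett 6, .lett 3, .stab 44 false,
    .stab 44 false, .stab 44 false, .stab 50 false, .stab 43 false, .edge 83 [5,5,6,3,6,7,6,3,7],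
    .coin 84, .lett 1, .lett 6, .lett 4, .lett 0, .lett 4, .lett 1, .lett 5, .lett 0, .lett 5,
    .lett 3, .stab 50 false, .stab 50 false, .stab 44 false, .stab 44 false, .stab 44 false,
    .stab 43 false, .edge 48 [4,5,5,6,7,5], .lett 1, .edge 48 [4,7,5], .lett 1, .lett 3, .lett 4,
    .lett 0, .lett 4, .lett 1, .lett 5, .lett 0, .lett 5, .lett 3, .lett 0, .edge 71 [6,7,5,6,5],
    .coin 72, .lett 1, .lett 6, .lett 3, .edge 11 [1,2,5,3,7,2,5], .coin 12, .lett 1, .lett 6,
    .lett 4, .lett 0, .lett 4, .lett 1, .lett 5, .lett 0, .lett 5, .lett 3, .lett 0, .lett 1,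
    .lett 1, .lett 1, .lett 1]

/-- steps of relation 34 -/
def crun34 : List Step :=
  [.lett 2, .lett 1, .lett 2, .lett 4, .lett 0, .lett 4, .lett 1, .lett 5, .lett 0, .lett 5,
    .lett 0, .stab 1 false, .stab 1 false, .edge 4 [5,5,4,7,6,5], .lett 1, .lett 6, .lett 3,
    .stab 8 false, .stab 7 false, .stab 8 false, .stab 6 false, .stab 7 false, .stab 8 false,
    .stab 7 false, .stab 8 false, .stab 7 false, .stab 7 false, .edge 41 [5,5,5,5,6], .lett 1,
    .lett 6, .lett 4, .lett 0, .lett 4, .lett 1, .lett 5, .lett 0, .lett 5, .lett 3,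
    .stab 50 false, .stab 44 false, .stab 43 false, .stab 44 false, .edge 48 [5,4,7,5], .lett 1,
    .edge 48 [5,4,5,6,7], .lett 1, .lett 0, .lett 2, .lett 4, .lett 0, .lett 4, .lett 1, .lett 5,
    .lett 0, .lett 5, .lett 2, .edge 71 [4,5,7,6], .coin 72, .lett 1, .lett 6, .lett 3,
    .stab 6 false, .stab 5 false, .stab 7 false, .stab 8 false, .stab 7 false, .stab 6 false,
    .stab 6 false, .stab 8 false, .stab 7 false, .edge 41 [7,5,4], .lett 1, .lett 1, .lett 3,
    .lett 6, .lett 4, .lett 0, .lett 4, .lett 1, .lett 5, .lett 0, .lett 5, .lett 2, .lett 1,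
    .lett 2, .lett 4, .lett 0, .lett 4, .lett 1, .lett 5, .lett 0, .lett 5, .lett 0,
    .stab 44 false, .stab 42 false, .stab 44 false, .stab 50 false, .stab 44 false,
    .edge 64 [5,3,6,0,1,6], .lett 1, .lett 6, .lett 3, .stab 44 false, .stab 44 false,
    .stab 44 false, .stab 50 false, .stab 43 false, .edge 83 [0,6,7,3,5,5,6,1], .coin 84, .lett 1,
    .lett 6, .lett 4, .lett 0, .lett 4, .lett 1, .lett 5, .lett 0, .lett 5, .lett 3,
    .stab 50 false, .stab 50 false, .stab 44 false, .stab 44 false, .stab 44 false,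
    .stab 43 false, .edge 48 [6,5,7,4], .lett 1, .edge 48 [5,5,7,4,5], .lett 1, .lett 0, .lett 2,
    .lett 4, .lett 0, .lett 4, .lett 1, .lett 5, .lett 0, .lett 5, .lett 2,
    .edge 71 [5,5,6,5,7,6,5], .coin 72, .lett 1, .lett 6, .lett 3, .edge 11 [3,7,0,2,0], .coin 12,
    .lett 1, .lett 1, .lett 3, .lett 6, .lett 4, .lett 0, .lett 4, .lett 1, .lett 5, .lett 0,
    .lett 5, .lett 1, .lett 1, .lett 1, .lett 1]

/-- steps of relation 35 -/
def crun35 : List Step :=
  [.lett 1, .lett 3, .lett 1, .lett 3, .lett 4, .lett 0, .lett 4, .lett 1, .lett 5, .lett 0,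
    .lett 5, .stab 1 false, .stab 1 false, .edge 4 [5,4,5,5,5,7,6,5], .lett 1, .lett 6, .lett 3,
    .stab 7 false, .stab 8 false, .stab 6 false, .stab 7 false, .stab 8 false, .stab 7 false,
    .stab 8 false, .stab 7 false, .stab 7 false, .edge 41 [5,5,5,5,6,7], .lett 1, .lett 1,
    .lett 3, .lett 6, .lett 4, .lett 0, .lett 4, .lett 1, .lett 5, .lett 0, .lett 5, .lett 1,
    .lett 3, .lett 3, .lett 1, .stab 44 false, .stab 43 false, .stab 44 false,
    .edge 71 [5,5,5,4,6,7,5,6], .coin 72, .lett 1, .lett 2, .lett 2, .lett 1, .lett 3, .lett 1,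
    .lett 3, .lett 4, .lett 0, .lett 4, .lett 1, .lett 5, .lett 0, .lett 5, .stab 6 false,
    .stab 7 false, .stab 8 false, .stab 5 false, .stab 7 false, .stab 6 false,
    .edge 41 [5,6,7,5,6], .lett 1, .lett 6, .lett 3, .stab 44 false, .stab 43 false,
    .stab 44 false, .edge 71 [5,5,7,5], .coin 72, .lett 1, .lett 1, .lett 3, .lett 6, .lett 4,
    .lett 0, .lett 4, .lett 1, .lett 5, .lett 0, .lett 5, .lett 1, .lett 3, .lett 3, .lett 1,
    .edge 11 [1,5,7,1,6,0,1,5], .coin 12, .lett 1, .lett 2, .lett 2, .lett 1, .lett 1, .lett 1,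
    .lett 1]

/-- steps of relation 36 -/
def crun36 : List Step :=
  [.lett 1, .lett 3, .lett 1, .lett 3, .lett 4, .lett 0, .lett 4, .lett 1, .lett 5, .lett 0,
    .lett 5, .stab 1 false, .stab 1 false, .edge 4 [5,4,5,5,5,7,6,5], .lett 1, .lett 6, .lett 3,
    .stab 7 false, .stab 8 false, .stab 6 false, .stab 7 false, .stab 8 false, .stab 7 false,
    .stab 8 false, .stab 7 false, .stab 7 false, .edge 41 [5,5,5,5,6,7], .lett 1, .lett 1,
    .lett 3, .lett 6, .lett 4, .lett 0, .lett 4, .lett 1, .lett 5, .lett 0, .lett 5, .lett 1,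
    .lett 3, .lett 4, .lett 0, .lett 4, .lett 1, .lett 5, .lett 0, .lett 5, .lett 3,
    .stab 44 false, .stab 43 false, .stab 44 false, .edge 71 [5,7,4,6,5,7], .coin 72, .lett 1,
    .lett 2, .lett 6, .stab 7 false, .stab 7 false, .stab 7 false, .stab 6 false, .stab 6 false,
    .stab 7 false, .stab 7 false, .stab 6 false, .stab 7 false, .edge 41 [5,5,4,5,5,7,6], .lett 1,
    .lett 1, .lett 2, .lett 6, .lett 4, .lett 0, .lett 4, .lett 1, .lett 5, .lett 0, .lett 5,
    .lett 0, .lett 1, .lett 3, .lett 1, .lett 3, .lett 4, .lett 0, .lett 4, .lett 1, .lett 5,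
    .lett 0, .lett 5, .stab 43 false, .stab 44 false, .stab 44 false, .stab 50 false,
    .stab 44 false, .edge 64 [0,0,1,6,7,5,6,1], .lett 1, .lett 6, .lett 3, .stab 44 false,
    .stab 43 false, .stab 43 false, .stab 42 false, .edge 83 [2,3,2,2,6,7], .coin 84, .lett 1,
    .lett 1, .lett 3, .lett 6, .lett 4, .lett 0, .lett 4, .lett 1, .lett 5, .lett 0, .lett 5,
    .lett 1, .lett 3, .lett 4, .lett 0, .lett 4, .lett 1, .lett 5, .lett 0, .lett 5, .lett 3,
    .stab 42 false, .stab 44 false, .stab 44 false, .stab 44 false, .edge 71 [5,5,7,5], .coin 72,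
    .lett 1, .lett 2, .lett 6, .edge 11 [5,6,2,2,3,2,7,5], .coin 12, .lett 1, .lett 1, .lett 2,
    .lett 6, .lett 4, .lett 0, .lett 4, .lett 1, .lett 5, .lett 0, .lett 5, .lett 0, .lett 1,
    .lett 1, .lett 1, .lett 1]

/-- steps of relation 37 -/
def crun37 : List Step :=
  [.lett 1, .lett 3, .lett 1, .lett 3, .lett 4, .lett 0, .lett 4, .lett 1, .lett 5, .lett 0,
    .lett 5, .stab 1 false, .stab 1 false, .edge 4 [5,4,5,5,5,7,6,5], .lett 1, .lett 6, .lett 3,
    .stab 7 false, .stab 8 false, .stab 6 false, .stab 7 false, .stab 8 false, .stab 7 false,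
    .stab 8 false, .stab 7 false, .stab 7 false, .edge 41 [5,5,5,5,6,7], .lett 1, .lett 1,
    .lett 3, .lett 6, .lett 4, .lett 0, .lett 4, .lett 1, .lett 5, .lett 0, .lett 5, .lett 1,
    .lett 3, .lett 4, .lett 0, .lett 4, .lett 1, .lett 5, .lett 0, .lett 5, .lett 3, .lett 0,
    .stab 44 false, .stab 43 false, .stab 44 false, .edge 71 [5,5,4,7,5,6,7], .coin 72, .lett 1,
    .lett 6, .lett 3, .stab 6 false, .stab 5 false, .stab 7 false, .stab 7 false, .stab 8 false,
    .stab 7 false, .stab 8 false, .stab 7 false, .edge 41 [5,7,4,5,6,5], .lett 1, .lett 6,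
    .lett 4, .lett 0, .lett 4, .lett 1, .lett 5, .lett 0, .lett 5, .lett 3, .lett 0, .lett 1,
    .lett 3, .lett 1, .lett 3, .lett 4, .lett 0, .lett 4, .lett 1, .lett 5, .lett 0, .lett 5,
    .stab 44 false, .stab 44 false, .stab 42 false, .stab 44 false, .stab 42 false,
    .edge 64 [5,3,6,0,1], .lett 1, .lett 6, .lett 3, .stab 44 false, .stab 44 false,
    .stab 44 false, .stab 50 false, .stab 43 false, .edge 83 [5,5,6,3,6,7,6,3], .coin 84, .lett 1,
    .lett 1, .lett 3, .lett 6, .lett 4, .lett 0, .lett 4, .lett 1, .lett 5, .lett 0, .lett 5,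
    .lett 1, .lett 3, .lett 4, .lett 0, .lett 4, .lett 1, .lett 5, .lett 0, .lett 5, .lett 3,
    .lett 0, .stab 42 false, .stab 44 false, .stab 44 false, .stab 44 false, .edge 71 [5,7,5,6,7],
    .coin 72, .lett 1, .lett 6, .lett 3, .edge 11 [2,4,6,1,5,5], .coin 12, .lett 1, .lett 6,
    .lett 4, .lett 0, .lett 4, .lett 1, .lett 5, .lett 0, .lett 5, .lett 3, .lett 0, .lett 1,
    .lett 1, .lett 1, .lett 1]

/-- steps of relation 38 -/
def crun38 : List Step :=
  [.lett 1, .lett 3, .lett 1, .lett 3, .lett 4, .lett 0, .lett 4, .lett 1, .lett 5, .lett 0,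
    .lett 5, .stab 1 false, .stab 1 false, .edge 4 [5,4,5,5,5,7,6,5], .lett 1, .lett 6, .lett 3,
    .stab 7 false, .stab 8 false, .stab 6 false, .stab 7 false, .stab 8 false, .stab 7 false,
    .stab 8 false, .stab 7 false, .stab 7 false, .edge 41 [5,5,5,5,6,7], .lett 1, .lett 1,
    .lett 3, .lett 6, .lett 4, .lett 0, .lett 4, .lett 1, .lett 5, .lett 0, .lett 5, .lett 1,
    .lett 0, .lett 2, .lett 4, .lett 0, .lett 4, .lett 1, .lett 5, .lett 0, .lett 5, .lett 2,
    .stab 44 false, .stab 43 false, .stab 44 false, .edge 71 [5,4,5,5,6,7,6], .coin 72, .lett 1,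
    .lett 6, .lett 3, .stab 6 false, .stab 8 false, .stab 7 false, .stab 8 false, .stab 5 false,
    .stab 7 false, .stab 7 false, .stab 8 false, .stab 7 false, .edge 41 [7,6,4,5,7], .lett 1,
    .lett 1, .lett 3, .lett 6, .lett 4, .lett 0, .lett 4, .lett 1, .lett 5, .lett 0, .lett 5,
    .lett 1, .lett 3, .lett 1, .lett 3, .lett 4, .lett 0, .lett 4, .lett 1, .lett 5, .lett 0,
    .lett 5, .stab 44 false, .stab 44 false, .stab 42 false, .stab 44 false, .stab 42 false,
    .edge 64 [0,1,1,1,0,7,5,7], .lett 1, .lett 6, .lett 3, .stab 44 false, .stab 44 false,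
    .stab 44 false, .stab 50 false, .stab 43 false, .edge 83 [0,0,5,7,5,2,0,6,7], .coin 84,
    .lett 1, .lett 1, .lett 3, .lett 6, .lett 4, .lett 0, .lett 4, .lett 1, .lett 5, .lett 0,
    .lett 5, .lett 1, .lett 0, .lett 2, .lett 4, .lett 0, .lett 4, .lett 1, .lett 5, .lett 0,
    .lett 5, .lett 2, .stab 42 false, .stab 44 false, .stab 44 false, .stab 44 false,
    .edge 71 [5,5,5,5,6,7], .coin 72, .lett 1, .lett 6, .lett 3, .edge 11 [6,7,3,6,7,3,7,6],
    .coin 12, .lett 1, .lett 1, .lett 3, .lett 6, .lett 4, .lett 0, .lett 4, .lett 1, .lett 5,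
    .lett 0, .lett 5, .lett 1, .lett 1, .lett 1, .lett 1]

/-- steps of relation 39 -/
def crun39 : List Step :=
  [.lett 1, .lett 1, .lett 3, .lett 4, .lett 0, .lett 4, .lett 1, .lett 5, .lett 0, .lett 5,
    .lett 3, .stab 1 false, .stab 1 false, .edge 4 [5,4,5,5,5,5,5,6], .lett 1, .lett 2, .lett 0,
    .lett 2, .lett 6, .stab 7 false, .stab 6 false, .stab 5 false, .stab 7 false, .stab 8 false,
    .stab 6 false, .stab 7 false, .stab 7 false, .stab 8 false, .stab 7 false,
    .edge 41 [5,5,5,7,6], .lett 1, .lett 6, .lett 4, .lett 0, .lett 4, .lett 1, .lett 5, .lett 0,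
    .lett 5, .lett 1, .lett 3, .lett 4, .lett 0, .lett 4, .lett 1, .lett 5, .lett 0, .lett 5,
    .lett 3, .stab 44 false, .stab 43 false, .stab 44 false, .edge 71 [5,5,4,5,5,6], .coin 72,
    .lett 1, .lett 2, .lett 6, .stab 6 false, .stab 5 false, .stab 7 false, .stab 7 false,
    .stab 8 false, .stab 7 false, .stab 8 false, .stab 7 false, .edge 41 [6,5,4], .lett 1,
    .lett 1, .lett 2, .lett 6, .lett 4, .lett 0, .lett 4, .lett 1, .lett 5, .lett 0, .lett 5,
    .lett 0, .lett 1, .lett 1, .lett 3, .lett 4, .lett 0, .lett 4, .lett 1, .lett 5, .lett 0,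
    .lett 5, .lett 3, .stab 44 false, .stab 44 false, .stab 42 false, .stab 44 false,
    .stab 42 false, .edge 64 [0,1,5,0,1,7], .lett 1, .lett 2, .lett 0, .lett 2, .lett 6,
    .stab 44 false, .stab 44 false, .stab 44 false, .stab 50 false, .stab 43 false,
    .edge 83 [1,5,5,5,3,6,3,5], .coin 84, .lett 1, .lett 6, .lett 4, .lett 0, .lett 4, .lett 1,
    .lett 5, .lett 0, .lett 5, .lett 1, .lett 3, .lett 4, .lett 0, .lett 4, .lett 1, .lett 5,
    .lett 0, .lett 5, .lett 3, .stab 42 false, .stab 44 false, .stab 44 false, .stab 44 false,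
    .edge 71 [7,5,7,6], .coin 72, .lett 1, .lett 2, .lett 6, .edge 11 [6,1,5,6,7,6,5,3,5,5],
    .coin 12, .lett 1, .lett 1, .lett 2, .lett 6, .lett 4, .lett 0, .lett 4, .lett 1, .lett 5,
    .lett 0, .lett 5, .lett 0, .lett 1, .lett 1, .lett 1, .lett 1]

/-- steps of relation 40 -/
def crun40 : List Step :=
  [.lett 1, .lett 1, .lett 3, .lett 4, .lett 0, .lett 4, .lett 1, .lett 5, .lett 0, .lett 5,
    .lett 3, .stab 1 false, .stab 1 false, .edge 4 [5,4,5,5,5,5,5,6], .lett 1, .lett 2, .lett 0,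
    .lett 2, .lett 6, .stab 7 false, .stab 6 false, .stab 5 false, .stab 7 false, .stab 8 false,
    .stab 6 false, .stab 7 false, .stab 7 false, .stab 8 false, .stab 7 false,
    .edge 41 [5,5,5,7,6], .lett 1, .lett 6, .lett 4, .lett 0, .lett 4, .lett 1, .lett 5, .lett 0,
    .lett 5, .lett 1, .lett 3, .lett 4, .lett 0, .lett 4, .lett 1, .lett 5, .lett 0, .lett 5,
    .lett 3, .lett 0, .stab 44 false, .stab 43 false, .stab 44 false, .edge 71 [5,5,4,5,5,6,5],
    .coin 72, .lett 1, .lett 6, .lett 3, .stab 7 false, .stab 7 false, .stab 7 false,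
    .stab 6 false, .stab 6 false, .stab 7 false, .stab 7 false, .stab 6 false, .stab 7 false,
    .edge 41 [5,6,4,5,7,6], .lett 1, .lett 6, .lett 4, .lett 0, .lett 4, .lett 1, .lett 5,
    .lett 0, .lett 5, .lett 3, .lett 0, .lett 1, .lett 1, .lett 3, .lett 4, .lett 0, .lett 4,
    .lett 1, .lett 5, .lett 0, .lett 5, .lett 3, .stab 43 false, .stab 44 false, .stab 44 false,
    .stab 50 false, .stab 44 false, .edge 64 [1,3,2,6,2,7,5,7], .lett 1, .lett 2, .lett 0,
    .lett 2, .lett 6, .stab 44 false, .stab 43 false, .stab 43 false, .stab 42 false,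
    .edge 83 [2,3,5,5,2,5,7,6], .coin 84, .lett 1, .lett 6, .lett 4, .lett 0, .lett 4, .lett 1,
    .lett 5, .lett 0, .lett 5, .lett 1, .lett 3, .lett 4, .lett 0, .lett 4, .lett 1, .lett 5,
    .lett 0, .lett 5, .lett 3, .lett 0, .stab 42 false, .stab 44 false, .stab 44 false,
    .stab 44 false, .edge 71 [6,7,5,6,5], .coin 72, .lett 1, .lett 6, .lett 3,
    .edge 11 [1,2,5,3,7,2,5], .coin 12, .lett 1, .lett 6, .lett 4, .lett 0, .lett 4, .lett 1,
    .lett 5, .lett 0, .lett 5, .lett 3, .lett 0, .lett 1, .lett 1, .lett 1, .lett 1]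

/-- steps of relation 41 -/
def crun41 : List Step :=
  [.lett 1, .lett 1, .lett 3, .lett 4, .lett 0, .lett 4, .lett 1, .lett 5, .lett 0, .lett 5,
    .lett 3, .stab 1 false, .stab 1 false, .edge 4 [5,4,5,5,5,5,5,6], .lett 1, .lett 2, .lett 0,
    .lett 2, .lett 6, .stab 7 false, .stab 6 false, .stab 5 false, .stab 7 false, .stab 8 false,
    .stab 6 false, .stab 7 false, .stab 7 false, .stab 8 false, .stab 7 false,
    .edge 41 [5,5,5,7,6], .lett 1, .lett 6, .lett 4, .lett 0, .lett 4, .lett 1, .lett 5, .lett 0,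
    .lett 5, .lett 1, .lett 0, .lett 2, .lett 4, .lett 0, .lett 4, .lett 1, .lett 5, .lett 0,
    .lett 5, .lett 2, .stab 44 false, .stab 43 false, .stab 44 false, .edge 71 [6,4,5], .coin 72,
    .lett 1, .lett 6, .lett 3, .stab 8 false, .stab 8 false, .stab 6 false, .stab 7 false,
    .stab 6 false, .stab 8 false, .stab 7 false, .stab 6 false, .stab 5 false, .stab 7 false,
    .edge 41 [4,5,5,5,6,7,5], .lett 1, .lett 1, .lett 3, .lett 6, .lett 4, .lett 0, .lett 4,
    .lett 1, .lett 5, .lett 0, .lett 5, .lett 1, .lett 1, .lett 3, .lett 4, .lett 0, .lett 4,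
    .lett 1, .lett 5, .lett 0, .lett 5, .lett 3, .stab 50 false, .stab 44 false, .stab 42 false,
    .stab 44 false, .stab 50 false, .stab 44 false, .edge 64 [1,6,0,3,7,5,3], .lett 1, .lett 2,
    .lett 0, .lett 2, .lett 6, .stab 44 false, .stab 44 false, .stab 44 false, .stab 50 false,
    .stab 43 false, .edge 83 [0,2,6,5,4,7,2,6], .coin 84, .lett 1, .lett 6, .lett 4, .lett 0,
    .lett 4, .lett 1, .lett 5, .lett 0, .lett 5, .lett 1, .lett 0, .lett 2, .lett 4, .lett 0,
    .lett 4, .lett 1, .lett 5, .lett 0, .lett 5, .lett 2, .stab 42 false, .stab 44 false,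
    .stab 44 false, .stab 44 false, .edge 71 [5,5,6,7,5,6], .coin 72, .lett 1, .lett 6, .lett 3,
    .edge 11 [6,7,3,6,7,3,5,5], .coin 12, .lett 1, .lett 1, .lett 3, .lett 6, .lett 4, .lett 0,
    .lett 4, .lett 1, .lett 5, .lett 0, .lett 5, .lett 1, .lett 1, .lett 1, .lett 1]

/-- steps of relation 42 -/
def crun42 : List Step :=
  [.lett 3, .lett 3, .lett 1, .stab 1 false, .stab 1 false, .edge 4 [7,5,7], .lett 1, .lett 2,
    .lett 2, .lett 3, .lett 4, .lett 0, .lett 4, .lett 1, .lett 5, .lett 0, .lett 5, .lett 3,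
    .lett 0, .edge 11 [5,4,5,6,5], .coin 12, .lett 1, .lett 6, .lett 3, .stab 0 false,
    .stab 2 false, .stab 2 false, .stab 3 false, .stab 1 false, .stab 2 false, .stab 3 false,
    .stab 0 false, .stab 2 false, .stab 3 false, .edge 4 [7,6,2,0,5,2,7], .lett 1, .lett 6,
    .lett 4, .lett 0, .lett 4, .lett 1, .lett 5, .lett 0, .lett 5, .lett 3, .lett 0, .lett 3,
    .lett 3, .lett 1, .stab 5 false, .stab 7 false, .stab 6 false, .stab 6 false, .stab 5 false,
    .stab 7 false, .stab 8 false, .stab 7 false, .stab 6 false, .stab 6 false, .stab 6 false,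
    .edge 41 [5,5,4,5,6,5,7,6,5], .lett 1, .lett 2, .lett 2, .lett 3, .lett 4, .lett 0, .lett 4,
    .lett 1, .lett 5, .lett 0, .lett 5, .lett 3, .lett 0, .edge 71 [5,5,6,7,6], .coin 72, .lett 1,
    .lett 6, .lett 3, .edge 11 [6,7,3,6,7,3,6,7,6], .coin 12, .lett 1, .lett 6, .lett 4, .lett 0,
    .lett 4, .lett 1, .lett 5, .lett 0, .lett 5, .lett 3, .lett 0, .lett 1, .lett 1, .lett 1,
    .lett 1]

/-- steps of relation 43 -/
def crun43 : List Step :=
  [.lett 3, .lett 3, .lett 1, .stab 1 false, .stab 1 false, .edge 4 [7,5,7], .lett 1, .lett 2,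
    .lett 2, .lett 0, .lett 2, .lett 4, .lett 0, .lett 4, .lett 1, .lett 5, .lett 0, .lett 5,
    .lett 2, .edge 11 [6,7,4,5,7], .coin 12, .lett 1, .lett 6, .lett 3, .stab 1 false,
    .stab 1 false, .stab 2 false, .stab 1 false, .stab 2 false, .stab 2 false, .stab 3 false,
    .stab 1 false, .stab 1 false, .stab 1 false, .edge 4 [7,2,2,5,3,7,6,5], .lett 1, .lett 1,
    .lett 3, .lett 6, .lett 4, .lett 0, .lett 4, .lett 1, .lett 5, .lett 0, .lett 5, .lett 3,
    .lett 3, .lett 1, .stab 6 false, .stab 8 false, .stab 7 false, .stab 6 false, .stab 7 false,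
    .stab 6 false, .stab 6 false, .stab 8 false, .stab 6 false, .stab 7 false,
    .edge 41 [5,5,5,4,6,7,5,6,5], .lett 1, .lett 2, .lett 2, .lett 0, .lett 2, .lett 4, .lett 0,
    .lett 4, .lett 1, .lett 5, .lett 0, .lett 5, .lett 2, .edge 71 [5,5,6,7,6], .coin 72, .lett 1,
    .lett 6, .lett 3, .edge 11 [6,7,3,6,7,3,6,7,6], .coin 12, .lett 1, .lett 1, .lett 3, .lett 6,
    .lett 4, .lett 0, .lett 4, .lett 1, .lett 5, .lett 0, .lett 5, .lett 1, .lett 1, .lett 1,
    .lett 1]

/-- steps of relation 44 -/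
def crun44 : List Step :=
  [.lett 3, .lett 4, .lett 0, .lett 4, .lett 1, .lett 5, .lett 0, .lett 5, .lett 3,
    .stab 1 false, .stab 1 false, .edge 4 [4,4,6], .lett 1, .lett 2, .lett 6, .stab 7 false,
    .stab 8 false, .stab 7 false, .stab 6 false, .stab 8 false, .stab 7 false, .stab 6 false,
    .stab 5 false, .stab 7 false, .stab 7 false, .edge 41 [5,6,5,7], .lett 1, .lett 1, .lett 2,
    .lett 6, .lett 4, .lett 0, .lett 4, .lett 1, .lett 5, .lett 0, .lett 5, .lett 0, .lett 0,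
    .lett 2, .lett 4, .lett 0, .lett 4, .lett 1, .lett 5, .lett 0, .lett 5, .lett 2,
    .stab 44 false, .stab 43 false, .stab 44 false, .edge 71 [5,5,4], .coin 72, .lett 1, .lett 6,
    .lett 3, .stab 7 false, .stab 7 false, .stab 7 false, .stab 6 false, .stab 6 false,
    .stab 7 false, .stab 7 false, .stab 6 false, .stab 7 false, .edge 41 [5,6,4,7,5,7], .lett 1,
    .lett 1, .lett 3, .lett 6, .lett 4, .lett 0, .lett 4, .lett 1, .lett 5, .lett 0, .lett 5,
    .lett 3, .lett 4, .lett 0, .lett 4, .lett 1, .lett 5, .lett 0, .lett 5, .lett 3,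
    .stab 43 false, .stab 44 false, .stab 44 false, .stab 50 false, .stab 44 false,
    .edge 64 [0,0,1,5,0,6], .lett 1, .lett 2, .lett 6, .stab 44 false, .stab 43 false,
    .stab 43 false, .stab 42 false, .edge 83 [5,6,7,1,3,5,3], .coin 84, .lett 1, .lett 1, .lett 2,
    .lett 6, .lett 4, .lett 0, .lett 4, .lett 1, .lett 5, .lett 0, .lett 5, .lett 0, .lett 0,
    .lett 2, .lett 4, .lett 0, .lett 4, .lett 1, .lett 5, .lett 0, .lett 5, .lett 2,
    .stab 42 false, .stab 44 false, .stab 44 false, .stab 44 false, .edge 71 [5,5,6,7,5],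
    .coin 72, .lett 1, .lett 6, .lett 3, .edge 11 [6,7,3,6,7,3,5,5,7], .coin 12, .lett 1, .lett 1,
    .lett 3, .lett 6, .lett 4, .lett 0, .lett 4, .lett 1, .lett 5, .lett 0, .lett 5, .lett 1,
    .lett 1, .lett 1, .lett 1]

/-- relation number, exponent and sign -/
def relSpec : List (Nat × Nat × Nat × Nat) :=
  [(0, 0, 3, 1), (1, 1, 2, 1), (2, 2, 2, 1), (3, 3, 2, 1), (4, 4, 2, 1), (5, 5, 2, 1),
    (6, 6, 2, 1), (7, 7, 2, 1), (8, 8, 2, 1), (0, 1, 3, 0), (1, 2, 3, 0), (2, 3, 3, 1),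
    (3, 4, 3, 1), (4, 5, 3, 1), (5, 6, 3, 1), (6, 7, 3, 0), (7, 8, 3, 0), (0, 2, 2, 1),
    (0, 3, 2, 1), (0, 4, 2, 1), (0, 5, 2, 1), (0, 6, 2, 1), (0, 7, 2, 1), (0, 8, 2, 1),
    (1, 3, 2, 1), (1, 4, 2, 1), (1, 5, 2, 1), (1, 6, 2, 1), (1, 7, 2, 1), (1, 8, 2, 1),
    (2, 4, 2, 1), (2, 5, 2, 1), (2, 6, 2, 1), (2, 7, 2, 1), (2, 8, 2, 1), (3, 5, 2, 1),
    (3, 6, 2, 1), (3, 7, 2, 1), (3, 8, 2, 1), (4, 6, 2, 1), (4, 7, 2, 1), (4, 8, 2, 1),
    (5, 7, 2, 1), (5, 8, 2, 1), (6, 8, 2, 1)]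

/-- the runs -/
def relSteps : List (List Step) :=
  [crun0, crun1, crun2, crun3, crun4, crun5, crun6, crun7, crun8, crun9, crun10, crun11, crun12,
    crun13, crun14, crun15, crun16, crun17, crun18, crun19, crun20, crun21, crun22, crun23,
    crun24, crun25, crun26, crun27, crun28, crun29, crun30, crun31, crun32, crun33, crun34,
    crun35, crun36, crun37, crun38, crun39, crun40, crun41, crun42, crun43, crun44]

end CfsgLib.Spor.LyOut
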