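import Cfsg.Agent.Lib.Spor.LyOut.Check
import Cfsg.Agent.Lib.Spor.LyOut.CarmSteps

/-!
The kernel checks of Carmichael's relations for the nine elements.
-/

set_option autoImplicit false

namespace CfsgLib.Spor.LyOut

open CfsgLib.DCE CfsgLib.Spor.Ly

/-- the word of a relation -/
def relWord (s : Nat × Nat × Nat × Nat) : List Nat :=
  (List.replicate s.2.2.1
    (if s.1 = s.2.1 then lets (twY.getD s.1 []) else
      lets (twY.getD s.1 []) ++ lets (twY.getD s.2.1 []))).flatten ++
    (List.replicate s.2.2.2 (winv wT)).flatten

/-- relation number `k` holds -/
noncomputable def okRel (k : Nat) : Bool :=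
  GK.S.okValI GK.facts (nat_lit 108) (relSteps.getD k [])
    (relWord (relSpec.getD k (0, 0, 0, 0))) []

theorem okRel0 : okRel 0 = true := by decide +kernel

theorem okRel1 : okRel 1 = true := by decide +kernel

theorem okRel2 : okRel 2 = true := by decide +kernel

theorem okRel3 : okRel 3 = true := by decide +kernel

theorem okRel4 : okRel 4 = true := by decide +kernel

theorem okRel5 : okRel 5 = true := by decide +kernel

theorem okRel6 : okRel 6 = true := by decide +kernel

theorem okRel7 : okRel 7 = true := by decide +kernel

theorem okRel8 : okRel 8 = true := by decide +kernel

theorem okRel9 : okRel 9 = true := by decide +kernel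

theorem okRel10 : okRel 10 = true := by decide +kernel

theorem okRel11 : okRel 11 = true := by decide +kernel

theorem okRel12 : okRel 12 = true := by decide +kernel

theorem okRel13 : okRel 13 = true := by decide +kernel

theorem okRel14 : okRel 14 = true := by decide +kernel

theorem okRel15 : okRel 15 = true := by decide +kernel

theorem okRel16 : okRel 16 = true := by decide +kernel

theorem okRel17 : okRel 17 = true := by decide +kernel

theorem okRel18 : okRel 18 = true := by decide +kernel

theorem okRel19 : okRel 19 = true := by decide +kernel

theorem okRel20 : okRel 20 = true := by decide +kernel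

theorem okRel21 : okRel 21 = true := by decide +kernel

theorem okRel22 : okRel 22 = true := by decide +kernel

theorem okRel23 : okRel 23 = true := by decide +kernel

theorem okRel24 : okRel 24 = true := by decide +kernel

theorem okRel25 : okRel 25 = true := by decide +kernel

theorem okRel26 : okRel 26 = true := by decide +kernel

theorem okRel27 : okRel 27 = true := by decide +kernel

theorem okRel28 : okRel 28 = true := by decide +kernel

theorem okRel29 : okRel 29 = true := by decide +kernel

theorem okRel30 : okRel 30 = true := by decide +kernel

theorem okRel31 : okRel 31 = true := by decide +kernel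

theorem okRel32 : okRel 32 = true := by decide +kernel

theorem okRel33 : okRel 33 = true := by decide +kernel

theorem okRel34 : okRel 34 = true := by decide +kernel

theorem okRel35 : okRel 35 = true := by decide +kernel

theorem okRel36 : okRel 36 = true := by decide +kernel

theorem okRel37 : okRel 37 = true := by decide +kernel

theorem okRel38 : okRel 38 = true := by decide +kernel

theorem okRel39 : okRel 39 = true := by decide +kernel

theorem okRel40 : okRel 40 = true := by decide +kernel

theorem okRel41 : okRel 41 = true := by decide +kernel

theorem okRel42 : okRel 42 = true := by decide +kernel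

theorem okRel43 : okRel 43 = true := by decide +kernel

theorem okRel44 : okRel 44 = true := by decide +kernel

theorem okRel_true (k : Nat) (hk : k < 45) : okRel k = true := by
  interval_cases k
  · exact okRel0
  · exact okRel1
  · exact okRel2
  · exact okRel3
  · exact okRel4
  · exact okRel5
  · exact okRel6
  · exact okRel7
  · exact okRel8
  · exact okRel9
  · exact okRel10
  · exact okRel11
  · exact okRel12
  · exact okRel13
  · exact okRel14
  · exact okRel15
  · exact okRel16
  · exact okRel17
  · exact okRel18
  · exact okRel19
  · exact okRel20
  · exact okRel21
  · exact okRel22
  · exact okRel23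
  · exact okRel24
  · exact okRel25
  · exact okRel26
  · exact okRel27
  · exact okRel28
  · exact okRel29
  · exact okRel30
  · exact okRel31
  · exact okRel32
  · exact okRel33
  · exact okRel34
  · exact okRel35
  · exact okRel36
  · exact okRel37
  · exact okRel38
  · exact okRel39
  · exact okRel40
  · exact okRel41
  · exact okRel42
  · exact okRel43
  · exact okRel44

end CfsgLib.Spor.LyOut
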