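import Cfsg.Agent.Lib.Spor.LyOut.Glue
import Cfsg.Agent.Lib.Spor.LyOut.CarmChecked

/-!
The nine elements satisfy Carmichael's relations modulo `a ^ 4`.
-/

set_option autoImplicit false

namespace CfsgLib.Spor.LyOut

open CfsgLib.DCE CfsgLib.PresCert CfsgLib.Spor.Ly CfsgLib.Recog

/-- the numbered relation between the generators `i` and `j` is on the list -/
def inSpec (i j n : Nat) : Bool :=
  relSpec.any fun s => Nat.beq s.1 i && Nat.beq s.2.1 j && Nat.beq s.2.2.1 n

theorem spec_cover : ∀ i j : Fin 9,
    (i.val = 0 → inSpec i i 3 = true) ∧ (1 ≤ i.val → inSpec i i 2 = true) ∧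
    (j.val = i.val + 1 → inSpec i j 3 = true) ∧ (i.val + 1 < j.val → inSpec i j 2 = true) := by
  decide +kernel

theorem relWord_lt : (relSpec.all fun s => (relWord s).all fun x => Nat.blt x 9) = true := by
  decide +kernel

theorem spec_small : (relSpec.all fun s => Nat.ble s.2.2.2 1) = true := by decide +kernel

variable {H Q : Type*} [Group H] [Group Q] (N : Model GK.S H Q)
variable (hS : GK.S.okSetup = true) (hfs : ∀ f < 108, N.FactOK (Setup.fget GK.facts f))

theorem val_flatten (w : List Nat) (n : Nat) :
    val N (List.replicate n w).flatten = val N w ^ n := by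
  induction n with
  | zero => simp [val]
  | succ n ih => rw [List.replicate_succ, List.flatten_cons, val_append, ih, pow_succ']

/-- the elements satisfy the relations -/
theorem carm_rels : ∀ r ∈ carmichaelRelators 9,
    ((FreeGroup.lift (yEl N hS hfs) r : Subgroup.centralizer ({tel N} : Set Q)) : Q) ∈
      Subgroup.zpowers (tel N) := by
  have key : ∀ (i j : Fin 9) (n : Nat), inSpec i j n = true →
      (if i = j then val N (lets (yTok i)) else val N (lets (yTok i)) * val N (lets (yTok j))) ^ n ∈
        Subgroup.zpowers (tel N) := by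
    intro i j n h
    simp only [inSpec, List.any_eq_true, Bool.and_eq_true, Nat.beq_eq] at h
    obtain ⟨s, hs, ⟨h1, h2⟩, h3⟩ := h
    obtain ⟨k, hk, hks⟩ := List.getElem_of_mem hs
    have hlen : relSpec.length = 45 := rfl
    have h := okValI_spec N hS (n := 108) hfs (okRel_true k (hlen ▸ hk))
    rw [show relSpec.getD k (0, 0, 0, 0) = s by
      rw [List.getD_eq_getElem?_getD, List.getElem?_eq_getElem hk, Option.getD_some, hks],
      Model.wq_nil] at h
    replace h : val N (relWord s) = 1 := h
    have hw : val N (winv wT) = (tel N)⁻¹ := val_winv N wT (by decide)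
    rw [relWord, val_append, val_flatten, val_flatten, hw, inv_pow, mul_inv_eq_one, h3] at h
    refine ⟨(s.2.2.2 : ℤ), ?_⟩
    show tel N ^ (s.2.2.2 : ℤ) = _
    rw [zpow_natCast, ← h]
    have e1 : twY.getD s.1 [] = yTok i := by rw [yTok, h1]
    have e2 : twY.getD s.2.1 [] = yTok j := by rw [yTok, h2]
    by_cases hij : i = j
    · rw [if_pos hij, if_pos (by rw [h1, h2, hij]), e1]
    · rw [if_neg hij, if_neg (by rw [h1, h2]; exact fun e => hij (Fin.ext e)), val_append, e1, e2]
  rintro r (((⟨i, hi, rfl⟩ | ⟨i, hi, rfl⟩) | ⟨i, j, hij, rfl⟩) | ⟨i, j, hij, rfl⟩) <;>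
    simp only [map_pow, map_mul, FreeGroup.lift_apply_of, Subgroup.coe_pow, Subgroup.coe_mul,
      yEl, coe_el]
  · simpa using key i i 3 ((spec_cover i i).1 hi)
  · simpa using key i i 2 ((spec_cover i i).2.1 hi)
  · simpa [show i ≠ j from fun e => by rw [e] at hij; omega] using
      key i j 3 ((spec_cover i j).2.2.1 hij)
  · simpa [show i ≠ j from fun e => by rw [e] at hij; omega] using
      key i j 2 ((spec_cover i j).2.2.2 hij)

/-- The outer automorphism group is trivial. -/
theorem natCard_out' {H Q : Type*} [Group H] [Group Q] [Finite Q] (N : Model GK.S H Q)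
    (hS : GK.S.okSetup = true) (hfs : ∀ f < 108, N.FactOK (Setup.fget GK.facts f))
    (hinj : Function.Injective N.f) (hG : Nat.card Q = 51765179004000000)
    (hcard : Nat.card (Subgroup.centralizer ({tel N} : Set Q)) ≤ 39916800) :
    Nat.card (Cfsg.Out Q) = 1 :=
  natCard_out N hS hfs hinj hG hcard (carm_rels N hS hfs)

end CfsgLib.Spor.LyOut
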