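import Cfsg.Agent.Lib.DCE.Check

/-!
Recorded runs proving the identities in the Lyons group used for its automorphisms (generated data).
-/

namespace CfsgLib.Spor.LyOut

open CfsgLib.DCE

/-- steps of run 0 -/
def run0 : List Step :=
  [.lett 0, .lett 0, .lett 0, .lett 0, .lett 0, .lett 1, .lett 1, .lett 1, .lett 1, .lett 1]

/-- steps of run 1 -/
def run1 : List Step :=
  [.lett 2, .lett 0, .lett 0, .lett 0, .lett 0, .lett 3, .lett 1, .lett 1, .lett 1, .lett 1]

/-- steps of run 2 -/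
def run2 : List Step :=
  [.lett 6, .lett 0, .lett 0, .lett 0, .lett 0, .lett 7, .lett 1, .lett 1, .lett 1, .lett 1]

/-- steps of run 3 -/
def run3 : List Step :=
  [.edge 4 [], .lett 1, .lett 0, .lett 0, .lett 0, .lett 0, .lett 0, .edge 11 [5,5,5,5],
    .coin 12, .lett 1, .lett 1, .lett 1, .lett 1]

/-- steps of run 4 -/
def run4 : List Step :=
  [.lett 4, .lett 0, .lett 4, .lett 1, .lett 5, .lett 0, .lett 5, .lett 0, .lett 0, .lett 0,
    .lett 0, .lett 4, .lett 1, .lett 4, .lett 0, .lett 5, .lett 1, .lett 5, .lett 1, .lett 1,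
    .lett 1, .lett 1]

/-- steps of run 5 -/
def run5 : List Step :=
  [.lett 4, .lett 1, .lett 3, .lett 5, .lett 2, .lett 0, .lett 7, .lett 4, .lett 7, .lett 2,
    .lett 1, .lett 3, .lett 4, .lett 2, .lett 2, .lett 5, .lett 2, .lett 0, .lett 3, .lett 6,
    .lett 5, .lett 6, .lett 1, .lett 3, .lett 4, .lett 2, .lett 0]

/-- steps of run 6 -/
def run6 : List Step :=
  [.lett 1, .lett 3, .lett 5, .lett 2, .lett 0, .lett 7, .lett 4, .lett 7, .lett 2, .lett 1,
    .lett 3, .lett 4, .lett 0, .lett 0, .lett 0, .lett 0, .lett 5, .lett 2, .lett 0, .lett 3,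
    .lett 6, .lett 5, .lett 6, .lett 1, .lett 3, .lett 4, .lett 2, .lett 0, .lett 0, .lett 3,
    .lett 3, .lett 1, .lett 3, .lett 1, .lett 2, .lett 1]

/-- steps of run 7 -/
def run7 : List Step :=
  [.lett 5, .lett 2, .lett 0, .lett 3, .lett 6, .lett 5, .lett 6, .lett 1, .lett 3, .lett 4,
    .lett 2, .lett 0, .lett 0, .lett 0, .lett 0, .lett 0, .lett 1, .lett 3, .lett 5, .lett 2,
    .lett 0, .lett 7, .lett 4, .lett 7, .lett 2, .lett 1, .lett 3, .lett 4, .lett 1, .lett 1,
    .lett 1, .lett 1, .lett 1, .lett 3, .lett 4, .lett 0, .lett 4, .lett 1, .lett 5, .lett 0,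
    .lett 5, .lett 7, .lett 2, .lett 4, .lett 1, .lett 4, .lett 0, .lett 5, .lett 1, .lett 5,
    .lett 2, .lett 2, .lett 0]

/-- steps of run 8 -/
def run8 : List Step :=
  [.lett 2, .lett 0, .lett 2, .stab 1 false, .stab 1 false, .edge 4 [5,5,7,6,5], .lett 1,
    .lett 3, .lett 6, .stab 6 false, .edge 41 [6], .lett 1, .lett 6, .lett 4, .lett 1, .lett 4,
    .lett 0, .lett 5, .lett 1, .lett 5, .lett 6, .stab 44 false, .stab 42 false, .stab 44 false,
    .stab 44 false, .stab 43 false, .stab 42 false, .edge 77 [5,5,6,5,7,0,3,6,5,7], .coin 78,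
    .lett 1, .lett 3, .lett 4, .lett 0, .lett 4, .lett 1, .lett 5, .lett 0, .lett 5, .lett 6,
    .stab 24 false, .stab 26 false, .stab 29 false, .stab 25 false, .stab 24 false,
    .stab 24 false, .stab 24 false, .edge 87 [6,0,7,0,5,4], .coin 88, .lett 1, .lett 3, .lett 3,
    .stab 42 false, .stab 44 false, .stab 43 false, .stab 43 false, .stab 42 false,
    .edge 83 [5,5,6,0,6,2,5], .coin 84, .lett 1, .lett 2, .lett 0, .lett 2, .stab 50 false,
    .stab 43 false, .stab 44 false, .stab 43 false, .stab 42 false, .edge 64 [1,5,5,0,1,7,5,6,7],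
    .lett 1, .lett 3, .lett 6, .stab 50 false, .stab 44 false, .stab 44 false, .stab 50 false,
    .stab 43 false, .edge 96 [0,6,3,7,2,6,0], .coin 97, .lett 1, .lett 6, .lett 4, .lett 1,
    .lett 4, .lett 0, .lett 5, .lett 1, .lett 5, .lett 6, .stab 29 false, .stab 25 false,
    .stab 26 false, .stab 29 false, .stab 29 false, .stab 24 false, .edge 59 [1,6,7,1,5,5,6,3],
    .lett 1, .lett 3, .lett 4, .lett 0, .lett 4, .lett 1, .lett 5, .lett 0, .lett 5, .lett 6,
    .stab 50 false, .stab 44 false, .stab 50 false, .edge 67 [7,1,4,5,6,3], .lett 1, .lett 3,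
    .lett 3, .stab 50 false, .stab 43 false, .stab 44 false, .stab 42 false, .stab 44 false,
    .edge 83 [7,3,6,0,3,6], .coin 84, .lett 1, .lett 2, .lett 0, .lett 2, .stab 43 false,
    .edge 77 [7,0,1,6,2,1], .coin 78, .lett 1, .lett 3, .lett 6, .stab 24 false, .stab 26 false,
    .stab 29 false, .stab 26 false, .stab 29 false, .edge 69 [1,5,0,3,6,1,3], .lett 1, .lett 6,
    .lett 4, .lett 1, .lett 4, .lett 0, .lett 5, .lett 1, .lett 5, .lett 6, .stab 50 false,
    .stab 43 false, .stab 42 false, .stab 44 false, .edge 71 [5,6,4,5,7], .coin 72, .lett 1,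
    .lett 3, .lett 4, .lett 0, .lett 4, .lett 1, .lett 5, .lett 0, .lett 5, .lett 6,
    .stab 6 false, .edge 10 [1,6,1,7,5,6,7,2,7], .lett 1, .lett 3, .lett 3,
    .edge 11 [2,5,3,3,7,6], .coin 12, .lett 1]

/-- steps of run 9 -/
def run9 : List Step :=
  [.lett 2, .lett 2, .stab 1 false, .stab 1 false, .stab 1 false, .edge 4 [], .lett 1, .lett 6,
    .lett 4, .lett 1, .lett 4, .lett 0, .lett 5, .lett 1, .lett 5, .lett 2, .stab 6 false,
    .stab 6 false, .edge 41 [5,6,5,4,7,6,5], .lett 1, .lett 6, .stab 44 false, .stab 44 false,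
    .stab 42 false, .stab 44 false, .stab 50 false, .edge 77 [1,6,7,6,3,0,5,7], .coin 78, .lett 1,
    .lett 3, .lett 4, .lett 0, .lett 4, .lett 1, .lett 5, .lett 0, .lett 5, .lett 6,
    .stab 24 false, .stab 26 false, .stab 29 false, .stab 26 false, .stab 29 false,
    .edge 69 [1,4,6,5,3,5,5,5,6], .lett 1, .lett 3, .lett 3, .lett 0, .lett 0, .lett 0, .lett 0,
    .lett 2, .lett 2, .stab 44 false, .stab 44 false, .stab 44 false, .stab 42 false,
    .edge 77 [0,5,0,7,6,1,5,6,7,6], .coin 78, .lett 1, .lett 6, .lett 4, .lett 1, .lett 4,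
    .lett 0, .lett 5, .lett 1, .lett 5, .lett 2, .stab 24 false, .stab 26 false, .stab 29 false,
    .stab 26 false, .stab 29 false, .edge 69 [1,6,5,3,4,7,5], .lett 1, .lett 6, .stab 44 false,
    .stab 50 false, .stab 44 false, .stab 43 false, .edge 77 [7,5,6,2,0], .coin 78, .lett 1,
    .lett 3, .lett 4, .lett 0, .lett 4, .lett 1, .lett 5, .lett 0, .lett 5, .lett 6,
    .stab 24 false, .stab 26 false, .stab 29 false, .stab 26 false, .stab 29 false,
    .edge 69 [2,5,7,4,6,5,0], .lett 1, .lett 3, .lett 3, .lett 0, .lett 0, .lett 0, .lett 0,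
    .lett 2, .lett 2, .stab 44 false, .stab 44 false, .stab 44 false, .stab 42 false,
    .edge 77 [0,5,0,5,5,6,7,0], .coin 78, .lett 1, .lett 6, .lett 4, .lett 1, .lett 4, .lett 0,
    .lett 5, .lett 1, .lett 5, .lett 2, .stab 24 false, .stab 26 false, .stab 29 false,
    .stab 26 false, .stab 29 false, .edge 69 [0,5,5,7,6,1,5,2,7], .lett 1, .lett 6,
    .stab 50 false, .stab 43 false, .stab 42 false, .stab 44 false, .edge 71 [5,5,6,4,7,6],
    .coin 72, .lett 1, .lett 3, .lett 4, .lett 0, .lett 4, .lett 1, .lett 5, .lett 0, .lett 5,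
    .lett 6, .edge 11 [2,4,6,1,5], .coin 12, .lett 1, .lett 3, .lett 3, .lett 0, .lett 0, .lett 0,
    .lett 0]

/-- steps of run 10 -/
def run10 : List Step :=
  [.lett 0, .lett 3, .lett 0, .lett 2, .lett 0, .lett 2, .lett 2, .lett 1, .lett 1, .lett 1,
    .lett 1, .lett 1, .lett 2, .lett 2, .lett 0, .stab 1 false, .stab 1 false,
    .edge 4 [5,5,5,6,7,5,6], .lett 7, .lett 4, .lett 1, .lett 4, .lett 0, .lett 5, .lett 1,
    .lett 5, .lett 2, .lett 0, .stab 6 false, .edge 41 [5,6,4,7,5,6,5], .lett 7, .lett 0,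
    .stab 44 false, .stab 42 false, .stab 44 false, .stab 44 false, .stab 43 false,
    .stab 42 false, .edge 77 [0,5,7,0,5,6,0,3], .coin 78, .lett 3, .lett 4, .lett 0, .lett 4,
    .lett 1, .lett 5, .lett 0, .lett 5, .lett 7, .lett 0, .stab 24 false, .stab 26 false,
    .stab 29 false, .stab 26 false, .stab 29 false, .edge 69 [0,1,7,0,1,2,5,7], .lett 3, .lett 3,
    .lett 0, .stab 43 false, .stab 44 false, .stab 44 false, .stab 44 false, .stab 42 false,
    .edge 64 [1,5,5,0,1,5,5,5,6], .lett 2, .lett 2, .lett 0, .stab 50 false, .stab 50 false,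
    .stab 44 false, .stab 50 false, .stab 42 false, .edge 51 [1,5,7,5,6,0,1,5], .lett 7, .lett 4,
    .lett 1, .lett 4, .lett 0, .lett 5, .lett 1, .lett 5, .lett 2, .lett 0, .stab 24 false,
    .stab 29 false, .stab 24 false, .stab 24 false, .stab 24 false, .edge 69 [1,5,2,7,0,0],
    .lett 7, .lett 4, .lett 0, .lett 4, .lett 1, .lett 5, .lett 0, .lett 5, .lett 7, .lett 0,
    .stab 50 false, .stab 43 false, .stab 42 false, .stab 44 false, .edge 71 [5,7,6,5], .coin 72,
    .lett 7, .lett 2, .lett 0, .edge 11 [2,4,6,1,5,6,7], .coin 12, .lett 3, .lett 1, .lett 3]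

/-- steps of run 11 -/
def run11 : List Step :=
  [.lett 1, .lett 3, .lett 5, .lett 2, .lett 0, .lett 7, .lett 4, .lett 7, .lett 2, .lett 1,
    .lett 3, .lett 4, .lett 2, .lett 2, .stab 3 false, .stab 1 false, .stab 0 false,
    .stab 2 false, .stab 1 false, .stab 2 false, .stab 3 false, .stab 2 false, .stab 3 false,
    .stab 1 false, .edge 4 [1,5,6,3,7,6,5], .lett 1, .lett 6, .stab 7 false, .stab 7 false,
    .stab 6 false, .stab 6 false, .stab 7 false, .stab 6 false, .stab 6 false, .stab 5 false,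
    .stab 7 false, .edge 13 [7,6,5,7], .lett 1, .lett 4, .lett 1, .lett 4, .lett 0, .lett 5,
    .lett 1, .lett 5, .lett 6, .stab 17 false, .stab 14 false, .stab 17 false, .stab 14 false,
    .stab 17 false, .stab 15 false, .edge 22 [3,5,7,2,6,0,5,0], .lett 1, .lett 4, .lett 0,
    .lett 4, .lett 1, .lett 5, .lett 0, .lett 5, .lett 2, .lett 6, .stab 16 false, .stab 16 false,
    .stab 17 false, .stab 17 false, .stab 17 false, .edge 47 [5,6,4,7,5,6], .lett 1, .lett 2,
    .lett 2, .lett 5, .lett 2, .lett 0, .lett 3, .lett 6, .lett 5, .lett 6, .lett 1, .lett 3,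
    .lett 4, .lett 2, .lett 0, .lett 0, .stab 44 false, .stab 50 false, .stab 44 false,
    .stab 44 false, .edge 83 [5,2,6,1,3,6,5,7], .coin 84, .lett 3, .lett 3, .lett 0,
    .stab 43 false, .edge 77 [1,5,6,7,0,6,7,2], .coin 78, .lett 7, .lett 4, .lett 0, .lett 4,
    .lett 1, .lett 5, .lett 0, .lett 5, .lett 0, .stab 24 false, .stab 24 false, .stab 25 false,
    .edge 35 [7,5,6,2,5,5,5,6,3], .lett 3, .lett 0, .stab 25 false, .stab 26 false,
    .stab 25 false, .stab 29 false, .stab 24 false, .edge 69 [1,7,4,5,6,5,2], .lett 7, .lett 0,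
    .stab 50 false, .stab 43 false, .stab 42 false, .stab 44 false, .edge 71 [5,7,5,4], .coin 72,
    .lett 2, .lett 4, .lett 1, .lett 4, .lett 0, .lett 5, .lett 1, .lett 5, .lett 7, .lett 0,
    .edge 11 [5,6,7,6,2,6,5,2], .coin 12, .lett 2, .lett 2]

/-- steps of run 12 -/
def run12 : List Step :=
  [.lett 3, .lett 3, .stab 1 false, .stab 1 false, .edge 4 [], .lett 1, .lett 6, .lett 4,
    .lett 0, .lett 4, .lett 1, .lett 5, .lett 0, .lett 5, .lett 3, .edge 41 [4,5,5], .lett 1,
    .lett 6, .stab 44 false, .stab 44 false, .stab 42 false, .stab 44 false, .stab 44 false,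
    .stab 42 false, .edge 77 [0,5,5,0,5,2,6,5,7], .coin 78, .lett 1, .lett 2, .stab 29 false,
    .stab 26 false, .stab 29 false, .stab 26 false, .stab 24 false, .edge 35 [0,7,2,3,3,2,5,6],
    .lett 1, .lett 4, .lett 1, .lett 4, .lett 0, .lett 5, .lett 1, .lett 5, .lett 6,
    .stab 24 false, .stab 29 false, .stab 26 false, .stab 25 false, .stab 26 false,
    .edge 69 [0,5,5,6,3,7,0,5,5,6], .lett 1, .lett 2, .lett 2, .stab 42 false, .stab 44 false,
    .stab 44 false, .stab 44 false, .stab 50 false, .stab 42 false, .edge 64 [2,5,7,1,0,6,7,6,5],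
    .lett 1, .lett 3, .lett 3, .stab 50 false, .stab 42 false, .stab 44 false, .stab 44 false,
    .stab 44 false, .edge 51 [2,5,5,0,5,6,5], .lett 1, .lett 6, .lett 4, .lett 0, .lett 4,
    .lett 1, .lett 5, .lett 0, .lett 5, .lett 3, .stab 24 false, .stab 25 false, .stab 29 false,
    .stab 26 false, .edge 69 [2,5,5,5,7,6,1,5,7], .lett 1, .lett 6, .stab 43 false,
    .stab 44 false, .stab 44 false, .stab 44 false, .stab 50 false, .edge 77 [0,1,2,5,6,3,7],
    .coin 78, .lett 1, .lett 2, .stab 24 false, .stab 25 false, .stab 24 false, .stab 24 false,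
    .stab 29 false, .stab 26 false, .stab 24 false, .edge 87 [2,5,7,5,0,3,3,7], .coin 88, .lett 1,
    .lett 4, .lett 1, .lett 4, .lett 0, .lett 5, .lett 1, .lett 5, .lett 6, .stab 44 false,
    .stab 50 false, .stab 44 false, .stab 44 false, .stab 44 false, .stab 43 false,
    .edge 56 [2,3,3,3], .lett 1, .lett 2, .lett 2, .stab 43 false, .stab 44 false, .stab 50 false,
    .stab 50 false, .stab 43 false, .stab 42 false, .edge 66 [0,6,7,5,2,5,5,6,5], .lett 1,
    .lett 3, .lett 3, .stab 50 false, .stab 44 false, .stab 43 false, .stab 42 false,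
    .edge 56 [0,3,6,5,7,3,5,5,6], .lett 1, .lett 6, .lett 4, .lett 0, .lett 4, .lett 1, .lett 5,
    .lett 0, .lett 5, .lett 3, .stab 43 false, .stab 44 false, .stab 43 false, .stab 43 false,
    .stab 43 false, .edge 83 [5,5,7,1,7,3,7,6,5], .coin 84, .lett 1, .lett 6, .stab 42 false,
    .stab 44 false, .stab 44 false, .stab 42 false, .stab 44 false, .edge 48 [5,5,4,6,7,6,5],
    .lett 1, .lett 2, .edge 71 [5,5,4,5,5,5,6,7], .coin 72, .lett 1, .lett 4, .lett 1, .lett 4,
    .lett 0, .lett 5, .lett 1, .lett 5, .lett 6, .stab 6 false, .stab 6 false,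
    .edge 10 [0,5,3,5,7,5,3], .lett 1, .lett 2, .lett 2, .edge 11 [1,6,1,7,1,5,5,5], .coin 12,
    .lett 1]

/-- steps of run 13 -/
def run13 : List Step :=
  [.lett 1, .lett 3, .lett 5, .lett 2, .lett 0, .lett 7, .lett 4, .lett 7, .lett 2, .lett 1,
    .lett 3, .lett 4, .lett 6, .lett 4, .lett 0, .lett 4, .lett 1, .lett 5, .lett 0, .lett 5,
    .lett 6, .stab 0 false, .stab 2 false, .stab 1 false, .stab 2 false, .stab 3 false,
    .stab 1 false, .stab 1 false, .stab 1 false, .stab 2 false, .stab 3 false, .stab 1 false,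
    .edge 4 [4,5,5,7,2,5], .lett 1, .lett 6, .stab 7 false, .stab 7 false, .stab 6 false,
    .stab 7 false, .stab 8 false, .stab 5 false, .stab 7 false, .stab 6 false, .stab 6 false,
    .stab 7 false, .edge 13 [5,6,5,7,5], .lett 1, .lett 4, .lett 1, .lett 4, .lett 0, .lett 5,
    .lett 1, .lett 5, .lett 6, .lett 5, .lett 2, .lett 0, .lett 3, .lett 6, .lett 5, .lett 6,
    .lett 1, .lett 3, .lett 4, .lett 2, .lett 0, .lett 1, .lett 1, .lett 1, .lett 1, .lett 7,
    .lett 0, .stab 15 false, .stab 17 false, .edge 19 [5,5,5], .coin 20, .lett 7, .lett 0,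
    .edge 11 [1,7,1,2,5,5,5,5,6,7], .coin 12]

/-- steps of run 14 -/
def run14 : List Step :=
  [.lett 1, .lett 3, .lett 5, .lett 2, .lett 0, .lett 7, .lett 4, .lett 7, .lett 2, .lett 1,
    .lett 3, .lett 4, .lett 0, .lett 6, .lett 4, .lett 0, .lett 4, .lett 1, .lett 5, .lett 0,
    .lett 5, .lett 3, .lett 3, .lett 6, .lett 4, .lett 0, .lett 4, .lett 1, .lett 5, .lett 0,
    .lett 5, .lett 3, .lett 1, .lett 2, .lett 5, .lett 2, .lett 0, .lett 3, .lett 6, .lett 5,
    .lett 6, .lett 1, .lett 3, .lett 4, .lett 2, .lett 0, .lett 1, .lett 1, .lett 1, .lett 1,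
    .lett 7, .lett 3, .lett 1, .lett 3, .lett 3, .lett 1, .lett 3, .lett 1]

/-- steps of run 15 -/
def run15 : List Step :=
  [.lett 3, .lett 3, .lett 0, .stab 1 false, .stab 1 false, .edge 4 [5], .lett 1, .lett 3,
    .lett 6, .edge 41 [], .lett 1, .lett 4, .lett 0, .lett 4, .lett 1, .lett 5, .lett 0, .lett 5,
    .lett 6, .stab 44 false, .stab 44 false, .stab 42 false, .stab 44 false, .stab 44 false,
    .stab 42 false, .edge 77 [5,5,5,6,0,7,3,5,5], .coin 78, .lett 1, .lett 2, .stab 24 false,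
    .stab 25 false, .stab 24 false, .stab 24 false, .stab 29 false, .stab 26 false,
    .stab 24 false, .edge 87 [5,0,5,6,3,4,6], .coin 88, .lett 1, .lett 4, .lett 0, .lett 4,
    .lett 1, .lett 5, .lett 0, .lett 5, .lett 6, .stab 44 false, .stab 50 false, .stab 44 false,
    .stab 44 false, .stab 44 false, .stab 43 false, .edge 56 [2,3,5,5,3], .lett 1, .lett 2,
    .lett 2, .lett 0, .lett 0, .lett 0, .lett 0, .lett 3, .lett 3, .lett 0, .stab 43 false,
    .stab 44 false, .stab 50 false, .stab 50 false, .stab 43 false, .stab 42 false,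
    .edge 56 [0,3,6,5,7,3,5,6,5], .lett 1, .lett 3, .lett 6, .stab 43 false, .stab 44 false,
    .stab 43 false, .stab 43 false, .stab 43 false, .edge 83 [0,6,1,5,7,6,1,5,6], .coin 84,
    .lett 1, .lett 4, .lett 0, .lett 4, .lett 1, .lett 5, .lett 0, .lett 5, .lett 6,
    .stab 43 false, .stab 50 false, .edge 64 [0,7,0,5,6,5,7,2,7], .lett 1, .lett 2,
    .stab 50 false, .stab 42 false, .stab 44 false, .stab 44 false, .stab 44 false,
    .edge 51 [6,4,7,0,5,6,5,0], .lett 1, .lett 4, .lett 0, .lett 4, .lett 1, .lett 5, .lett 0,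
    .lett 5, .lett 6, .stab 26 false, .stab 25 false, .stab 25 false, .stab 29 false,
    .stab 25 false, .edge 87 [6,0,7,0,5,6,7], .coin 88, .lett 1, .lett 2, .lett 2, .lett 0,
    .lett 0, .lett 0, .lett 0, .lett 3, .lett 3, .lett 0, .stab 50 false, .stab 50 false,
    .stab 44 false, .stab 50 false, .stab 42 false, .edge 51 [2,0,0,7,5,7], .lett 1, .lett 3,
    .lett 6, .stab 24 false, .stab 25 false, .stab 29 false, .stab 26 false,
    .edge 69 [2,5,7,6,4,5,0], .lett 1, .lett 4, .lett 0, .lett 4, .lett 1, .lett 5, .lett 0,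
    .lett 5, .lett 6, .stab 50 false, .stab 43 false, .stab 42 false, .stab 44 false,
    .edge 73 [7,4,5], .coin 74, .lett 1, .lett 2, .stab 17 false, .stab 16 false, .stab 17 false,
    .stab 17 false, .edge 19 [5,7,6,4,5,7], .coin 20, .lett 1, .lett 4, .lett 0, .lett 4, .lett 1,
    .lett 5, .lett 0, .lett 5, .lett 6, .edge 11 [1,7,1,2,5,5,7], .coin 12, .lett 1, .lett 2,
    .lett 2, .lett 0, .lett 0, .lett 0, .lett 0]

/-- steps of run 16 -/
def run16 : List Step :=
  [.lett 5, .lett 2, .lett 0, .lett 3, .lett 6, .lett 5, .lett 6, .lett 1, .lett 3, .lett 4,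
    .lett 2, .lett 0, .lett 3, .lett 3, .lett 0, .stab 2 false, .stab 2 false, .stab 1 false,
    .stab 0 false, .stab 1 false, .stab 2 false, .stab 3 false, .stab 2 false, .stab 3 false,
    .stab 1 false, .edge 4 [6,7,1,3,5,7,1], .lett 1, .lett 3, .lett 6, .stab 6 false,
    .stab 7 false, .stab 8 false, .stab 5 false, .stab 7 false, .stab 6 false, .stab 6 false,
    .stab 7 false, .stab 7 false, .stab 8 false, .stab 7 false, .edge 41 [6,7], .lett 1, .lett 4,
    .lett 0, .lett 4, .lett 1, .lett 5, .lett 0, .lett 5, .lett 6, .stab 44 false, .stab 42 false,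
    .stab 44 false, .stab 44 false, .stab 43 false, .stab 42 false,
    .edge 77 [0,6,5,3,7,2,5,5,6,5], .coin 78, .lett 1, .lett 2, .stab 29 false, .stab 26 false,
    .stab 29 false, .stab 26 false, .stab 24 false, .edge 87 [5,0,5,6,3,4,6], .coin 88, .lett 1,
    .lett 4, .lett 0, .lett 4, .lett 1, .lett 5, .lett 0, .lett 5, .lett 6, .stab 44 false,
    .stab 50 false, .stab 44 false, .stab 44 false, .stab 44 false, .stab 43 false,
    .edge 56 [2,3,5,5,3], .lett 1, .lett 2, .lett 2, .lett 0, .lett 0, .lett 0, .lett 0, .lett 1,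
    .lett 3, .lett 5, .lett 2, .lett 0, .lett 7, .lett 4, .lett 7, .lett 2, .lett 1, .lett 3,
    .lett 4, .lett 1, .lett 1, .lett 1, .lett 1, .lett 3, .lett 1, .lett 3, .lett 0,
    .stab 50 false, .stab 50 false, .stab 44 false, .stab 44 false, .edge 83 [0,7,5,7,1,2,6,7,5],
    .coin 84, .lett 4, .lett 1, .lett 4, .lett 0, .lett 5, .lett 1, .lett 5, .lett 7, .lett 3,
    .lett 0, .stab 42 false, .stab 44 false, .stab 44 false, .stab 44 false, .edge 71 [6,5,7,4],
    .coin 72, .lett 4, .lett 1, .lett 4, .lett 0, .lett 5, .lett 1, .lett 5, .lett 7, .lett 3,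
    .lett 4, .lett 1, .lett 4, .lett 0, .lett 5, .lett 1, .lett 5, .lett 0,
    .edge 11 [2,6,1,5,4,7,5,6], .coin 12, .lett 7]

/-- steps of run 17 -/
def run17 : List Step :=
  [.lett 2, .lett 0, .lett 2, .stab 1 false, .stab 1 false, .edge 4 [5,5,7,6,5], .lett 1,
    .lett 2, .lett 6, .edge 41 [5,6,5,7], .lett 1, .lett 4, .lett 0, .lett 4, .lett 1, .lett 5,
    .lett 0, .lett 5, .lett 6, .stab 44 false, .stab 44 false, .stab 42 false, .stab 44 false,
    .stab 44 false, .stab 42 false, .edge 77 [7,4,5,6,0,2], .coin 78, .lett 1, .lett 4, .lett 1,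
    .lett 4, .lett 0, .lett 5, .lett 1, .lett 5, .lett 3, .lett 6, .stab 24 false, .stab 24 false,
    .stab 25 false, .edge 69 [1,6,5,3,4,5,6,5], .lett 1, .lett 3, .lett 3, .lett 0, .lett 3,
    .lett 0, .lett 2, .lett 0, .lett 2, .lett 2, .lett 1, .lett 2, .lett 2, .lett 0,
    .stab 42 false, .stab 44 false, .stab 44 false, .stab 50 false, .edge 77 [5,5,5,6,5,3,0,5,7],
    .coin 78, .lett 7, .lett 2, .lett 4, .lett 0, .lett 4, .lett 1, .lett 5, .lett 0, .lett 5,
    .lett 0, .stab 24 false, .stab 24 false, .stab 25 false, .edge 69 [1,6,4,5,3,5,7,5], .lett 7,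
    .lett 4, .lett 1, .lett 4, .lett 0, .lett 5, .lett 1, .lett 5, .lett 0, .stab 50 false,
    .stab 43 false, .stab 42 false, .stab 44 false, .edge 71 [6,5,7,6,5], .coin 72, .lett 7,
    .lett 3, .lett 0, .edge 11 [0,7,6,5,3,0,3], .coin 12, .lett 3, .lett 1, .lett 3, .lett 1,
    .lett 1, .lett 1, .lett 1, .lett 0, .lett 3, .lett 3, .lett 1, .lett 3, .lett 1, .lett 2,
    .lett 1]

/-- steps of run 18 -/
def run18 : List Step :=
  [.lett 0, .lett 1, .lett 2, .lett 4, .lett 1, .lett 4, .lett 0, .lett 5, .lett 1, .lett 5,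
    .lett 7, .lett 0, .stab 2 false, .stab 0 false, .stab 3 false, .stab 2 false, .stab 3 false,
    .stab 1 false, .stab 2 false, .stab 3 false, .stab 2 false, .stab 3 false,
    .edge 4 [4,5,7,2,5,6,7,0], .lett 2, .lett 7, .lett 0, .stab 5 false, .stab 7 false,
    .stab 6 false, .stab 7 false, .stab 7 false, .stab 6 false, .stab 6 false, .stab 6 false,
    .edge 41 [5,5,5,6,5,7,6,5], .lett 1, .lett 2, .lett 4, .lett 1, .lett 4, .lett 0, .lett 5,
    .lett 1, .lett 5, .lett 2, .lett 4, .lett 1, .lett 4, .lett 0, .lett 5, .lett 1, .lett 5,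
    .lett 7, .lett 2, .lett 0, .lett 0, .stab 43 false, .stab 44 false, .stab 44 false,
    .stab 44 false, .stab 43 false, .stab 42 false, .edge 77 [0,2,7,5,7,6,2,3], .coin 78, .lett 2,
    .lett 7, .lett 0, .stab 24 false, .stab 26 false, .edge 75 [7,0,1,1,6,5,2], .coin 76, .lett 3,
    .lett 4, .lett 1, .lett 4, .lett 0, .lett 5, .lett 1, .lett 5, .lett 3, .lett 1, .lett 0,
    .lett 4, .lett 1, .lett 4, .lett 0, .lett 5, .lett 1, .lett 5, .lett 7, .lett 2, .lett 0,
    .lett 0, .stab 16 false, .stab 15 false, .stab 17 false, .stab 16 false, .stab 16 false,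
    .stab 17 false, .stab 15 false, .stab 14 false, .edge 32 [0,5,0,5,7,1,5], .lett 2, .lett 7,
    .lett 0, .stab 24 false, .stab 29 false, .stab 26 false, .stab 29 false, .stab 24 false,
    .stab 24 false, .stab 24 false, .edge 87 [5,0,7,6,4,5,7,2,5], .coin 88, .lett 4, .lett 1,
    .lett 4, .lett 0, .lett 5, .lett 1, .lett 5, .lett 2, .lett 0, .lett 2, .lett 0, .lett 0,
    .lett 4, .lett 1, .lett 4, .lett 0, .lett 5, .lett 1, .lett 5, .lett 7, .lett 0,
    .stab 42 false, .stab 44 false, .edge 67 [2,5,6,5,7,3,2,7,5], .lett 7, .lett 3, .lett 1,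
    .lett 3, .lett 0, .stab 43 false, .stab 44 false, .stab 50 false, .stab 50 false,
    .stab 44 false, .edge 51 [2,5,5,0,4,7,6,5,7], .lett 2, .lett 4, .lett 1, .lett 4, .lett 0,
    .lett 5, .lett 1, .lett 5, .lett 2, .lett 0, .lett 0, .lett 3, .lett 3, .lett 0,
    .stab 26 false, .stab 29 false, .stab 24 false, .stab 24 false, .stab 24 false,
    .edge 87 [5,7,0,6,7,0,6,7], .coin 88, .lett 0, .lett 2, .lett 2, .lett 1, .lett 4, .lett 1,
    .lett 4, .lett 0, .lett 5, .lett 1, .lett 5, .lett 7, .lett 3, .lett 0, .lett 0,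
    .stab 44 false, .stab 44 false, .stab 42 false, .stab 44 false, .stab 50 false,
    .stab 43 false, .edge 67 [7,1,5,6,3,5,5,5,6], .lett 7, .lett 3, .lett 0, .stab 50 false,
    .stab 44 false, .stab 50 false, .stab 50 false, .edge 51 [0,0,2,6,7,6,5], .lett 2, .lett 4,
    .lett 1, .lett 4, .lett 0, .lett 5, .lett 1, .lett 5, .lett 2, .lett 1, .lett 2, .lett 4,
    .lett 1, .lett 4, .lett 0, .lett 5, .lett 1, .lett 5, .lett 7, .lett 0, .stab 24 false,
    .stab 29 false, .stab 25 false, .stab 26 false, .edge 75 [1,6,2,7,5,7], .coin 76, .lett 2,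
    .lett 7, .lett 0, .stab 16 false, .stab 15 false, .stab 17 false, .stab 16 false,
    .stab 16 false, .stab 17 false, .stab 15 false, .stab 14 false, .edge 32 [5,2,6,5,0,7],
    .lett 1, .lett 2, .lett 4, .lett 1, .lett 4, .lett 0, .lett 5, .lett 1, .lett 5, .lett 2,
    .lett 0, .stab 24 false, .stab 29 false, .stab 26 false, .stab 29 false, .stab 25 false,
    .stab 26 false, .edge 33 [0,0,3,5,7,1,4,5], .lett 0, .stab 26 false, .stab 26 false,
    .stab 26 false, .stab 25 false, .edge 33 [3,6,0,6,7,6,3], .lett 2, .lett 4, .lett 1, .lett 4,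
    .lett 0, .lett 5, .lett 1, .lett 5, .lett 7, .lett 0, .stab 24 false, .stab 29 false,
    .stab 26 false, .stab 29 false, .stab 24 false, .stab 24 false, .stab 24 false,
    .edge 35 [3,6,5,2,7,3,6,5], .lett 2, .lett 7, .lett 0, .stab 29 false, .stab 29 false,
    .stab 24 false, .stab 24 false, .stab 26 false, .edge 75 [1,6,2,5,5,6,7,6], .coin 76, .lett 1,
    .lett 4, .lett 1, .lett 4, .lett 0, .lett 5, .lett 1, .lett 5, .lett 3, .lett 0, .lett 3,
    .lett 0, .lett 4, .lett 1, .lett 4, .lett 0, .lett 5, .lett 1, .lett 5, .lett 7, .lett 2,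
    .lett 0, .lett 0, .stab 17 false, .edge 23 [6,5,4,7,5], .lett 2, .lett 7, .lett 0,
    .stab 25 false, .stab 25 false, .stab 24 false, .stab 24 false, .stab 29 false,
    .edge 37 [5,6,7,4], .coin 38, .lett 4, .lett 1, .lett 4, .lett 0, .lett 5, .lett 1, .lett 5,
    .lett 2, .lett 0, .lett 2, .lett 0, .lett 0, .lett 4, .lett 1, .lett 4, .lett 0, .lett 5,
    .lett 1, .lett 5, .lett 7, .lett 0, .stab 16 false, .stab 15 false, .stab 16 false,
    .stab 15 false, .stab 15 false, .stab 15 false, .edge 32 [0,5,5,7,1,6,0,6,7,6], .lett 7,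
    .lett 3, .lett 1, .lett 3, .lett 0, .stab 24 false, .stab 24 false, .stab 29 false,
    .stab 25 false, .stab 25 false, .stab 24 false, .edge 75 [1,7,1,5,3,6,0,7], .coin 76, .lett 2,
    .lett 4, .lett 1, .lett 4, .lett 0, .lett 5, .lett 1, .lett 5, .lett 2, .lett 0, .lett 0,
    .lett 3, .lett 3, .lett 0, .stab 15 false, .stab 16 false, .stab 17 false, .stab 17 false,
    .stab 15 false, .stab 14 false, .edge 32 [1,3,5,3,7,3], .lett 0, .lett 2, .lett 2, .lett 1,
    .lett 4, .lett 1, .lett 4, .lett 0, .lett 5, .lett 1, .lett 5, .lett 7, .lett 3, .lett 0,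
    .lett 0, .stab 26 false, .stab 25 false, .stab 29 false, .edge 69 [1,6,5,3,5,7,5], .lett 7,
    .lett 3, .lett 0, .stab 50 false, .stab 43 false, .stab 44 false, .edge 71 [5,5,4,5,7,6,5,7],
    .coin 72, .lett 2, .lett 4, .lett 1, .lett 4, .lett 0, .lett 5, .lett 1, .lett 5, .lett 2,
    .lett 0, .lett 4, .lett 1, .lett 4, .lett 0, .lett 5, .lett 1, .lett 5, .lett 7, .lett 0,
    .edge 10 [2,5,3,6,7,0,5,6,5], .lett 7, .lett 3, .lett 1, .lett 3, .lett 0, .stab 7 false,
    .stab 8 false, .stab 7 false, .stab 6 false, .stab 7 false, .stab 6 false, .stab 6 false,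
    .stab 7 false, .stab 6 false, .stab 6 false, .stab 6 false, .edge 41 [5,5,5,5,7,6,5], .lett 2,
    .lett 4, .lett 1, .lett 4, .lett 0, .lett 5, .lett 1, .lett 5, .lett 2, .lett 0, .lett 0,
    .lett 3, .lett 3, .lett 0, .edge 71 [4,4,7], .coin 72, .lett 0, .lett 2, .lett 2, .lett 0,
    .lett 4, .lett 1, .lett 4, .lett 0, .lett 5, .lett 1, .lett 5, .lett 7, .lett 2, .lett 0,
    .lett 0, .stab 6 false, .stab 6 false, .stab 6 false, .edge 10 [5,5,6,7,5,6,0,5,0,7], .lett 2,
    .lett 7, .lett 0, .stab 7 false, .stab 7 false, .stab 8 false, .stab 6 false, .stab 6 false,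
    .stab 5 false, .stab 7 false, .stab 6 false, .edge 41 [5,6,5], .lett 4, .lett 1, .lett 4,
    .lett 0, .lett 5, .lett 1, .lett 5, .lett 2, .lett 0, .lett 2, .lett 0, .lett 0, .lett 4,
    .lett 1, .lett 4, .lett 0, .lett 5, .lett 1, .lett 5, .lett 7, .lett 0, .stab 44 false,
    .stab 43 false, .stab 44 false, .edge 71 [5,6,7,5,6], .coin 72, .lett 7, .lett 3, .lett 1,
    .lett 3, .lett 0, .edge 11 [5,5,5,5,5,0,6,2], .coin 12, .lett 2, .lett 4, .lett 1, .lett 4,
    .lett 0, .lett 5, .lett 1, .lett 5, .lett 2, .lett 0, .lett 0]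

/-- steps of run 19 -/
def run19 : List Step :=
  [.lett 2, .lett 1, .lett 1, .lett 1, .lett 1, .lett 0, .lett 4, .lett 1, .lett 4, .lett 0,
    .lett 5, .lett 1, .lett 5, .lett 7, .lett 2, .lett 0, .lett 0, .stab 3 false, .stab 2 false,
    .stab 0 false, .stab 3 false, .stab 1 false, .stab 0 false, .stab 2 false, .stab 0 false,
    .stab 1 false, .stab 2 false, .stab 3 false, .stab 1 false, .edge 4 [2,6,5,7,6,2,6], .lett 2,
    .lett 7, .lett 0, .stab 7 false, .stab 8 false, .stab 7 false, .stab 7 false, .stab 6 false,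
    .stab 8 false, .stab 7 false, .stab 7 false, .stab 8 false, .stab 7 false, .stab 6 false,
    .edge 41 [5,5,5,6,7], .lett 4, .lett 1, .lett 4, .lett 0, .lett 5, .lett 1, .lett 5, .lett 2,
    .lett 0, .lett 2, .lett 0, .lett 0, .lett 4, .lett 1, .lett 4, .lett 0, .lett 5, .lett 1,
    .lett 5, .lett 7, .lett 0, .stab 50 false, .stab 44 false, .stab 43 false, .stab 44 false,
    .edge 48 [5,5,7,5,6], .lett 7, .lett 3, .lett 1, .lett 3, .lett 0, .stab 44 false,
    .stab 43 false, .stab 44 false, .edge 71 [5], .coin 72, .lett 2, .lett 4, .lett 1, .lett 4,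
    .lett 0, .lett 5, .lett 1, .lett 5, .lett 2, .lett 0, .lett 0, .lett 3, .lett 3, .lett 0,
    .stab 6 false, .stab 7 false, .stab 8 false, .stab 5 false, .stab 7 false, .stab 6 false,
    .edge 41 [5,4,5,6,5,7,6,5], .lett 0, .lett 2, .lett 2, .lett 1, .lett 4, .lett 1, .lett 4,
    .lett 0, .lett 5, .lett 1, .lett 5, .lett 7, .lett 3, .lett 0, .lett 0, .stab 50 false,
    .stab 43 false, .stab 44 false, .stab 44 false, .stab 50 false, .stab 44 false,
    .edge 64 [2,5,6,3,7,2,5,7], .lett 7, .lett 3, .lett 0, .stab 44 false, .stab 44 false,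
    .stab 44 false, .stab 50 false, .stab 43 false, .edge 83 [5,5,6,3,6,7,6,3,5], .coin 84,
    .lett 2, .lett 4, .lett 1, .lett 4, .lett 0, .lett 5, .lett 1, .lett 5, .lett 2, .lett 1,
    .lett 2, .lett 4, .lett 1, .lett 4, .lett 0, .lett 5, .lett 1, .lett 5, .lett 7, .lett 0,
    .stab 42 false, .stab 44 false, .stab 44 false, .stab 44 false, .stab 43 false,
    .edge 48 [5,5,4,7], .lett 2, .lett 7, .lett 0, .stab 50 false, .stab 43 false, .stab 44 false,
    .stab 44 false, .stab 50 false, .stab 44 false, .edge 64 [1,7,5,6,2,1,7,5], .lett 1, .lett 2,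
    .lett 4, .lett 1, .lett 4, .lett 0, .lett 5, .lett 1, .lett 5, .lett 2, .lett 1, .lett 4,
    .lett 1, .lett 4, .lett 0, .lett 5, .lett 1, .lett 5, .lett 7, .lett 3, .lett 0, .lett 0,
    .stab 44 false, .stab 44 false, .stab 44 false, .stab 50 false, .stab 43 false,
    .edge 83 [0,0,5,7,6,2,0,7], .coin 84, .lett 7, .lett 3, .lett 0, .stab 42 false,
    .stab 44 false, .stab 44 false, .stab 44 false, .edge 71 [5,5,5,4,7], .coin 72, .lett 2,
    .lett 4, .lett 1, .lett 4, .lett 0, .lett 5, .lett 1, .lett 5, .lett 2, .lett 7, .lett 3,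
    .lett 3, .lett 0, .stab 6 false, .stab 5 false, .stab 7 false, .stab 8 false, .stab 7 false,
    .stab 8 false, .stab 5 false, .stab 7 false, .stab 6 false, .edge 41 [6,4,5,7,6,5], .lett 7,
    .lett 0, .stab 44 false, .stab 44 false, .stab 44 false, .stab 50 false, .stab 44 false,
    .stab 44 false, .edge 77 [1,6,7,6,3,0,5], .coin 78, .lett 2, .lett 2, .lett 1, .lett 4,
    .lett 1, .lett 4, .lett 0, .lett 5, .lett 1, .lett 5, .lett 7, .lett 3, .lett 3, .lett 0,
    .stab 24 false, .stab 26 false, .stab 29 false, .stab 26 false, .stab 29 false,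
    .edge 35 [5,7,3,6,1,5,6,7], .lett 1, .lett 7, .lett 0, .stab 25 false, .stab 26 false,
    .stab 24 false, .stab 29 false, .stab 24 false, .edge 35 [3,3,3,2,5,3,3], .lett 7, .lett 4,
    .lett 1, .lett 4, .lett 0, .lett 5, .lett 1, .lett 5, .lett 2, .lett 2, .lett 0,
    .stab 29 false, .stab 25 false, .stab 24 false, .stab 24 false, .stab 29 false,
    .stab 29 false, .stab 25 false, .edge 87 [0,5,4,5,2,7,2,5], .coin 88, .lett 0, .stab 50 false,
    .stab 50 false, .stab 44 false, .stab 50 false, .stab 42 false, .edge 51 [6,1,5,5,7,5,6,7,3],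
    .lett 2, .lett 4, .lett 1, .lett 4, .lett 0, .lett 5, .lett 1, .lett 5, .lett 7, .lett 0,
    .stab 24 false, .stab 24 false, .stab 24 false, .stab 29 false, .edge 75 [1,0,6,3,7,5,6,5],
    .coin 76, .lett 2, .lett 7, .lett 0, .stab 17 false, .edge 19 [5,5,4,7,6,5], .coin 20,
    .lett 1, .lett 4, .lett 1, .lett 4, .lett 0, .lett 5, .lett 1, .lett 5, .lett 3, .lett 0,
    .lett 3, .lett 0, .lett 4, .lett 1, .lett 4, .lett 0, .lett 5, .lett 1, .lett 5, .lett 7,
    .lett 2, .lett 0, .lett 0, .stab 6 false, .edge 10 [1,6,0,0,5,3], .lett 2, .lett 7, .lett 0,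
    .stab 7 false, .stab 7 false, .stab 8 false, .stab 6 false, .stab 6 false, .stab 7 false,
    .stab 8 false, .stab 5 false, .stab 7 false, .edge 13 [6,7,5,6,5], .lett 4, .lett 1, .lett 4,
    .lett 0, .lett 5, .lett 1, .lett 5, .lett 2, .lett 0, .lett 2, .lett 0, .lett 0, .lett 4,
    .lett 1, .lett 4, .lett 0, .lett 5, .lett 1, .lett 5, .lett 7, .lett 0, .stab 15 false,
    .stab 15 false, .edge 18 [5,5,5,7,6], .lett 7, .lett 3, .lett 1, .lett 3, .lett 0,
    .stab 16 false, .stab 17 false, .edge 19 [7,5,6], .coin 20, .lett 2, .lett 4, .lett 1,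
    .lett 4, .lett 0, .lett 5, .lett 1, .lett 5, .lett 2, .lett 0, .lett 0, .lett 3, .lett 3,
    .lett 0, .stab 7 false, .stab 8 false, .stab 7 false, .stab 6 false, .stab 7 false,
    .stab 7 false, .stab 7 false, .stab 6 false, .stab 7 false, .edge 13 [5,4,5,5,5,6,7,6],
    .lett 0, .lett 2, .lett 2, .lett 0, .lett 4, .lett 1, .lett 4, .lett 0, .lett 5, .lett 1,
    .lett 5, .lett 7, .lett 0, .edge 18 [5,5,5,7,6], .lett 7, .lett 3, .lett 1, .lett 3, .lett 0,
    .stab 16 false, .stab 17 false, .edge 19 [7,5,6], .coin 20, .lett 2, .lett 4, .lett 1,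
    .lett 4, .lett 0, .lett 5, .lett 1, .lett 5, .lett 2, .lett 0, .lett 0, .lett 0, .lett 4,
    .lett 1, .lett 4, .lett 0, .lett 5, .lett 1, .lett 5, .lett 7, .lett 2, .lett 0, .lett 0,
    .stab 6 false, .stab 6 false, .edge 10 [2,6,7,2,7,2,5,7], .lett 2, .lett 7, .lett 0,
    .stab 8 false, .stab 8 false, .stab 7 false, .stab 6 false, .stab 8 false, .stab 7 false,
    .stab 8 false, .stab 6 false, .stab 7 false, .edge 13 [5,6,7,6], .lett 4, .lett 1, .lett 4,
    .lett 0, .lett 5, .lett 1, .lett 5, .lett 2, .lett 0, .lett 2, .lett 0, .lett 0,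
    .stab 15 false, .stab 15 false, .stab 15 false, .edge 47 [7,4,5,6], .lett 0, .stab 44 false,
    .stab 43 false, .stab 44 false, .edge 73 [5,5,7,4,6], .coin 74, .lett 2, .lett 4, .lett 1,
    .lett 4, .lett 0, .lett 5, .lett 1, .lett 5, .lett 7, .lett 0, .stab 16 false, .stab 15 false,
    .stab 16 false, .stab 14 false, .stab 17 false, .stab 17 false, .stab 14 false,
    .edge 32 [5,7,0,1,5,2], .lett 2, .lett 7, .lett 0, .stab 26 false, .stab 25 false,
    .stab 29 false, .edge 69 [1,6,5,3,5,5,5,7], .lett 1, .lett 4, .lett 1, .lett 4, .lett 0,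
    .lett 5, .lett 1, .lett 5, .lett 3, .lett 0, .lett 3, .lett 1, .lett 4, .lett 1, .lett 4,
    .lett 0, .lett 5, .lett 1, .lett 5, .lett 7, .lett 3, .lett 3, .lett 0, .stab 44 false,
    .stab 44 false, .stab 50 false, .edge 77 [5,7,2,1,7,0], .coin 78, .lett 1, .lett 7, .lett 0,
    .stab 25 false, .stab 24 false, .stab 24 false, .edge 69 [6,5,3,7,6,5,0,7], .lett 7, .lett 4,
    .lett 1, .lett 4, .lett 0, .lett 5, .lett 1, .lett 5, .lett 2, .lett 2, .lett 7, .lett 3,
    .lett 3, .lett 0, .stab 50 false, .stab 43 false, .stab 42 false, .stab 44 false,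
    .edge 71 [4,6,7,5,7], .coin 72, .lett 7, .lett 0, .stab 6 false, .stab 5 false, .stab 7 false,
    .stab 8 false, .stab 7 false, .stab 8 false, .stab 5 false, .stab 7 false, .stab 6 false,
    .edge 41 [7,4,5,7,6], .lett 2, .lett 2, .lett 0, .lett 4, .lett 1, .lett 4, .lett 0, .lett 5,
    .lett 1, .lett 5, .lett 7, .lett 2, .lett 0, .lett 0, .stab 44 false, .stab 43 false,
    .stab 44 false, .edge 71 [5,5,5,7,6,5], .coin 72, .lett 2, .lett 7, .lett 0,
    .edge 11 [5,6,7,6,2,6,5,2], .coin 12, .lett 4, .lett 1, .lett 4, .lett 0, .lett 5, .lett 1,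
    .lett 5, .lett 2, .lett 0, .lett 2, .lett 0]

/-- steps of run 20 -/
def run20 : List Step :=
  [.edge 4 [], .lett 1, .lett 1, .lett 1, .lett 1, .lett 1, .lett 1, .lett 2, .lett 4, .lett 1,
    .lett 4, .lett 0, .lett 5, .lett 1, .lett 5, .lett 7, .lett 0, .stab 6 false, .stab 7 false,
    .stab 8 false, .stab 7 false, .stab 8 false, .stab 7 false, .stab 7 false, .stab 6 false,
    .stab 8 false, .stab 7 false, .edge 41 [5,6,7,6,5], .lett 2, .lett 7, .lett 0, .stab 44 false,
    .stab 43 false, .stab 44 false, .stab 43 false, .edge 48 [5,5,5,5,5,6,7], .lett 1, .lett 2,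
    .lett 4, .lett 1, .lett 4, .lett 0, .lett 5, .lett 1, .lett 5, .lett 2, .lett 4, .lett 1,
    .lett 4, .lett 0, .lett 5, .lett 1, .lett 5, .lett 7, .lett 2, .lett 0, .lett 0,
    .stab 50 false, .stab 44 false, .stab 44 false, .stab 44 false, .stab 43 false,
    .stab 42 false, .edge 77 [5,5,7,0,2,5], .coin 78, .lett 2, .lett 7, .lett 0, .stab 29 false,
    .stab 25 false, .stab 29 false, .stab 24 false, .edge 33 [3,6,2,0,7,0,5], .lett 3, .lett 4,
    .lett 1, .lett 4, .lett 0, .lett 5, .lett 1, .lett 5, .lett 3, .lett 1, .lett 1, .lett 2,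
    .lett 4, .lett 1, .lett 4, .lett 0, .lett 5, .lett 1, .lett 5, .lett 7, .lett 0,
    .stab 24 false, .stab 24 false, .stab 29 false, .stab 25 false, .stab 25 false,
    .stab 24 false, .edge 75 [0,4,5,7,3,5,3], .coin 76, .lett 2, .lett 7, .lett 0, .stab 17 false,
    .stab 15 false, .stab 15 false, .edge 18 [4,5,5,6,7,5,6,5], .lett 1, .lett 2, .lett 4,
    .lett 1, .lett 4, .lett 0, .lett 5, .lett 1, .lett 5, .lett 2, .lett 0, .stab 16 false,
    .stab 17 false, .edge 23 [5,4,5,6,7,5,6], .lett 0, .edge 37 [5,5,5,4,6,7,5,6], .coin 38,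
    .lett 2, .lett 4, .lett 1, .lett 4, .lett 0, .lett 5, .lett 1, .lett 5, .lett 7, .lett 0,
    .stab 17 false, .stab 16 false, .stab 15 false, .stab 16 false, .stab 17 false,
    .stab 17 false, .edge 47 [5,6,7,5,6,5], .lett 2, .lett 7, .lett 0, .stab 44 false,
    .stab 43 false, .stab 44 false, .stab 43 false, .edge 48 [5,5,5,5,5,6], .lett 1, .lett 4,
    .lett 1, .lett 4, .lett 0, .lett 5, .lett 1, .lett 5, .lett 3, .lett 0, .lett 3, .lett 0,
    .lett 4, .lett 1, .lett 4, .lett 0, .lett 5, .lett 1, .lett 5, .lett 7, .lett 2, .lett 0,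
    .lett 0, .stab 44 false, .stab 44 false, .stab 42 false, .stab 44 false, .stab 50 false,
    .edge 77 [7,2,0,2,0], .coin 78, .lett 2, .lett 7, .lett 0, .stab 26 false, .stab 25 false,
    .stab 26 false, .stab 24 false, .edge 33 [0,6,5,7,3,7,5,3], .lett 4, .lett 1, .lett 4,
    .lett 0, .lett 5, .lett 1, .lett 5, .lett 2, .lett 0, .lett 2, .lett 0, .lett 0, .lett 4,
    .lett 1, .lett 4, .lett 0, .lett 5, .lett 1, .lett 5, .lett 7, .lett 0, .stab 24 false,
    .stab 26 false, .stab 25 false, .edge 35 [1,5,6,0,1,5,5], .lett 7, .lett 3, .lett 1, .lett 3,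
    .lett 0, .stab 29 false, .stab 29 false, .stab 24 false, .stab 24 false, .stab 26 false,
    .edge 33 [5,4,6,0,7,0,5,6,5], .lett 2, .lett 4, .lett 1, .lett 4, .lett 0, .lett 5, .lett 1,
    .lett 5, .lett 2, .lett 0, .lett 0, .lett 3, .lett 3, .lett 0, .stab 26 false, .stab 26 false,
    .stab 26 false, .stab 25 false, .edge 33 [1,5,5,6,2,5,6,7,3,6,5], .lett 0, .lett 2, .lett 2,
    .lett 1, .lett 4, .lett 1, .lett 4, .lett 0, .lett 5, .lett 1, .lett 5, .lett 7, .lett 3,
    .lett 0, .lett 0, .stab 24 false, .stab 29 false, .stab 26 false, .stab 29 false,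
    .stab 24 false, .stab 24 false, .stab 24 false, .edge 35 [2,0,3,6,7,0], .lett 7, .lett 3,
    .lett 0, .stab 25 false, .stab 29 false, .stab 29 false, .stab 26 false, .stab 25 false,
    .stab 24 false, .edge 33 [5,4,6,0,7,0,6,5], .lett 2, .lett 4, .lett 1, .lett 4, .lett 0,
    .lett 5, .lett 1, .lett 5, .lett 2, .lett 3, .lett 3, .lett 0, .stab 26 false, .stab 26 false,
    .stab 26 false, .stab 25 false, .edge 33 [5,6,0,7,0,4,5,6], .lett 0, .lett 2, .lett 2,
    .lett 7, .lett 3, .lett 3, .lett 0, .stab 24 false, .stab 29 false, .stab 24 false,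
    .stab 29 false, .stab 25 false, .stab 24 false, .stab 25 false, .edge 87 [6,0,7,0,4],
    .coin 88, .lett 7, .lett 0, .stab 44 false, .stab 43 false, .stab 43 false, .stab 42 false,
    .edge 83 [1,7,3,6,3,4,5,6], .coin 84, .lett 2, .lett 2, .lett 1, .lett 4, .lett 1, .lett 4,
    .lett 0, .lett 5, .lett 1, .lett 5, .lett 7, .lett 3, .lett 3, .lett 0, .stab 44 false,
    .stab 50 false, .stab 43 false, .stab 44 false, .edge 64 [2,5,7,1,0,6,7,5,6], .lett 1,
    .lett 7, .lett 0, .stab 50 false, .stab 50 false, .stab 44 false, .stab 42 false,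
    .edge 66 [7,0,6,5,0,7,0], .lett 7, .lett 4, .lett 1, .lett 4, .lett 0, .lett 5, .lett 1,
    .lett 5, .lett 2, .lett 2, .lett 0, .stab 44 false, .stab 50 false, .stab 42 false,
    .stab 44 false, .stab 43 false, .edge 51 [0,0,2,5,7,5,6], .lett 0, .stab 26 false,
    .stab 29 false, .stab 24 false, .stab 24 false, .stab 24 false, .edge 87 [0,6,1,5,7,1,3],
    .coin 88, .lett 2, .lett 4, .lett 1, .lett 4, .lett 0, .lett 5, .lett 1, .lett 5, .lett 7,
    .lett 0, .stab 50 false, .stab 44 false, .stab 44 false, .stab 44 false,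
    .edge 51 [5,5,6,7,2,1,6], .lett 2, .lett 7, .lett 0, .stab 24 false, .stab 24 false,
    .stab 24 false, .stab 29 false, .edge 75 [1,0,6,3,5,5,7,6,5], .coin 76, .lett 1, .lett 4,
    .lett 1, .lett 4, .lett 0, .lett 5, .lett 1, .lett 5, .lett 3, .lett 0, .lett 3, .lett 0,
    .lett 4, .lett 1, .lett 4, .lett 0, .lett 5, .lett 1, .lett 5, .lett 7, .lett 2, .lett 0,
    .lett 0, .stab 16 false, .stab 15 false, .stab 17 false, .stab 16 false, .stab 17 false,
    .stab 14 false, .edge 32 [0,6,7,0,6,0,5,3], .lett 2, .lett 7, .lett 0, .stab 25 false,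
    .stab 29 false, .stab 26 false, .stab 29 false, .stab 24 false, .stab 25 false,
    .stab 24 false, .edge 87 [5,5,5,5,2,6,5,0,6], .coin 88, .lett 4, .lett 1, .lett 4, .lett 0,
    .lett 5, .lett 1, .lett 5, .lett 2, .lett 0, .lett 2, .lett 0, .lett 0, .lett 4, .lett 1,
    .lett 4, .lett 0, .lett 5, .lett 1, .lett 5, .lett 7, .lett 0, .stab 44 false, .stab 44 false,
    .stab 44 false, .stab 50 false, .stab 43 false, .edge 83 [2,3,5,5,2,5,7], .coin 84, .lett 7,
    .lett 3, .lett 1, .lett 3, .lett 0, .stab 42 false, .stab 44 false, .stab 44 false,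
    .stab 42 false, .stab 44 false, .edge 73 [5,6,4], .coin 74, .lett 2, .lett 4, .lett 1,
    .lett 4, .lett 0, .lett 5, .lett 1, .lett 5, .lett 2, .lett 0, .lett 0, .lett 1, .lett 4,
    .lett 1, .lett 4, .lett 0, .lett 5, .lett 1, .lett 5, .lett 7, .lett 3, .lett 3, .lett 0,
    .stab 15 false, .stab 15 false, .stab 16 false, .stab 17 false, .stab 17 false,
    .stab 14 false, .edge 32 [7,3,5,3,5,7,6], .lett 1, .lett 7, .lett 0, .stab 26 false,
    .stab 25 false, .stab 29 false, .edge 35 [4,5,2,6,2,5,5,6], .lett 7, .lett 4, .lett 1,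
    .lett 4, .lett 0, .lett 5, .lett 1, .lett 5, .lett 2, .lett 2, .lett 0, .stab 25 false,
    .stab 26 false, .stab 29 false, .stab 24 false, .stab 25 false, .edge 33 [3,7,6,5,7,3,7,2,5],
    .lett 0, .stab 26 false, .stab 26 false, .stab 26 false, .stab 25 false,
    .edge 33 [0,3,0,5,7,1,5], .lett 2, .lett 4, .lett 1, .lett 4, .lett 0, .lett 5, .lett 1,
    .lett 5, .lett 7, .lett 0, .stab 24 false, .stab 24 false, .stab 29 false, .stab 25 false,
    .stab 25 false, .stab 24 false, .edge 75 [1,6,2,4,5,7,5], .coin 76, .lett 2, .lett 7, .lett 0,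
    .stab 17 false, .edge 23 [5,5,4,7,6], .lett 1, .lett 4, .lett 1, .lett 4, .lett 0, .lett 5,
    .lett 1, .lett 5, .lett 3, .lett 0, .lett 3, .lett 1, .lett 4, .lett 1, .lett 4, .lett 0,
    .lett 5, .lett 1, .lett 5, .lett 7, .lett 3, .lett 3, .lett 0, .stab 29 false, .stab 25 false,
    .stab 24 false, .stab 29 false, .edge 37 [4,7,5], .coin 38, .lett 1, .lett 7, .lett 0,
    .stab 16 false, .stab 17 false, .stab 16 false, .edge 22 [2,7,5,2,1,5], .lett 7, .lett 4,
    .lett 1, .lett 4, .lett 0, .lett 5, .lett 1, .lett 5, .lett 2, .lett 2, .lett 7, .lett 3,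
    .lett 3, .lett 0, .stab 16 false, .stab 16 false, .stab 17 false, .stab 17 false,
    .stab 17 false, .edge 19 [5,6,5,7,6,5], .coin 20, .lett 7, .lett 0, .edge 11 [1,7,1,2,5,7,6],
    .coin 12, .lett 2, .lett 2]

/-- steps of run 21 -/
def run21 : List Step :=
  [.lett 6, .lett 0, .lett 4, .lett 1, .lett 4, .lett 0, .lett 5, .lett 1, .lett 5, .lett 7,
    .lett 0, .stab 2 false, .stab 2 false, .stab 0 false, .stab 2 false, .stab 0 false,
    .stab 2 false, .stab 0 false, .stab 0 false, .stab 0 false, .stab 2 false, .stab 3 false,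
    .edge 4 [4,4,4,4], .lett 7, .lett 3, .lett 1, .lett 3, .lett 0, .stab 8 false, .stab 7 false,
    .stab 8 false, .stab 6 false, .stab 7 false, .stab 8 false, .stab 7 false, .stab 8 false,
    .stab 7 false, .stab 7 false, .edge 41 [6,5,7,6,5], .lett 2, .lett 4, .lett 1, .lett 4,
    .lett 0, .lett 5, .lett 1, .lett 5, .lett 2, .lett 0, .lett 0, .lett 3, .lett 3, .lett 0,
    .edge 71 [5,4,5,5,5,5,6,7], .coin 72, .lett 0, .lett 2, .lett 2, .lett 1, .lett 4, .lett 1,
    .lett 4, .lett 0, .lett 5, .lett 1, .lett 5, .lett 7, .lett 3, .lett 0, .lett 0,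
    .stab 6 false, .stab 5 false, .stab 7 false, .stab 8 false, .stab 7 false, .stab 8 false,
    .stab 5 false, .stab 7 false, .edge 13 [4,5,7], .lett 7, .lett 3, .lett 0, .stab 17 false,
    .stab 17 false, .stab 16 false, .stab 14 false, .stab 17 false, .stab 14 false,
    .edge 32 [5,0,6,7,2,3,5], .lett 2, .lett 4, .lett 1, .lett 4, .lett 0, .lett 5, .lett 1,
    .lett 5, .lett 2, .lett 3, .lett 3, .lett 0, .stab 25 false, .stab 26 false, .stab 25 false,
    .stab 29 false, .stab 29 false, .edge 75 [0,1,6,3,5,6,5], .coin 76, .lett 0, .lett 2, .lett 2,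
    .lett 0, .lett 4, .lett 1, .lett 4, .lett 0, .lett 5, .lett 1, .lett 5, .lett 7, .lett 0,
    .stab 17 false, .edge 23 [5,5,4,5,5,6,7,6], .lett 7, .lett 3, .lett 1, .lett 3, .lett 0,
    .stab 25 false, .stab 25 false, .stab 24 false, .stab 24 false, .stab 29 false,
    .edge 37 [5,7,6,4], .coin 38, .lett 2, .lett 4, .lett 1, .lett 4, .lett 0, .lett 5, .lett 1,
    .lett 5, .lett 2, .lett 0, .lett 0, .lett 7, .lett 3, .lett 3, .lett 0, .stab 16 false,
    .stab 15 false, .stab 17 false, .stab 17 false, .stab 16 false, .stab 17 false,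
    .edge 19 [6,5], .coin 20, .lett 7, .lett 0, .edge 11 [6,1,2,5,7,0,6], .coin 12, .lett 2,
    .lett 2]

/-- steps of run 22 -/
def run22 : List Step :=
  [.lett 4, .lett 0, .lett 4, .lett 1, .lett 5, .lett 0, .lett 5, .lett 1, .lett 1, .lett 1,
    .lett 1, .lett 0, .lett 4, .lett 1, .lett 4, .lett 0, .lett 5, .lett 1, .lett 5, .lett 7,
    .lett 0, .stab 2 false, .stab 0 false, .stab 2 false, .stab 0 false, .stab 0 false,
    .stab 0 false, .stab 2 false, .stab 0 false, .stab 2 false, .stab 3 false, .edge 4 [7,5,7],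
    .lett 7, .lett 3, .lett 1, .lett 3, .lett 0, .stab 6 false, .edge 41 [5,6], .lett 2, .lett 4,
    .lett 1, .lett 4, .lett 0, .lett 5, .lett 1, .lett 5, .lett 2, .lett 0, .lett 0, .lett 3,
    .lett 3, .lett 0, .edge 71 [5,5,4,5,6], .coin 72, .lett 0, .lett 2, .lett 2, .lett 1, .lett 4,
    .lett 1, .lett 4, .lett 0, .lett 5, .lett 1, .lett 5, .lett 7, .lett 3, .lett 0, .lett 0,
    .stab 6 false, .stab 8 false, .stab 7 false, .stab 8 false, .stab 5 false, .stab 7 false,
    .stab 7 false, .stab 8 false, .stab 7 false, .edge 13 [5,7,4,5,6], .lett 7, .lett 3, .lett 0,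
    .stab 17 false, .stab 17 false, .stab 17 false, .stab 15 false, .stab 15 false,
    .stab 16 false, .stab 15 false, .stab 14 false, .edge 32 [5,2,4,6,5,0,7], .lett 2, .lett 4,
    .lett 1, .lett 4, .lett 0, .lett 5, .lett 1, .lett 5, .lett 2, .lett 1, .lett 2, .lett 4,
    .lett 1, .lett 4, .lett 0, .lett 5, .lett 1, .lett 5, .lett 7, .lett 0, .stab 26 false,
    .stab 24 false, .stab 26 false, .stab 24 false, .stab 24 false, .edge 87 [7,5,3,6,2,6,1],
    .coin 88, .lett 2, .lett 7, .lett 0, .stab 44 false, .stab 44 false, .stab 44 false,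
    .stab 50 false, .stab 43 false, .edge 83 [2,3,2,2], .coin 84, .lett 1, .lett 2, .lett 4,
    .lett 1, .lett 4, .lett 0, .lett 5, .lett 1, .lett 5, .lett 2, .lett 4, .lett 1, .lett 4,
    .lett 0, .lett 5, .lett 1, .lett 5, .lett 7, .lett 2, .lett 0, .lett 0, .stab 50 false,
    .stab 43 false, .stab 42 false, .stab 44 false, .stab 42 false, .edge 77 [0,5,0,7,6,1,7,5],
    .coin 78, .lett 2, .lett 7, .lett 0, .stab 26 false, .stab 26 false, .stab 25 false,
    .stab 24 false, .stab 29 false, .stab 26 false, .stab 24 false, .edge 87 [5,0,7,6,5,7,2,5,5],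
    .coin 88, .lett 3, .lett 4, .lett 1, .lett 4, .lett 0, .lett 5, .lett 1, .lett 5, .lett 3,
    .lett 1, .lett 0, .lett 4, .lett 1, .lett 4, .lett 0, .lett 5, .lett 1, .lett 5, .lett 7,
    .lett 2, .lett 0, .lett 0, .stab 44 false, .stab 44 false, .stab 42 false, .stab 44 false,
    .stab 50 false, .stab 43 false, .edge 67 [5,5,6,0,5,7,2,7,5], .lett 2, .lett 7, .lett 0,
    .stab 50 false, .stab 44 false, .stab 50 false, .stab 50 false, .edge 51 [0,0,2,5,6,7,6],
    .lett 4, .lett 1, .lett 4, .lett 0, .lett 5, .lett 1, .lett 5, .lett 2, .lett 0, .lett 2,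
    .lett 0, .lett 0, .lett 4, .lett 1, .lett 4, .lett 0, .lett 5, .lett 1, .lett 5, .lett 7,
    .lett 0, .stab 25 false, .stab 26 false, .stab 25 false, .stab 29 false,
    .edge 33 [3,7,6,5,7,3,7,2,7], .lett 7, .lett 3, .lett 1, .lett 3, .lett 0, .stab 26 false,
    .stab 25 false, .stab 29 false, .edge 87 [4,5,7,0,6,7,0], .coin 88, .lett 2, .lett 4, .lett 1,
    .lett 4, .lett 0, .lett 5, .lett 1, .lett 5, .lett 2, .lett 0, .lett 0, .lett 3, .lett 3,
    .lett 0, .stab 50 false, .stab 50 false, .stab 44 false, .stab 50 false, .stab 42 false,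
    .edge 51 [2,0,0], .lett 0, .lett 2, .lett 2, .lett 1, .lett 4, .lett 1, .lett 4, .lett 0,
    .lett 5, .lett 1, .lett 5, .lett 7, .lett 3, .lett 0, .lett 0, .stab 25 false, .stab 24 false,
    .stab 25 false, .stab 29 false, .edge 33 [5,5,7,0,5,6,1,7,5,6], .lett 7, .lett 3, .lett 0,
    .stab 24 false, .stab 26 false, .stab 25 false, .edge 87 [2,5,5,5,6,3,5,7,0], .coin 88,
    .lett 2, .lett 4, .lett 1, .lett 4, .lett 0, .lett 5, .lett 1, .lett 5, .lett 2, .lett 1,
    .lett 2, .lett 4, .lett 1, .lett 4, .lett 0, .lett 5, .lett 1, .lett 5, .lett 7, .lett 0,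
    .stab 50 false, .stab 44 false, .stab 44 false, .stab 44 false, .edge 51 [0,0,2,5,5,5,5],
    .lett 2, .lett 7, .lett 0, .stab 24 false, .stab 29 false, .stab 25 false, .stab 26 false,
    .edge 75 [3,5,7,3,6,5,7,0], .coin 76, .lett 1, .lett 2, .lett 4, .lett 1, .lett 4, .lett 0,
    .lett 5, .lett 1, .lett 5, .lett 2, .lett 1, .lett 4, .lett 1, .lett 4, .lett 0, .lett 5,
    .lett 1, .lett 5, .lett 7, .lett 3, .lett 3, .lett 0, .stab 16 false, .stab 15 false,
    .stab 17 false, .stab 17 false, .stab 16 false, .stab 16 false, .edge 32 [7,3,5,3,6,4],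
    .lett 1, .lett 7, .lett 0, .stab 24 false, .stab 29 false, .stab 26 false, .stab 29 false,
    .stab 24 false, .stab 24 false, .stab 24 false, .edge 35 [0,3,6,7,6,2,1,6], .lett 7, .lett 4,
    .lett 1, .lett 4, .lett 0, .lett 5, .lett 1, .lett 5, .lett 2, .lett 2, .lett 0,
    .stab 29 false, .stab 29 false, .stab 24 false, .stab 24 false, .stab 26 false,
    .edge 75 [1,6,2,5,4,6,5,7,6], .coin 76, .lett 0, .stab 15 false, .stab 16 false,
    .stab 17 false, .stab 17 false, .stab 15 false, .stab 14 false, .edge 32 [2,1,7,6,1,3,5],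
    .lett 2, .lett 4, .lett 1, .lett 4, .lett 0, .lett 5, .lett 1, .lett 5, .lett 7, .lett 0,
    .stab 26 false, .stab 24 false, .stab 26 false, .stab 24 false, .stab 24 false,
    .edge 87 [0,7,5,6,7,0,6,2,5,6], .coin 88, .lett 2, .lett 7, .lett 0, .stab 44 false,
    .stab 44 false, .stab 44 false, .stab 43 false, .stab 50 false, .stab 42 false,
    .edge 51 [0,0,2,6,4,7,5,7], .lett 1, .lett 4, .lett 1, .lett 4, .lett 0, .lett 5, .lett 1,
    .lett 5, .lett 3, .lett 0, .lett 3, .lett 0, .lett 4, .lett 1, .lett 4, .lett 0, .lett 5,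
    .lett 1, .lett 5, .lett 7, .lett 2, .lett 0, .lett 0, .stab 24 false, .stab 24 false,
    .stab 24 false, .stab 29 false, .edge 75 [0,0,0,2,0,7,2], .coin 76, .lett 2, .lett 7, .lett 0,
    .stab 17 false, .stab 15 false, .stab 15 false, .edge 47 [4,5,5,6,7,5,6,5], .lett 4, .lett 1,
    .lett 4, .lett 0, .lett 5, .lett 1, .lett 5, .lett 2, .lett 0, .lett 2, .lett 0, .lett 0,
    .lett 4, .lett 1, .lett 4, .lett 0, .lett 5, .lett 1, .lett 5, .lett 7, .lett 0,
    .stab 44 false, .stab 44 false, .stab 42 false, .stab 44 false, .stab 44 false,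
    .stab 42 false, .edge 77 [2,3,5,7,6,3,7], .coin 78, .lett 7, .lett 3, .lett 1, .lett 3,
    .lett 0, .stab 26 false, .stab 26 false, .stab 24 false, .stab 29 false, .stab 29 false,
    .edge 75 [1,5,5,4,5,6,7,6,5,3], .coin 76, .lett 2, .lett 4, .lett 1, .lett 4, .lett 0,
    .lett 5, .lett 1, .lett 5, .lett 2, .lett 0, .lett 0, .lett 3, .lett 3, .lett 0,
    .stab 15 false, .stab 16 false, .stab 17 false, .stab 17 false, .stab 15 false,
    .stab 14 false, .edge 32 [5,5,5,7,1,6,1], .lett 0, .lett 2, .lett 2, .lett 1, .lett 4,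
    .lett 1, .lett 4, .lett 0, .lett 5, .lett 1, .lett 5, .lett 7, .lett 3, .lett 0, .lett 0,
    .stab 24 false, .stab 24 false, .stab 29 false, .stab 24 false, .stab 29 false,
    .edge 35 [2,3,7,5,2,6,5,0], .lett 7, .lett 3, .lett 0, .stab 25 false, .stab 26 false,
    .stab 29 false, .stab 24 false, .stab 25 false, .edge 75 [2,6,7,5,7,2,6,7,6,5], .coin 76,
    .lett 2, .lett 4, .lett 1, .lett 4, .lett 0, .lett 5, .lett 1, .lett 5, .lett 2, .lett 0,
    .lett 4, .lett 1, .lett 4, .lett 0, .lett 5, .lett 1, .lett 5, .lett 7, .lett 2, .lett 0,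
    .lett 0, .stab 15 false, .stab 17 false, .stab 15 false, .stab 16 false, .stab 15 false,
    .stab 17 false, .stab 15 false, .stab 14 false, .edge 32 [0,5,0,6,7,6,1,5,6], .lett 2,
    .lett 7, .lett 0, .stab 24 false, .stab 29 false, .stab 24 false, .stab 29 false,
    .stab 25 false, .stab 24 false, .stab 25 false, .edge 87 [5,6,1,5,5,7,6,5,0,6], .coin 88,
    .lett 4, .lett 1, .lett 4, .lett 0, .lett 5, .lett 1, .lett 5, .lett 2, .lett 0, .lett 2,
    .lett 0, .lett 0, .lett 4, .lett 1, .lett 4, .lett 0, .lett 5, .lett 1, .lett 5, .lett 7,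
    .lett 0, .stab 50 false, .stab 50 false, .stab 44 false, .stab 44 false, .stab 44 false,
    .stab 43 false, .edge 67 [5,5,5,7,6,3,2,5], .lett 7, .lett 3, .lett 1, .lett 3, .lett 0,
    .stab 43 false, .stab 50 false, .stab 44 false, .stab 44 false, .edge 51 [4,7,2,5,6,1,5],
    .lett 2, .lett 4, .lett 1, .lett 4, .lett 0, .lett 5, .lett 1, .lett 5, .lett 2, .lett 0,
    .lett 0, .lett 3, .lett 3, .lett 0, .stab 26 false, .stab 29 false, .stab 24 false,
    .stab 24 false, .stab 24 false, .edge 87 [6,0,4,7,0,5,6], .coin 88, .lett 0, .lett 2, .lett 2,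
    .lett 0, .stab 42 false, .stab 44 false, .stab 43 false, .stab 43 false, .stab 42 false,
    .edge 83 [5,5,2,3,7,5,0,6], .coin 84, .lett 0, .stab 43 false, .stab 50 false, .stab 44 false,
    .stab 43 false, .stab 42 false, .edge 64 [5,6,7,1,5,6,1,5,5], .lett 2, .lett 4, .lett 1,
    .lett 4, .lett 0, .lett 5, .lett 1, .lett 5, .lett 7, .lett 0, .stab 44 false, .stab 44 false,
    .stab 44 false, .stab 50 false, .stab 43 false, .edge 83 [0,5,6,3,7,6,5,2,5], .coin 84,
    .lett 2, .lett 7, .lett 0, .stab 42 false, .stab 44 false, .stab 44 false, .stab 42 false,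
    .stab 44 false, .edge 73 [5,6,4,7,5,6], .coin 74, .lett 1, .lett 4, .lett 1, .lett 4, .lett 0,
    .lett 5, .lett 1, .lett 5, .lett 3, .lett 0, .lett 3, .lett 0, .lett 4, .lett 1, .lett 4,
    .lett 0, .lett 5, .lett 1, .lett 5, .lett 7, .lett 2, .lett 0, .lett 0, .stab 17 false,
    .stab 16 false, .stab 17 false, .stab 17 false, .edge 18 [5,5,5,6,5,7], .lett 2, .lett 7,
    .lett 0, .stab 15 false, .stab 15 false, .stab 17 false, .edge 47 [7,5,7,6], .lett 4, .lett 1,
    .lett 4, .lett 0, .lett 5, .lett 1, .lett 5, .lett 2, .lett 0, .lett 2, .lett 0, .lett 0,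
    .lett 4, .lett 1, .lett 4, .lett 0, .lett 5, .lett 1, .lett 5, .lett 7, .lett 0,
    .edge 73 [5,7,5,6], .coin 74, .lett 7, .lett 3, .lett 1, .lett 3, .lett 0, .stab 17 false,
    .stab 16 false, .stab 17 false, .stab 17 false, .edge 23 [7,5,7,6], .lett 2, .lett 4, .lett 1,
    .lett 4, .lett 0, .lett 5, .lett 1, .lett 5, .lett 2, .lett 0, .lett 0, .lett 0,
    .stab 24 false, .stab 29 false, .stab 25 false, .stab 29 false, .edge 37 [6,5,4,7,5],
    .coin 38, .lett 0, .stab 16 false, .stab 15 false, .stab 17 false, .stab 17 false,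
    .stab 16 false, .stab 17 false, .edge 23 [6,5,7,4,6], .lett 2, .lett 4, .lett 1, .lett 4,
    .lett 0, .lett 5, .lett 1, .lett 5, .lett 7, .lett 0, .stab 26 false, .stab 24 false,
    .stab 29 false, .edge 37 [5,6,5,4,7,6,5], .coin 38, .lett 2, .lett 7, .lett 0, .stab 15 false,
    .stab 15 false, .stab 14 false, .edge 32 [0,6,7,5,6,0,1,5], .lett 1, .lett 4, .lett 1,
    .lett 4, .lett 0, .lett 5, .lett 1, .lett 5, .lett 3, .lett 0, .lett 3, .lett 0, .lett 4,
    .lett 1, .lett 4, .lett 0, .lett 5, .lett 1, .lett 5, .lett 7, .lett 2, .lett 0, .lett 0,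
    .stab 24 false, .stab 26 false, .stab 25 false, .edge 35 [0,2,6,1,1,1,0], .lett 2, .lett 7,
    .lett 0, .stab 29 false, .stab 29 false, .stab 24 false, .stab 24 false, .stab 26 false,
    .edge 75 [1,0,0,7,1,5,2], .coin 76, .lett 4, .lett 1, .lett 4, .lett 0, .lett 5, .lett 1,
    .lett 5, .lett 2, .lett 0, .lett 2, .lett 0, .lett 0, .stab 15 false, .stab 17 false,
    .stab 14 false, .stab 17 false, .stab 16 false, .stab 16 false, .edge 32 [7,3,5,3,5,7],
    .lett 0, .stab 25 false, .stab 26 false, .stab 25 false, .stab 29 false, .stab 29 false,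
    .edge 75 [6,2,5,7,6,5,0], .coin 76, .lett 2, .lett 4, .lett 1, .lett 4, .lett 0, .lett 5,
    .lett 1, .lett 5, .lett 7, .lett 0, .stab 17 false, .edge 23 [5,7,4,5,6], .lett 2, .lett 7,
    .lett 0, .stab 24 false, .stab 25 false, .stab 29 false, .edge 37 [5,5,5,4,6,7,5,6], .coin 38,
    .lett 1, .lett 4, .lett 1, .lett 4, .lett 0, .lett 5, .lett 1, .lett 5, .lett 3, .lett 0,
    .lett 3, .lett 1, .lett 4, .lett 1, .lett 4, .lett 0, .lett 5, .lett 1, .lett 5, .lett 7,
    .lett 3, .lett 3, .lett 0, .stab 16 false, .stab 15 false, .stab 17 false, .stab 17 false,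
    .stab 16 false, .stab 17 false, .edge 19 [5,5,7,5,6,7], .coin 20, .lett 1, .lett 7, .lett 0,
    .edge 11 [1,7,1,2,5,5,7,5], .coin 12, .lett 7, .lett 4, .lett 1, .lett 4, .lett 0, .lett 5,
    .lett 1, .lett 5, .lett 2, .lett 2]

/-- steps of run 23 -/
def run23 : List Step :=
  [.lett 3, .lett 3, .lett 4, .lett 0, .lett 4, .lett 1, .lett 5, .lett 0, .lett 5, .lett 6,
    .stab 1 false, .stab 2 false, .stab 0 false, .stab 3 false, .stab 1 false, .stab 0 false,
    .stab 2 false, .stab 0 false, .stab 1 false, .stab 2 false, .stab 3 false,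
    .edge 4 [4,6,7,0,0,0], .lett 1, .lett 6, .lett 0, .stab 7 false, .stab 7 false, .stab 7 false,
    .stab 6 false, .stab 7 false, .stab 8 false, .stab 6 false, .stab 5 false, .stab 7 false,
    .edge 13 [7,5,7], .lett 1, .lett 2, .lett 2, .lett 6, .lett 4, .lett 0, .lett 4, .lett 1,
    .lett 5, .lett 0, .lett 5, .lett 0, .lett 3, .lett 3, .lett 4, .lett 0, .lett 4, .lett 1,
    .lett 5, .lett 0, .lett 5, .lett 6, .edge 19 [7,5,7], .coin 20, .lett 1, .lett 6, .lett 0,
    .edge 11 [1,7,1,2,6,7,5], .coin 12, .lett 1, .lett 2, .lett 2, .lett 6, .lett 4, .lett 0,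
    .lett 4, .lett 1, .lett 5, .lett 0, .lett 5, .lett 0, .lett 1, .lett 1, .lett 1, .lett 1]

end CfsgLib.Spor.LyOut
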