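import Cfsg.Agent.Lib.PresCert.Perm

/-!
Words in the centraliser of `a^4` in the Lyons group (generated data).  Tokens `0..9` stand for
`a, a⁻¹, b, b⁻¹, d, d⁻¹, z, z⁻¹, cacACaC` and its inverse; letter `8` is the edge `z * a`.
-/

namespace CfsgLib.Spor.LyOut

/-- the letters of a token -/
def blocks : List (List Nat) :=
  [[0], [1], [2], [3], [6], [7], [8,1], [0,8], [4,0,4,1,5,0,5], [4,1,4,0,5,1,5]]

/-- the letters of a word of tokens -/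
def lets (t : List Nat) : List Nat := t.flatMap fun k => blocks.getD k []

/-- the element `g` -/
def wG : List Nat := [1,3,5,2,0,7,4,7,2,1,3,4]

/-- tokens of `v` -/
def tw_v : List Nat :=
  [0, 3, 0, 2, 0, 2, 2, 1]

/-- tokens of `v1` -/
def tw_v1 : List Nat :=
  [1, 3, 3, 8, 3, 4, 9, 2, 0, 0, 0, 0, 0]

/-- tokens of `p` -/
def tw_p : List Nat :=
  [2, 0, 2, 6, 3, 4, 6, 4, 9, 4, 6, 3, 8, 4, 6, 3, 3, 6]

/-- tokens of `q` -/
def tw_q : List Nat :=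
  [2, 2, 6, 4, 9, 2, 6, 4, 6, 3, 8, 4, 6, 3, 3, 0, 0, 0, 0]

/-- tokens of `u2` -/
def tw_u2 : List Nat :=
  [3, 3, 6, 4, 8, 3, 6, 4, 6, 2, 6, 9, 4, 6, 2, 2, 6]

/-- tokens of `u4` -/
def tw_u4 : List Nat :=
  [6, 4, 6, 4, 0, 0, 0, 0]

/-- tokens of `u5` -/
def tw_u5 : List Nat :=
  [0, 2, 0, 2, 2, 0, 2, 4, 0, 0, 0, 0]

/-- tokens of `u2p` -/
def tw_u2p : List Nat :=
  [3, 3, 0, 6, 3, 4, 6, 8, 4, 6, 2, 6, 8, 4, 6, 2, 2, 0, 0, 0, 0]

/-- tokens of `w2p` -/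
def tw_w2p : List Nat :=
  [4, 6, 8, 2, 4, 8, 6, 2, 4, 8, 6, 2, 0, 2, 0, 0, 0, 0]

/-- tokens of `qv` -/
def tw_qv : List Nat :=
  [2, 0, 2, 6, 2, 4, 6, 8, 4, 6, 9, 3, 4, 6, 3, 3]

/-- tokens of `w2` -/
def tw_w2 : List Nat :=
  [2, 2, 6, 4, 6, 9, 4, 6, 8, 2, 4, 6, 2, 2]

/-- tokens of `w4` -/
def tw_w4 : List Nat :=
  [4, 8, 4, 6, 4, 6, 9, 4]

/-- tokens of `w5` -/
def tw_w5 : List Nat :=
  [0, 4, 8, 3, 3, 4, 8, 3, 1, 2]

/-- tokens of the Carmichael elements -/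
def twY : List (List Nat) :=
  [[3, 3, 6, 4, 6, 2, 2, 4],
   [3, 3, 8, 4, 6, 4, 0, 6, 2, 2, 4, 8, 0],
   [2, 1, 2, 8, 0, 6, 4, 3, 6, 4, 8, 3, 6, 6],
   [1, 3, 1, 3, 8, 6, 4, 3, 6, 1, 3, 4, 8, 1],
   [1, 1, 3, 8, 3, 6, 2, 0, 2, 4, 6, 4, 8, 1],
   [3, 3, 1, 6, 2, 2],
   [3, 8, 3, 6, 2, 4, 6, 1, 2, 4, 8, 0],
   [3, 8, 3, 0, 6, 4, 3, 6, 4, 8, 3, 0],
   [0, 2, 8, 2, 6, 4, 3, 6, 1, 3, 4, 8]]

/-- `a` through the Carmichael elements, up to `a ^ (4 * e)` -/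
def ixY_a : List Nat := [4,3,5,4,6,5,4,3,2,7,6,5,4,3,8,7]

/-- `b` through the Carmichael elements, up to `a ^ (4 * e)` -/
def ixY_b : List Nat := [3,0,1,2,3,4,5,4,3,2,1,0,6,7,6,5,4,3]

/-- `z` through the Carmichael elements, up to `a ^ (4 * e)` -/
def ixY_z : List Nat := [0,1,2,1,4,3,2,1,0,5,6,5,4,3,2,7,8,7]

/-- `d` through the Carmichael elements, up to `a ^ (4 * e)` -/
def ixY_d : List Nat := [0,4,5,6,5,4]

/-- `C` through the Carmichael elements, up to `a ^ (4 * e)` -/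
def ixY_C : List Nat := [1,2,3,2,4,3,2,5,4,3,6,5,4,3,2,1,7,6,5,4,3,8,7,6,5,4]

/-- inverse of a word over the nine letters -/
def winv (w : List Nat) : List Nat :=
  w.reverse.map fun x => ([1, 0, 3, 2, 5, 4, 7, 6, 8] : List Nat).getD x 0

/-- the involution `a ^ 4` -/
def wT : List Nat := [0, 0, 0, 0]

/-- commutation of a token with `a ^ 4` -/
def idComm (k : Nat) : List Nat := lets [k] ++ wT ++ winv (lets [k]) ++ winv wT

/-- a generator against its product of Carmichael elements -/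
def idPhi (k : Nat) (ix : List Nat) (e : Nat) : List Nat :=
  lets [k] ++ winv (lets (ix.flatMap fun i => twY.getD i []) ++ (List.replicate e wT).flatten)

/-- the words which are trivial in the Lyons group -/
def idWords : List (List Nat) :=
  [idComm 0, idComm 2, idComm 4, idComm 6, idComm 8,
   [4] ++ winv (wG ++ [3, 3] ++ winv wG),
   wG ++ wT ++ winv wG ++ winv (lets tw_v),
   winv wG ++ wT ++ wG ++ winv (lets tw_v1),
   lets tw_p ++ lets tw_p ++ lets tw_p,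
   lets tw_q ++ lets tw_q ++ lets tw_q,
   lets tw_v ++ winv (lets tw_p ++ lets tw_q),
   wG ++ lets tw_w2 ++ winv wG ++ winv (lets tw_u2),
   lets tw_u2 ++ lets tw_u2 ++ lets tw_u2,
   wG ++ lets tw_w4 ++ winv wG ++ winv (lets tw_u4),
   wG ++ lets tw_w5 ++ winv wG ++ winv (lets tw_u5),
   lets tw_u2p ++ lets tw_u2p ++ lets tw_u2p,
   winv wG ++ lets tw_u2p ++ wG ++ winv (lets tw_w2p),
   lets tw_qv ++ lets tw_v ++ winv (lets tw_qv) ++ winv (lets tw_v ++ wT),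
   idPhi 0 ixY_a 0, idPhi 2 ixY_b 1, idPhi 6 ixY_z 1, idPhi 4 ixY_d 0, idPhi 8 ixY_C 1,
   lets (twY.getD 1 []) ++ lets (twY.getD 1 []) ++ winv wT]

end CfsgLib.Spor.LyOut
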