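import Cfsg.Agent.Lib.Spor.Ly.GKData
import Cfsg.Agent.Lib.Spor.LyOut.RunImg
import Cfsg.Agent.Lib.Spor.LyOut.Steps
import Cfsg.Agent.Lib.Spor.LyOut.Words

/-!
The check of the identities used for the automorphisms of the Lyons group.
-/

set_option autoImplicit false

namespace CfsgLib.Spor.LyOut

open CfsgLib.PresCert CfsgLib.DCE CfsgLib.Spor.Ly

/-- the runs -/
def idSteps : List (List Step) :=
  [run0, run1, run2, run3, run4, run5, run6, run7, run8, run9, run10, run11, run12, run13, run14,
   run15, run16, run17, run18, run19, run20, run21, run22, run23]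

/-- identity number `k` holds -/
noncomputable def okId (k : Nat) : Bool :=
  GK.S.okValI GK.facts (nat_lit 108) (idSteps.getD k []) (idWords.getD k []) []

/-- `a ^ 4` moves a base point -/
noncomputable def okNe : Bool :=
  !(GK.S.same wT [])

end CfsgLib.Spor.LyOut
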