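import Cfsg.Agent.Lib.Spor.LyOut.Check

/-!
The identities in the Lyons group, checked by the kernel.
-/

namespace CfsgLib.Spor.LyOut

theorem okNe_true : okNe = true := by decide +kernel

theorem okId0 : okId 0 = true := by decide +kernel

theorem okId1 : okId 1 = true := by decide +kernel

theorem okId2 : okId 2 = true := by decide +kernel

theorem okId3 : okId 3 = true := by decide +kernel

theorem okId4 : okId 4 = true := by decide +kernel

theorem okId5 : okId 5 = true := by decide +kernel

theorem okId6 : okId 6 = true := by decide +kernel

theorem okId7 : okId 7 = true := by decide +kernel

theorem okId8 : okId 8 = true := by decide +kernel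

theorem okId9 : okId 9 = true := by decide +kernel

theorem okId10 : okId 10 = true := by decide +kernel

theorem okId11 : okId 11 = true := by decide +kernel

theorem okId12 : okId 12 = true := by decide +kernel

theorem okId13 : okId 13 = true := by decide +kernel

theorem okId14 : okId 14 = true := by decide +kernel

theorem okId15 : okId 15 = true := by decide +kernel

theorem okId16 : okId 16 = true := by decide +kernel

theorem okId17 : okId 17 = true := by decide +kernel

theorem okId18 : okId 18 = true := by decide +kernel

theorem okId19 : okId 19 = true := by decide +kernel

theorem okId20 : okId 20 = true := by decide +kernel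

theorem okId21 : okId 21 = true := by decide +kernel

theorem okId22 : okId 22 = true := by decide +kernel

theorem okId23 : okId 23 = true := by decide +kernel

theorem okId_true (k : Nat) (hk : k < 24) : okId k = true := by
  interval_cases k
  · exact okId0
  · exact okId1
  · exact okId2
  · exact okId3
  · exact okId4
  · exact okId5
  · exact okId6
  · exact okId7
  · exact okId8
  · exact okId9
  · exact okId10
  · exact okId11
  · exact okId12
  · exact okId13
  · exact okId14
  · exact okId15
  · exact okId16
  · exact okId17
  · exact okId18
  · exact okId19
  · exact okId20
  · exact okId21
  · exact okId22
  · exact okId23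

end CfsgLib.Spor.LyOut
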