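import Cfsg.Agent.Lib.Spor.LyOut.Perms
import Cfsg.Prelude.Def_KGroupFacts

/-!
Every automorphism of a group with the configuration of the Lyons group (an involution
centraliser `2.A11` and one further element `g`) is inner.
-/

set_option autoImplicit false

namespace CfsgLib.Spor.LyOut

open Equiv Equiv.Perm

variable {G : Type*} [Group G] {t : G} {Φ : Subgroup.centralizer ({t} : Set G) →* Perm (Fin 11)}

/-- The facts about the generators needed for the computation of the automorphism group. -/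
structure Config (F : Frame t Φ) (a b c d z g : G) : Prop where
  ha : a ∈ Subgroup.centralizer ({t} : Set G)
  hb : b ∈ Subgroup.centralizer ({t} : Set G)
  hd : d ∈ Subgroup.centralizer ({t} : Set G)
  hz : z ∈ Subgroup.centralizer ({t} : Set G)
  gen : Subgroup.closure ({a, b, c, d, z} : Set G) = ⊤
  hc : c = g * (b ^ 2)⁻¹ * g⁻¹
  inv_conj : ∀ x : G, x * x = 1 → x ≠ 1 → IsConj t x
  hv : ∃ v : Subgroup.centralizer ({t} : Set G), g * t * g⁻¹ = v ∧
    ∃ p q : Subgroup.centralizer ({t} : Set G), (v : G) = p * q ∧ (p : G) ^ 3 = 1 ∧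
      (q : G) ^ 3 = 1 ∧ Φ p = permP ∧ Φ q = permQ
  hv' : ∃ v : Subgroup.centralizer ({t} : Set G), g⁻¹ * t * g = v ∧ Φ v = permV'
  hw2 : ∃ w u : Subgroup.centralizer ({t} : Set G), g * w * g⁻¹ = u ∧ Φ w = permW2 ∧
    (u : G) ^ 3 = 1 ∧ ∃ u' w' : Subgroup.centralizer ({t} : Set G), g⁻¹ * u' * g = w' ∧
      Φ w' = permW2' ∧ (u' : G) ^ 3 = 1 ∧ Φ u' = permT * Φ u * permT⁻¹
  hw4 : ∃ w u : Subgroup.centralizer ({t} : Set G), g * w * g⁻¹ = u ∧ Φ w = permW4
  hw5 : ∃ w u : Subgroup.centralizer ({t} : Set G), g * w * g⁻¹ = u ∧ Φ w = permW5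

variable {F : Frame t Φ} {a b c d z g : G}

theorem conj_apply_inv (g x : G) : (MulAut.conj g)⁻¹ x = g⁻¹ * x * g :=
  MulAut.conj_inv_apply g x

/-- the automorphism moved by `g` -/
def shift (g : G) (φ : MulAut G) : MulAut G := (MulAut.conj g)⁻¹ * φ * MulAut.conj g

theorem shift_apply (g : G) (φ : MulAut G) (x : G) :
    shift g φ x = g⁻¹ * φ (g * x * g⁻¹) * g := by
  simp only [shift, MulAut.mul_apply, MulAut.conj_apply, conj_apply_inv]

theorem restrict_conj (y : Subgroup.centralizer ({t} : Set G))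
    (h : MulAut.conj (y : G) t = t) (x : Subgroup.centralizer ({t} : Set G)) :
    restrict (MulAut.conj (y : G)) h x = y * x * y⁻¹ :=
  Subtype.ext (MulAut.conj_apply (y : G) x)

theorem conj_fix (y : Subgroup.centralizer ({t} : Set G)) : MulAut.conj (y : G) t = t := by
  rw [MulAut.conj_apply, mul_inv_eq_iff_eq_mul]
  exact Subgroup.mem_centralizer_singleton_iff.1 y.2

/-- An automorphism fixing `t` which acts trivially modulo `t` on the centraliser is inner. -/
theorem Config.inner_of_trivial (C : Config F a b c d z g) (φ : MulAut G) (h : φ t = t)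
    (e : ∀ x, Φ (restrict φ h x) = Φ x) : φ ∈ Cfsg.Inn G := by
  have hid : ∀ x : Subgroup.centralizer ({t} : Set G), φ x = x := fun x =>
    F.ext φ 1 h rfl (fun y => (e y).trans (congrArg Φ (Subtype.ext rfl))) x
  obtain ⟨v, hv, -⟩ := C.hv
  obtain ⟨v', hv', hΦv'⟩ := C.hv'
  obtain ⟨w2, u2, h2, e2, -⟩ := C.hw2
  obtain ⟨w4, u4, h4, e4⟩ := C.hw4
  obtain ⟨w5, u5, h5, e5⟩ := C.hw5
  have hψ : shift g φ t = t := by
    rw [shift_apply, hv, hid, ← hv]
    group
  obtain ⟨σ, hσ⟩ := F.exists_perm _ hψ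
  have hw : ∀ (w u : Subgroup.centralizer ({t} : Set G)), g * w * g⁻¹ = u →
      σ * Φ w = Φ w * σ := fun w u hu => by
    have hfix : restrict (shift g φ) hψ w = w := Subtype.ext (by
      rw [restrict_coe, shift_apply, hu, hid, ← hu]
      group)
    have := hσ w
    rw [hfix, eq_mul_inv_iff_mul_eq] at this
    exact this.symm
  have hb2 : ((b ^ 2)⁻¹ : G) ∈ Subgroup.centralizer ({t} : Set G) := inv_mem (pow_mem C.hb 2)
  have hgen : ∀ ψ : MulAut G, φ a = ψ a → φ b = ψ b → φ c = ψ c → φ d = ψ d → φ z = ψ z →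
      φ = ψ := fun ψ p1 p2 p3 p4 p5 => by
    have := MonoidHom.eq_of_eqOn_dense (f := φ.toMonoidHom) (g := ψ.toMonoidHom) C.gen (by
      rintro x (rfl | rfl | rfl | rfl | rfl) <;> assumption)
    exact MulEquiv.ext fun y => DFunLike.congr_fun this y
  have hφc : ∀ y : G, shift g φ (b ^ 2)⁻¹ = y → φ c = g * y * g⁻¹ := fun y hy => by
    rw [C.hc, ← hy, shift_apply]
    group
  rcases centraliser_W σ (e2 ▸ hw w2 u2 h2) (e4 ▸ hw w4 u4 h4) (e5 ▸ hw w5 u5 h5) with rfl | rfl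
  · have hψid : shift g φ (b ^ 2)⁻¹ = (b ^ 2)⁻¹ :=
      F.ext _ 1 hψ rfl (fun y => (hσ y).trans (by
        rw [one_mul, inv_one, mul_one]
        exact congrArg Φ (Subtype.ext rfl))) ⟨_, hb2⟩
    have : φ = 1 := hgen 1 (hid ⟨a, C.ha⟩) (hid ⟨b, C.hb⟩)
      ((hφc _ hψid).trans C.hc.symm) (hid ⟨d, C.hd⟩) (hid ⟨z, C.hz⟩)
    rw [this]
    exact one_mem _
  · have hψv : shift g φ (b ^ 2)⁻¹ = MulAut.conj (v' : G) (b ^ 2)⁻¹ :=
      F.ext _ (MulAut.conj (v' : G)) hψ (conj_fix v') (fun y => (hσ y).trans (by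
        rw [restrict_conj, map_mul, map_mul, map_inv, hΦv'])) ⟨_, hb2⟩
    have ht : ∀ x ∈ Subgroup.centralizer ({t} : Set G), MulAut.conj t x = x := fun x hx => by
      rw [MulAut.conj_apply, mul_inv_eq_iff_eq_mul]
      exact (Subgroup.mem_centralizer_singleton_iff.1 hx).symm
    have : φ = MulAut.conj t := hgen _ ((hid ⟨a, C.ha⟩).trans (ht _ C.ha).symm)
      ((hid ⟨b, C.hb⟩).trans (ht _ C.hb).symm) ((hφc _ hψv).trans (by
        rw [MulAut.conj_apply, MulAut.conj_apply, C.hc, ← hv']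
        group))
      ((hid ⟨d, C.hd⟩).trans (ht _ C.hd).symm) ((hid ⟨z, C.hz⟩).trans (ht _ C.hz).symm)
    rw [this]
    exact ⟨t, rfl⟩

/-- No automorphism fixing `t` induces the outer automorphism on the centraliser. -/
theorem Config.no_outer (C : Config F a b c d z g) (φ : MulAut G) (h : φ t = t)
    (e : ∀ x, Φ (restrict φ h x) = permT * Φ x * permT⁻¹) : False := by
  obtain ⟨v, hv, p, q, hpq, hp, hq, eP, eQ⟩ := C.hv
  obtain ⟨w, u, hu, eW, hu3, u', w', hw', eW', hu'3, eU'⟩ := C.hw2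
  have hpow : ∀ x : Subgroup.centralizer ({t} : Set G), (x : G) ^ 3 = 1 →
      ((restrict φ h x : Subgroup.centralizer ({t} : Set G)) : G) ^ 3 = 1 := fun x hx => by
    rw [restrict_coe, ← map_pow, hx, map_one]
  have hφp : φ p = p := F.eq_of_pow (x := restrict φ h p) (n := 3) (by decide) (hpow p hp) hp
    (by rw [e, eP, permT_P])
  have hφq : φ q = q := F.eq_of_pow (x := restrict φ h q) (n := 3) (by decide) (hpow q hq) hq
    (by rw [e, eQ, permT_Q])
  have hφu : φ u = u' := F.eq_of_pow (x := restrict φ h u) (n := 3) (by decide) (hpow u hu3) hu'3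
    (by rw [e, eU'])
  have hψ : shift g φ t = t := by
    rw [shift_apply, hv, hpq, map_mul, hφp, hφq, ← hpq, ← hv]
    group
  obtain ⟨σ, hσ⟩ := F.exists_perm _ hψ
  have hψw : restrict (shift g φ) hψ w = w' := Subtype.ext (by
    rw [restrict_coe, shift_apply, hu, hφu, hw'])
  have := hσ w
  rw [hψw, eW', eW] at this
  exact fixCard_W2 (by rw [this, fixCard_conj])

/-- Every automorphism is inner. -/
theorem Config.inner (C : Config F a b c d z g) (φ : MulAut G) : φ ∈ Cfsg.Inn G := by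
  have hin : ∀ y : G, MulAut.conj y ∈ Cfsg.Inn G := fun y => ⟨y, rfl⟩
  have hfix : ∀ ψ : MulAut G, ψ t = t → ψ ∈ Cfsg.Inn G := fun ψ hψ => by
    obtain ⟨σ, hσ⟩ := F.exists_perm ψ hψ
    have step : ∀ τ : Perm (Fin 11), σ * τ ∈ alternatingGroup (Fin 11) →
        ∃ ψ' : MulAut G, ∃ hψ' : ψ' t = t, (ψ' ∈ Cfsg.Inn G → ψ ∈ Cfsg.Inn G) ∧
          ∀ x, Φ (restrict ψ' hψ' x) = τ⁻¹ * Φ x * τ := fun τ hτ => by
      obtain ⟨y, hy⟩ := F.exists_lift hτ
      refine ⟨MulAut.conj (((y⁻¹ : _) : G)) * ψ, by rw [MulAut.mul_apply, hψ, conj_fix],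
        fun hm => (Subgroup.mul_mem_cancel_left _ (hin _)).1 hm, fun x => ?_⟩
      have : restrict (MulAut.conj (((y⁻¹ : _) : G)) * ψ)
          (by rw [MulAut.mul_apply, hψ, conj_fix]) x = y⁻¹ * restrict ψ hψ x * y :=
        Subtype.ext (by simp)
      rw [this, map_mul, map_mul, map_inv, hσ, hy]
      group
    rcases Int.units_eq_one_or (Perm.sign σ) with hs | hs
    · obtain ⟨ψ', hψ', hm, he⟩ := step 1 (by rw [mul_one]; exact mem_alternatingGroup.2 hs)
      exact hm (C.inner_of_trivial ψ' hψ' fun x => by rw [he]; simp)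
    · obtain ⟨ψ', hψ', -, he⟩ := step permT⁻¹
        (mem_alternatingGroup.2 (by rw [map_mul, map_inv, hs, sign_permT]; rfl))
      exact (C.no_outer ψ' hψ' fun x => by rw [he, inv_inv]).elim
  have hsq : φ t * φ t = 1 := by rw [← map_mul, F.sq, map_one]
  obtain ⟨k, hk⟩ := isConj_iff.1 (C.inv_conj _ hsq fun h => F.ne ((map_eq_one_iff φ φ.injective).1 h))
  refine (Subgroup.mul_mem_cancel_left _ (hin k⁻¹)).1 (hfix _ ?_)
  rw [MulAut.mul_apply, MulAut.conj_apply, ← hk]
  group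

theorem Config.natCard_out (C : Config F a b c d z g) : Nat.card (Cfsg.Out G) = 1 := by
  have h : Cfsg.Inn G = ⊤ := eq_top_iff.2 fun φ _ => C.inner φ
  show Nat.card (MulAut G ⧸ Cfsg.Inn G) = 1
  rw [← Subgroup.index, h, Subgroup.index_top]

end CfsgLib.Spor.LyOut
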