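import Cfsg.Agent.Lib.Spor.LyOut.Carm
import Cfsg.Agent.Lib.KnownB.LyCent.Final

/-!
The outer automorphism group of a finite group of the order of `Ly` with a closed enumeration of
the Lyons group is trivial.
-/

set_option autoImplicit false

namespace CfsgLib.Spor.LyOut

open CfsgLib.PresCert CfsgLib.DCE
open CfsgLib.Spor.Ly

/-- `Out = 1` from a closed enumeration (`Kit`) and the order. -/
theorem natCard_out_of_kit {H Q : Type*} [Group H] [Group Q] [Finite H] [Finite Q]
    (N : Model GK.S H Q) (T : CfsgLib.KnownB.LyCent.Kit N)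
    (hG : Nat.card Q = 51765179004000000) : Nat.card (Cfsg.Out Q) = 1 := by
  obtain ⟨st, -⟩ := CfsgLib.KnownB.LyCent.setting T
  have h := CfsgLib.KnownB.LyCent.card_centralizer_t st
  refine natCard_out' N T.hS (fun f hf => T.hfs f (CfsgLib.KnownB.LyCent.facts_len.symm ▸ hf))
    T.hinj hG ?_
  have e : N.f (CfsgLib.KnownB.LyCent.tEl N.M) = tel N :=
    (CfsgLib.KnownB.LyCent.prod_low (N := N) CfsgLib.KnownB.LyCent.tW
      CfsgLib.KnownB.LyCent.words_tx_lt.1).symm
  rw [← e]
  exact h

end CfsgLib.Spor.LyOut
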