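import Cfsg.Agent.Lib.KnownA.AutAlt

/-!
Automorphisms and conjugacy inside a centraliser of an involution which is a double cover of the
alternating group on eleven letters, given by a homomorphism to permutations.
-/

set_option autoImplicit false

namespace CfsgLib.Spor.LyOut

open Equiv Equiv.Perm

variable {G : Type*} [Group G]

/-- The centraliser of the involution `t` maps onto the alternating group with kernel `⟨t⟩`. -/
structure Frame (t : G) (Φ : Subgroup.centralizer ({t} : Set G) →* Perm (Fin 11)) : Prop where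
  sq : t * t = 1
  ne : t ≠ 1
  ker : ∀ x, Φ x = 1 ↔ (x : G) = 1 ∨ (x : G) = t
  range : Φ.range = alternatingGroup (Fin 11)

variable {t : G} {Φ : Subgroup.centralizer ({t} : Set G) →* Perm (Fin 11)}

theorem map_mem {φ : MulAut G} (h : φ t = t) {x : G}
    (hx : x ∈ Subgroup.centralizer ({t} : Set G)) : φ x ∈ Subgroup.centralizer ({t} : Set G) := by
  rw [Subgroup.mem_centralizer_singleton_iff] at hx ⊢
  conv_lhs => rw [← h]
  conv_rhs => rw [← h]
  rw [← map_mul, ← map_mul, hx]

/-- the restriction of an automorphism fixing `t` -/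
def restrict (φ : MulAut G) (h : φ t = t) : MulAut (Subgroup.centralizer ({t} : Set G)) where
  toFun x := ⟨φ x, map_mem h x.2⟩
  invFun x := ⟨φ⁻¹ x, map_mem (φ := φ⁻¹) (by conv_lhs => rw [← h]; exact φ.symm_apply_apply t) x.2⟩
  left_inv x := Subtype.ext (φ.symm_apply_apply x)
  right_inv x := Subtype.ext (φ.apply_symm_apply x)
  map_mul' x y := Subtype.ext (map_mul φ _ _)

@[simp] theorem restrict_coe (φ : MulAut G) (h : φ t = t)
    (x : Subgroup.centralizer ({t} : Set G)) : ((restrict φ h x : _) : G) = φ x := rfl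

theorem Frame.eq_iff (F : Frame t Φ) (x y : Subgroup.centralizer ({t} : Set G)) :
    Φ x = Φ y ↔ (x : G) = y ∨ (x : G) = y * t := by
  have hc : (y : G) * t = t * y := Subgroup.mem_centralizer_singleton_iff.1 y.2
  have h := F.ker (x * y⁻¹)
  rw [map_mul, map_inv, mul_inv_eq_one, Subgroup.coe_mul, Subgroup.coe_inv, mul_inv_eq_one,
    mul_inv_eq_iff_eq_mul, ← hc] at h
  exact h

theorem Frame.mem_alt (F : Frame t Φ) (x : Subgroup.centralizer ({t} : Set G)) :
    Φ x ∈ alternatingGroup (Fin 11) := F.range ▸ ⟨x, rfl⟩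

theorem Frame.exists_lift (F : Frame t Φ) {p : Perm (Fin 11)}
    (hp : p ∈ alternatingGroup (Fin 11)) : ∃ x, Φ x = p := by
  rw [← F.range] at hp
  exact hp

/-- An automorphism fixing `t` induces conjugation by a permutation. -/
theorem Frame.exists_perm (F : Frame t Φ) (φ : MulAut G) (h : φ t = t) :
    ∃ σ : Perm (Fin 11), ∀ x, Φ (restrict φ h x) = σ * Φ x * σ⁻¹ := by
  have hsec : ∀ a : alternatingGroup (Fin 11), ∃ x, Φ x = a := fun a => F.exists_lift a.2
  choose s hs using hsec
  have key : ∀ x y, Φ x = Φ y → Φ (restrict φ h x) = Φ (restrict φ h y) := by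
    intro x y e
    rw [F.eq_iff] at e ⊢
    rcases e with e | e
    · exact Or.inl (by simp [e])
    · exact Or.inr (by simp [e, h])
  let f : alternatingGroup (Fin 11) →* alternatingGroup (Fin 11) :=
    MonoidHom.mk' (fun a => ⟨Φ (restrict φ h (s a)), F.mem_alt _⟩) fun a b => Subtype.ext (by
      show Φ (restrict φ h (s (a * b))) = Φ (restrict φ h (s a)) * Φ (restrict φ h (s b))
      rw [← map_mul, ← map_mul]
      exact key _ _ (by rw [map_mul, hs, hs, hs]; rfl))
  have hf : Function.Surjective f := by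
    intro a
    refine ⟨⟨Φ ((restrict φ h).symm (s a)), F.mem_alt _⟩, Subtype.ext ?_⟩
    show Φ (restrict φ h (s _)) = _
    rw [key _ ((restrict φ h).symm (s a)) (hs _), MulEquiv.apply_symm_apply, hs]
  obtain ⟨σ, hσ⟩ := CfsgLib.KnownA.exists_conj_aut (Ω := Fin 11) (by simp) (by simp)
    (MulEquiv.ofBijective f (Finite.surjective_iff_bijective.1 hf))
  refine ⟨σ, fun x => ?_⟩
  have := congrArg (fun ψ : MulAut (alternatingGroup (Fin 11)) =>
    ((ψ ⟨Φ x, F.mem_alt x⟩ : alternatingGroup (Fin 11)) : Perm (Fin 11))) hσ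
  refine (key x (s ⟨Φ x, F.mem_alt x⟩) (hs ⟨Φ x, F.mem_alt x⟩).symm).trans ?_
  simpa [f] using this.symm

/-- Automorphisms fixing `t` which agree modulo `t` agree on the centraliser. -/
theorem Frame.ext (F : Frame t Φ) (φ φ' : MulAut G) (h : φ t = t) (h' : φ' t = t)
    (e : ∀ x, Φ (restrict φ h x) = Φ (restrict φ' h' x))
    (x : Subgroup.centralizer ({t} : Set G)) : φ x = φ' x := by
  let P : Subgroup (Subgroup.centralizer ({t} : Set G)) :=
    { carrier := {y | φ y = φ' y}
      one_mem' := by simp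
      mul_mem' := fun {a b} (ha : φ a = φ' a) (hb : φ b = φ' b) => by
        show φ (a * b : G) = φ' (a * b : G)
        rw [map_mul, map_mul, ha, hb]
      inv_mem' := fun {a} (ha : φ a = φ' a) => by
        show φ (a⁻¹ : G) = φ' (a⁻¹ : G)
        rw [map_inv, map_inv, ha] }
  have htC : ∀ y : Subgroup.centralizer ({t} : Set G), (y : G) = t → y ∈ P := fun y hy => by
    show φ y = φ' y
    rw [hy, h, h']
  have h3 : ∀ y, Perm.IsThreeCycle (Φ y) → y ∈ P := by
    intro y hy
    have h1 : Φ (y ^ 3) = 1 := by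
      rw [map_pow]
      exact hy.orderOf ▸ pow_orderOf_eq_one (Φ y)
    have hy3 : φ ((y : G) ^ 3) = φ' ((y : G) ^ 3) := by
      rcases (F.ker _).1 h1 with e1 | e1 <;> rw [Subgroup.coe_pow] at e1
      · rw [e1, map_one, map_one]
      · rw [e1, h, h']
    rcases (F.eq_iff _ _).1 (e y) with e2 | e2
    · exact e2
    · have hc : Commute (φ' y) t :=
        (Subgroup.mem_centralizer_singleton_iff.1 (map_mem h' y.2) : φ' y * t = t * φ' y)
      rw [restrict_coe, restrict_coe] at e2
      rw [map_pow, map_pow, e2, hc.mul_pow, pow_succ t, pow_two, F.sq, one_mul] at hy3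
      exact absurd (mul_eq_left.1 hy3) F.ne
  have hsub : alternatingGroup (Fin 11) ≤ P.map Φ := by
    rw [← closure_three_cycles_eq_alternating, Subgroup.closure_le]
    intro p hp
    obtain ⟨y, rfl⟩ := F.exists_lift (IsThreeCycle.mem_alternatingGroup hp)
    exact ⟨y, h3 y hp, rfl⟩
  obtain ⟨y, hy, exy⟩ := hsub (F.mem_alt x)
  rcases (F.eq_iff _ _).1 exy.symm with e2 | e2
  · exact (congrArg φ e2).trans ((hy : φ y = φ' y).trans (congrArg φ' e2).symm)
  · rw [e2, map_mul, map_mul, (hy : φ y = φ' y), h, h']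

/-- An element of odd order is determined by its image. -/
theorem Frame.eq_of_pow (F : Frame t Φ) {x y : Subgroup.centralizer ({t} : Set G)} {n : ℕ}
    (hn : Odd n) (hx : (x : G) ^ n = 1) (hy : (y : G) ^ n = 1) (h : Φ x = Φ y) :
    (x : G) = y := by
  rcases (F.eq_iff _ _).1 h with e | e
  · exact e
  · have hc : Commute (y : G) t :=
      (Subgroup.mem_centralizer_singleton_iff.1 y.2 : (y : G) * t = t * y)
    obtain ⟨k, rfl⟩ := hn
    rw [e, hc.mul_pow, hy, one_mul, pow_succ, pow_mul, pow_two, F.sq, one_pow, one_mul] at hx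
    exact absurd hx F.ne

theorem exists_alt_conj {p q : Perm (Fin 11)} (hpq : IsConj p q) {i j : Fin 11} (hij : i ≠ j)
    (hi : q i = i) (hj : q j = j) :
    ∃ σ ∈ alternatingGroup (Fin 11), σ * p * σ⁻¹ = q := by
  obtain ⟨σ, hσ⟩ := isConj_iff.1 hpq
  rcases Int.units_eq_one_or (Perm.sign σ) with h | h
  · exact ⟨σ, mem_alternatingGroup.2 h, hσ⟩
  · refine ⟨swap i j * σ, mem_alternatingGroup.2 (by rw [map_mul, sign_swap hij, h]; rfl), ?_⟩
    have hc : swap i j * q * (swap i j)⁻¹ = q := by
      have : swap i j * q = q * swap i j := by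
        ext x
        simp only [Perm.coe_mul, Function.comp_apply]
        rcases eq_or_ne x i with rfl | hxi
        · rw [hi, swap_apply_left, hj]
        rcases eq_or_ne x j with rfl | hxj
        · rw [hj, swap_apply_right, hi]
        rw [swap_apply_of_ne_of_ne hxi hxj, swap_apply_of_ne_of_ne
          (fun e => hxi (q.injective (e.trans hi.symm))) (fun e => hxj (q.injective (e.trans hj.symm)))]
      rw [this, mul_inv_cancel_right]
    calc swap i j * σ * p * (swap i j * σ)⁻¹ = swap i j * (σ * p * σ⁻¹) * (swap i j)⁻¹ := by group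
      _ = q := by rw [hσ, hc]

end CfsgLib.Spor.LyOut
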