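import Cfsg.Agent.Lib.Spor.LyOut.Perms
import Mathlib.GroupTheory.Sylow

/-!
In a group of the order of the Lyons group, with an involution centraliser `2.A11`, all
involutions are conjugate as soon as the two preimages of one involution type are known.
-/

set_option autoImplicit false

namespace CfsgLib.Spor.LyOut

open Equiv Equiv.Perm

variable {G : Type*} [Group G] {t : G} {Φ : Subgroup.centralizer ({t} : Set G) →* Perm (Fin 11)}

/-- a product of two disjoint transpositions -/
def perm22 : Perm (Fin 11) := swap 0 1 * swap 2 3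

theorem cycleType_swap {i j : Fin 11} (h : i ≠ j) : (swap i j).cycleType = {2} := by
  rw [(isCycle_swap h).cycleType, card_support_swap h]

theorem cycleType_22 : perm22.cycleType = Multiset.replicate 2 2 := by
  have hd : Perm.Disjoint (swap (0 : Fin 11) 1) (swap 2 3) := fun x => by revert x; decide
  rw [perm22, hd.cycleType_mul, cycleType_swap (by decide), cycleType_swap (by decide)]
  rfl

theorem permV_eq : permV = swap 1 9 * swap 3 10 * (swap 4 7 * swap 5 8) := by decide

theorem cycleType_V : permV.cycleType = Multiset.replicate 4 2 := by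
  have h1 : Perm.Disjoint (swap (4 : Fin 11) 7) (swap 5 8) := fun x => by revert x; decide
  have h0 : Perm.Disjoint (swap (1 : Fin 11) 9) (swap 3 10) := fun x => by revert x; decide
  have h2 : Perm.Disjoint (swap (1 : Fin 11) 9 * swap 3 10) (swap (4 : Fin 11) 7 * swap 5 8) :=
    fun x => by revert x; decide
  rw [permV_eq, h2.cycleType_mul, h0.cycleType_mul, h1.cycleType_mul, cycleType_swap (by decide),
    cycleType_swap (by decide), cycleType_swap (by decide), cycleType_swap (by decide)]
  rfl

theorem involution_alt {p : Perm (Fin 11)} (hp : p ∈ alternatingGroup (Fin 11))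
    (h : p * p = 1) : p = 1 ∨ (∃ σ ∈ alternatingGroup (Fin 11), σ * p * σ⁻¹ = perm22) ∨
      ∃ σ ∈ alternatingGroup (Fin 11), σ * p * σ⁻¹ = permV := by
  haveI : Fact (Nat.Prime 2) := ⟨Nat.prime_two⟩
  have hc := cycleType_of_pow_prime_eq_one (σ := p) (p := 2) (by rw [pow_two, h])
  set k := p.cycleType.card with hk
  have hsum := p.sum_cycleType_le
  rw [hc, Multiset.sum_replicate, smul_eq_mul, Fintype.card_fin] at hsum
  have hsgn := (sign_of_cycleType p).symm.trans (mem_alternatingGroup.1 hp)
  rw [hc, Multiset.sum_replicate, smul_eq_mul, Multiset.card_replicate] at hsgn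
  have hk5 : k ≤ 5 := by omega
  interval_cases k
  · exact Or.inl (cycleType_eq_zero.1 (by simpa using hc))
  · exact absurd hsgn (by decide)
  · exact Or.inr (Or.inl (exists_alt_conj (isConj_iff_cycleType_eq.2 (hc.trans cycleType_22.symm))
      (i := 4) (j := 5) (by decide) (by decide) (by decide)))
  · exact absurd hsgn (by decide)
  · exact Or.inr (Or.inr (exists_alt_conj (isConj_iff_cycleType_eq.2 (hc.trans cycleType_V.symm))
      (i := 0) (j := 2) (by decide) (by decide) (by decide)))
  · exact absurd hsgn (by decide)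

/-- All involutions are conjugate to `t`. -/
theorem Frame.inv_conj [Finite G] (F : Frame t Φ) (hG : Nat.card G = 51765179004000000)
    (y v q : Subgroup.centralizer ({t} : Set G)) (hy : Φ y = perm22) (hy2 : (y : G) * y = t)
    (hv : Φ v = permV) {g : G} (hvt : g * t * g⁻¹ = v) (hq : (q : G) * v * (q : G)⁻¹ = v * t)
    (x : G) (hx : x * x = 1) (hx1 : x ≠ 1) : IsConj t x := by
  haveI : Fact (Nat.Prime 2) := ⟨Nat.prime_two⟩
  have hker : Nat.card Φ.ker = 2 := by
    refine Nat.card_eq_two_iff.2 ⟨⟨1, one_mem _⟩,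
      ⟨⟨t, Subgroup.mem_centralizer_singleton_iff.2 rfl⟩, (F.ker _).2 (Or.inr rfl)⟩, ?_, ?_⟩
    · intro h
      exact F.ne (congrArg (fun z : Φ.ker => ((z : Subgroup.centralizer ({t} : Set G)) : G)) h).symm
    · refine Set.eq_univ_of_forall fun z => ?_
      rcases (F.ker _).1 z.2 with h | h
      · exact Or.inl (Subtype.ext (Subtype.ext h))
      · exact Or.inr (Subtype.ext (Subtype.ext h))
  have hC : Nat.card (Subgroup.centralizer ({t} : Set G)) = 39916800 := by
    rw [← Φ.ker.card_mul_index, hker, Subgroup.index_ker, F.range, nat_card_alternatingGroup,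
      Nat.card_fin]
    decide
  obtain ⟨P, hP⟩ := Sylow.exists_subgroup_card_pow_prime
    (G := Subgroup.centralizer ({t} : Set G)) 2 (n := 8) (by rw [hC]; decide)
  have hfac : (Nat.card G).factorization 2 = 8 := by
    rw [hG, show (51765179004000000 : ℕ) = 2 ^ 8 * 202207730484375 from rfl,
      Nat.factorization_mul (by decide) (by decide), Nat.Prime.factorization_pow Nat.prime_two,
      Finsupp.add_apply, Finsupp.single_eq_same,
      Nat.factorization_eq_zero_of_not_dvd (by decide : ¬ 2 ∣ 202207730484375)]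
  let S : Sylow 2 G := Sylow.ofCard (P.map (Subgroup.centralizer ({t} : Set G)).subtype)
    (by rw [Subgroup.card_map_of_injective Subtype.val_injective, hP, hfac])
  have hx2 : IsPGroup 2 (Subgroup.zpowers x) :=
    IsPGroup.of_card (n := 1) (by rw [Nat.card_zpowers, orderOf_eq_prime (by rw [pow_two, hx]) hx1,
      pow_one])
  obtain ⟨Q, hQ⟩ := hx2.exists_le_sylow
  obtain ⟨k, hk⟩ := MulAction.exists_smul_eq G Q S
  have hmem : k * x * k⁻¹ ∈ Subgroup.centralizer ({t} : Set G) := by
    have h1 : k * x * k⁻¹ ∈ (k • Q : Sylow 2 G) :=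
      Subgroup.mem_map.2 ⟨x, hQ (Subgroup.mem_zpowers x), rfl⟩
    rw [hk] at h1
    obtain ⟨w, -, hw⟩ := Subgroup.mem_map.1 h1
    exact hw ▸ w.2
  refine IsConj.trans ?_ (isConj_iff.2 ⟨k⁻¹, by group⟩ : IsConj (k * x * k⁻¹) x)
  generalize hzdef : k * x * k⁻¹ = z at hmem
  have hz : z * z = 1 := by
    rw [← hzdef, show k * x * k⁻¹ * (k * x * k⁻¹) = k * (x * x) * k⁻¹ by group, hx, mul_one,
      mul_inv_cancel]
  have hz1 : z ≠ 1 := fun h => hx1 (by rw [← hzdef, conj_eq_one_iff] at h; exact h)
  let z' : Subgroup.centralizer ({t} : Set G) := ⟨z, hmem⟩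
  have hzz : Φ z' * Φ z' = 1 := by
    rw [← map_mul, show z' * z' = 1 from Subtype.ext hz, map_one]
  rcases involution_alt (F.mem_alt z') hzz with h | ⟨σ, hσ, h⟩ | ⟨σ, hσ, h⟩
  · rcases (F.ker z').1 h with h | h
    · exact absurd h hz1
    · rw [show z = t from h]
  · obtain ⟨s, rfl⟩ := F.exists_lift hσ
    have h' : Φ (s * z' * s⁻¹) = Φ y := by rw [map_mul, map_mul, map_inv, h, hy]
    have hsq : ((s * z' * s⁻¹ : Subgroup.centralizer ({t} : Set G)) : G) *
        ((s * z' * s⁻¹ : Subgroup.centralizer ({t} : Set G)) : G) = 1 := by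
      rw [← Subgroup.coe_mul, show s * z' * s⁻¹ * (s * z' * s⁻¹) = s * (z' * z') * s⁻¹ by group,
        show z' * z' = 1 from Subtype.ext hz, mul_one, mul_inv_cancel, Subgroup.coe_one]
    have hc : Commute (y : G) t :=
      (Subgroup.mem_centralizer_singleton_iff.1 y.2 : (y : G) * t = t * y)
    rcases (F.eq_iff _ _).1 h' with e | e
    · rw [e, hy2] at hsq
      exact absurd hsq F.ne
    · rw [e, show (y : G) * t * (y * t) = (y * y) * (t * t) by
        rw [mul_assoc, ← mul_assoc t, ← hc.eq]; group, F.sq, mul_one, hy2] at hsq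
      exact absurd hsq F.ne
  · obtain ⟨s, rfl⟩ := F.exists_lift hσ
    have h' : Φ (s * z' * s⁻¹) = Φ v := by rw [map_mul, map_mul, map_inv, h, hv]
    have htv : IsConj t (v : G) := isConj_iff.2 ⟨g, hvt⟩
    have hsz : IsConj ((s * z' * s⁻¹ : Subgroup.centralizer ({t} : Set G)) : G) z :=
      isConj_iff.2 ⟨(s : G)⁻¹, by
        rw [Subgroup.coe_mul, Subgroup.coe_mul, Subgroup.coe_inv, show (z' : G) = z from rfl]
        group⟩
    refine IsConj.trans ?_ hsz
    rcases (F.eq_iff _ _).1 h' with e | e
    · rwa [e]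
    · rw [e]
      exact htv.trans (isConj_iff.2 ⟨q, hq⟩)

end CfsgLib.Spor.LyOut
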