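import Cfsg.Agent.Lib.Spor.LyOut.Core
import Cfsg.Agent.Lib.Spor.LyOut.Invol
import Cfsg.Agent.Lib.Spor.LyOut.Build
import Cfsg.Agent.Lib.Spor.LyOut.Checked

/-!
The outer automorphism group is trivial for every group with a model of the enumeration over
`G2(5)`, given its order, the bound on the centraliser of `a ^ 4` and Carmichael's relations.
-/

set_option autoImplicit false

namespace CfsgLib.Spor.LyOut

open Equiv Equiv.Perm CfsgLib.DCE CfsgLib.PresCert CfsgLib.Spor.Ly CfsgLib.Recog

section

variable {H Q : Type*} [Group H] [Group Q] (N : Model GK.S H Q)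

/-- the value of a word in the nine letters -/
def val (w : List Nat) : Q := (w.map N.gen').prod

theorem val_append (u w : List Nat) : val N (u ++ w) = val N u * val N w := by
  simp [val]

theorem okSetup_lets : GK.S.P.g + GK.S.lets.length = 9 := rfl

theorem val_winv (w : List Nat) (hw : w.all (fun x => Nat.blt x 9) = true) :
    val N (winv w) = (val N w)⁻¹ := by
  refine invAll_prod N w fun x hx => ?_
  rw [okSetup_lets]
  simpa using (List.all_eq_true.1 hw x hx)

/-- the involution `a ^ 4` -/
def tel : Q := val N wT

/-- the element `g` -/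
def gel : Q := val N wG

/-- the Carmichael elements as token words -/
def yTok (i : Fin 9) : List Nat := twY.getD i []

/-- a Carmichael generator by number -/
def cg (i : Nat) : Perm (Fin 11) := carmichaelGen 9 (Fin.ofNat 9 i)

/-- the image of a token -/
def permTok : Nat → Perm (Fin 11)
  | 0 => (ixY_a.map cg).prod
  | 1 => ((ixY_a.map cg).prod)⁻¹
  | 2 => (ixY_b.map cg).prod
  | 3 => ((ixY_b.map cg).prod)⁻¹
  | 4 => (ixY_d.map cg).prod
  | 5 => ((ixY_d.map cg).prod)⁻¹
  | 6 => (ixY_z.map cg).prod
  | 7 => ((ixY_z.map cg).prod)⁻¹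
  | 8 => (ixY_C.map cg).prod
  | 9 => ((ixY_C.map cg).prod)⁻¹
  | _ => 1

/-- the image of a word of tokens -/
def permTW (t : List Nat) : Perm (Fin 11) := (t.map permTok).prod

theorem permTW_v : permTW tw_v = permV := by decide +kernel
theorem permTW_v1 : permTW tw_v1 = permV' := by decide +kernel
theorem permTW_p : permTW tw_p = permP := by decide +kernel
theorem permTW_q : permTW tw_q = permQ := by decide +kernel
theorem permTW_w2 : permTW tw_w2 = permW2 := by decide +kernel
theorem permTW_w4 : permTW tw_w4 = permW4 := by decide +kernel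
theorem permTW_w5 : permTW tw_w5 = permW5 := by decide +kernel
theorem permTW_w2p : permTW tw_w2p = permW2' := by decide +kernel
theorem permTW_u2p : permTW tw_u2p = permT * permTW tw_u2 * permT⁻¹ := by decide +kernel
theorem okSq_true : GK.S.same (wT ++ wT) [] = true := by decide +kernel

theorem cg_one : cg 1 = perm22 := by decide +kernel

variable (hS : GK.S.okSetup = true)
  (hfs : ∀ f < 108, N.FactOK (Setup.fget GK.facts f))

include hS hfs in
theorem id_val {k : Nat} (hk : k < 24) : val N (idWords.getD k []) = 1 := by
  have h := okValI_spec N hS (n := 108) hfs (okId_true k hk)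
  rw [Model.wq_nil] at h
  exact h

theorem val_mul_inv {u w : List Nat} (hw : w.all (fun x => Nat.blt x 9) = true)
    (h : val N (u ++ winv w) = 1) : val N u = val N w := by
  rw [val_append, val_winv N w hw, mul_inv_eq_one] at h
  exact h

include hS hfs in
theorem comm_of_id {k j : Nat} (hk : k < 24) (he : idWords.getD k [] = idComm j)
    (hl : (lets [j]).all (fun x => Nat.blt x 9) = true) :
    Commute (val N (lets [j])) (tel N) := by
  have h := id_val N hS hfs hk
  rw [he, idComm, val_append, val_append, val_append, val_winv N _ hl,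
    val_winv N wT (by decide)] at h
  have h' : val N (lets [j]) * tel N = tel N * val N (lets [j]) := by
    rw [← mul_inv_eq_one]
    rw [← h, mul_inv_rev, tel]
    simp only [mul_assoc]
  exact h'

include hS hfs in
theorem tok_mem (k : Nat) : val N (lets [k]) ∈ Subgroup.centralizer ({tel N} : Set Q) := by
  rw [Subgroup.mem_centralizer_singleton_iff]
  have even : ∀ j ∈ [0, 2, 4, 6, 8], Commute (val N (lets [j])) (tel N) := by
    intro j hj
    simp only [List.mem_cons, List.not_mem_nil, or_false] at hj
    rcases hj with rfl | rfl | rfl | rfl | rfl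
    · exact comm_of_id N hS hfs (k := 0) (by decide) rfl (by decide)
    · exact comm_of_id N hS hfs (k := 1) (by decide) rfl (by decide)
    · exact comm_of_id N hS hfs (k := 2) (by decide) rfl (by decide)
    · exact comm_of_id N hS hfs (k := 3) (by decide) rfl (by decide)
    · exact comm_of_id N hS hfs (k := 4) (by decide) rfl (by decide)
  have odd : ∀ j ∈ [0, 2, 4, 6, 8],
      val N (lets [j + 1]) = (val N (lets [j]))⁻¹ := by
    intro j hj
    simp only [List.mem_cons, List.not_mem_nil, or_false] at hj
    rcases hj with rfl | rfl | rfl | rfl | rfl <;>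
      (rw [← val_winv N _ (by decide)]; rfl)
  rcases (show k = 0 ∨ k = 1 ∨ k = 2 ∨ k = 3 ∨ k = 4 ∨ k = 5 ∨ k = 6 ∨ k = 7 ∨ k = 8 ∨ k = 9 ∨
    10 ≤ k by omega) with rfl|rfl|rfl|rfl|rfl|rfl|rfl|rfl|rfl|rfl|h
  · exact even 0 (by decide)
  · rw [odd 0 (by decide)]; exact (even 0 (by decide)).inv_left
  · exact even 2 (by decide)
  · rw [odd 2 (by decide)]; exact (even 2 (by decide)).inv_left
  · exact even 4 (by decide)
  · rw [odd 4 (by decide)]; exact (even 4 (by decide)).inv_left
  · exact even 6 (by decide)
  · rw [odd 6 (by decide)]; exact (even 6 (by decide)).inv_left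
  · exact even 8 (by decide)
  · rw [odd 8 (by decide)]; exact (even 8 (by decide)).inv_left
  · have : lets [k] = [] := by
      simp [lets, List.getD_eq_getElem?_getD, List.getElem?_eq_none (show blocks.length ≤ k from h)]
    rw [this]
    simp [val]

/-- the element of the centraliser given by a word of tokens -/
def el (t : List Nat) : Subgroup.centralizer ({tel N} : Set Q) :=
  (t.map fun k => (⟨val N (lets [k]), tok_mem N hS hfs k⟩ :
    Subgroup.centralizer ({tel N} : Set Q))).prod

theorem coe_el (t : List Nat) : (el N hS hfs t : Q) = val N (lets t) := by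
  induction t with
  | nil => simp [el, lets, val]
  | cons k t ih =>
    rw [show lets (k :: t) = lets [k] ++ lets t by simp [lets], val_append, ← ih]
    simp [el]

theorem el_append (t u : List Nat) : el N hS hfs (t ++ u) = el N hS hfs t * el N hS hfs u := by
  simp [el]

/-- the Carmichael elements -/
def yEl (i : Fin 9) : Subgroup.centralizer ({tel N} : Set Q) := el N hS hfs (yTok i)

include hS hfs in
theorem y1_sq : (yEl N hS hfs 1 : Q) * yEl N hS hfs 1 = tel N := by
  have h : val N (idWords.getD 23 []) = 1 := id_val N hS hfs (by decide)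
  rw [show idWords.getD 23 [] = lets (yTok 1) ++ lets (yTok 1) ++ winv wT from rfl] at h
  rw [yEl, coe_el, ← val_append, val_mul_inv N (by decide) h]
  rfl

end

/-- The five generators generate. -/
theorem gen_top {H Q : Type*} [Group H] [Group Q] (N : Model GK.S H Q) :
    Subgroup.closure ({val N [0], val N [2], val N [4], val N [6], val N [8, 1]} : Set Q) = ⊤ := by
  set C := Subgroup.closure ({val N [0], val N [2], val N [4], val N [6], val N [8, 1]} : Set Q)
  rw [← top_le_iff, ← N.top, Subgroup.closure_le]
  have h8 : N.gen' 8 = N.T 0 := by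
    have h := N.gen'_let 8 (le_refl _) (show 8 < 9 by decide)
    rw [h, show (GK.S.letE 8) = (0, []) from rfl]
    simp [Perms.val, wv]
  have hf : ∀ x, N.f x ∈ C := by
    intro x
    have hm : N.M.m = 4 := by
      have h : (8 : Nat) = 2 * N.M.m := N.M.g_eq
      omega
    have hg : ∀ j : Fin N.M.m, N.f (N.M.gen j) ∈ C := fun j => by
      have hj : j.1 < 4 := hm ▸ j.2
      have e : N.f (N.M.gen j) = val N [2 * j.1] := by
        have hlt : 2 * j.1 < GK.S.P.g := show 2 * j.1 < 8 by omega
        rw [val, List.map_singleton, List.prod_singleton, N.gen'_lt _ hlt]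
        refine congrArg N.f ?_
        have hd : 2 * j.1 / 2 = j.1 := by omega
        simp [Perms.val, wv, lv, hd]
      rw [e]
      apply Subgroup.subset_closure
      rcases (show j.1 = 0 ∨ j.1 = 1 ∨ j.1 = 2 ∨ j.1 = 3 by omega) with h | h | h | h <;> simp [h]
    have hx : x ∈ C.comap N.f :=
      (Subgroup.closure_le (C.comap N.f)).2 (by rintro _ ⟨j, rfl⟩; exact hg j)
        (N.gen_top ▸ Subgroup.mem_top x)
    exact hx
  rintro q (⟨x, rfl⟩ | ⟨e, he, rfl⟩)
  · exact hf x
  · obtain rfl : e = 0 := by
      have : e < 1 := he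
      omega
    have e' : N.T 0 = val N [8, 1] * val N [0] := by
      have h1 : N.gen' 1 = (N.gen' 0)⁻¹ := N.gen'_inv 0 (show 0 < 9 by decide)
      rw [← h8, ← val_append]
      simp [val, h1]
    show N.T 0 ∈ C
    rw [e']
    exact mul_mem (Subgroup.subset_closure (by simp)) (Subgroup.subset_closure (by simp))

/-- The outer automorphism group is trivial. -/
theorem natCard_out {H Q : Type*} [Group H] [Group Q] [Finite Q] (N : Model GK.S H Q)
    (hS : GK.S.okSetup = true) (hfs : ∀ f < 108, N.FactOK (Setup.fget GK.facts f))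
    (hinj : Function.Injective N.f) (hG : Nat.card Q = 51765179004000000)
    (hcard : Nat.card (Subgroup.centralizer ({tel N} : Set Q)) ≤ 39916800)
    (hrel : ∀ r ∈ carmichaelRelators 9,
      ((FreeGroup.lift (yEl N hS hfs) r : Subgroup.centralizer ({tel N} : Set Q)) : Q) ∈
        Subgroup.zpowers (tel N)) :
    Nat.card (Cfsg.Out Q) = 1 := by
  set t := tel N with ht
  let E : List Nat → Subgroup.centralizer ({t} : Set Q) := fun w => el N hS hfs w
  have cE : ∀ w, (E w : Q) = val N (lets w) := coe_el N hS hfs
  have hid : ∀ {k : Nat} (u w : List Nat), k < 24 → idWords.getD k [] = u ++ winv w →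
      w.all (fun x => Nat.blt x 9) = true → val N u = val N w := fun u w hk he hw => by
    have h := id_val N hS hfs hk
    rw [he] at h
    exact val_mul_inv N hw h
  have wlt : ∀ x < 8, x < GK.S.P.g := fun x hx => hx
  have hw : ∀ w : List Nat, (∀ x ∈ w, x < 8) → (w.map N.gen').prod = N.f (N.M.val w) := by
    intro w
    induction w with
    | nil => intro; simp [Perms.val, wv]
    | cons x w ih =>
      intro hxw
      obtain ⟨hx, hw'⟩ := List.forall_mem_cons.1 hxw
      rw [List.map_cons, List.prod_cons, ih hw', N.gen'_lt x (wlt x hx), ← map_mul,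
        ← Perms.val_append]
      rfl
  have hne : t ≠ 1 := by
    intro h1
    have hval : N.f (N.M.val wT) = N.f 1 := by
      rw [map_one, ← h1, ht, tel, val]
      exact (hw wT (by decide)).symm
    have h := hinj hval
    have hb := okNe_true
    simp only [okNe, Bool.not_eq_true', ← Bool.not_eq_true] at hb
    refine hb ?_
    simp only [Setup.same, List.all_eq_true, Nat.beq_eq]
    intro b hb'
    have hlt : b < GK.S.P.n := by
      have : GK.S.base.all (fun b => Nat.blt b GK.S.P.n) = true := by
        simp only [Setup.okSetup, Bool.and_eq_true] at hS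
        exact hS.1.1.1.1.1.1
      simpa using List.all_eq_true.1 this b hb'
    rw [N.M.app_eq wT (by intro x hx; exact wlt x (by revert x; decide)) ⟨b, hlt⟩, h, Perms.act_one]
    simp [PermData.app]
  have htt : t * t = 1 := by
    rw [ht, tel, val, hw wT (by decide), ← Model.wq, ← Model.wq_append, ← N.wq_nil]
    exact same_wq N (by intro x hx; exact wlt x (by revert x; decide)) (by simp) okSq_true
  have hy : ∃ i, (yEl N hS hfs i : Q) ∉ Subgroup.zpowers t := ⟨1, fun h => by
    obtain ⟨k, hk⟩ := Subgroup.mem_zpowers_iff.1 h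
    have hsq : (yEl N hS hfs 1 : Q) * yEl N hS hfs 1 = t := y1_sq N hS hfs
    rw [← hk, ← (Commute.refl t).mul_zpow, htt, one_zpow] at hsq
    exact hne hsq.symm⟩
  obtain ⟨Φ, F, hΦy⟩ := exists_frame htt hne (yEl N hS hfs) hrel hy hcard
  have hval : ∀ {u w : List Nat}, val N (lets u) = val N (lets w) → E u = E w := fun h =>
    Subtype.ext ((cE _).trans (h.trans (cE _).symm))
  have hΦY : ∀ ix : List Nat, (∀ i ∈ ix, i < 9) →
      Φ (E (ix.flatMap fun i => twY.getD i [])) = (ix.map cg).prod := by
    intro ix
    induction ix with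
    | nil => intro; simp [E, el]
    | cons i ix ih =>
      intro hix
      obtain ⟨hi, hix'⟩ := List.forall_mem_cons.1 hix
      rw [List.flatMap_cons, show E (twY.getD i [] ++ ix.flatMap fun i => twY.getD i []) =
        E (twY.getD i []) * E (ix.flatMap fun i => twY.getD i []) from el_append N hS hfs _ _,
        map_mul, ih hix', List.map_cons, List.prod_cons,
        show E (twY.getD i []) = yEl N hS hfs ⟨i, hi⟩ from rfl, hΦy]
      exact congrArg (fun j => carmichaelGen 9 j * _) (Fin.ext (Nat.mod_eq_of_lt hi).symm)
  have hΦt : Φ ⟨t, Subgroup.mem_centralizer_singleton_iff.2 rfl⟩ = 1 := (F.ker _).2 (Or.inr rfl)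
  have hΦgen : ∀ (j k e : Nat) (ix : List Nat), k < 24 → (∀ i ∈ ix, i < 9) →
      idWords.getD k [] = idPhi j ix e →
      (lets (ix.flatMap fun i => twY.getD i []) ++ (List.replicate e wT).flatten).all
        (fun x => Nat.blt x 9) = true → e ≤ 1 →
      Φ (E [j]) = (ix.map cg).prod := by
    intro j k e ix hk hix he hw he1
    rw [← hΦY ix hix, F.eq_iff, cE, cE]
    have h := hid _ _ hk he hw
    rw [val_append] at h
    interval_cases e
    · left; rw [h]; simp [val]
    · right; rw [h]; simp [ht, tel]
  have p0 : Φ (E [0]) = permTok 0 := hΦgen 0 18 0 ixY_a (by decide) (by decide) rfl (by decide +kernel) (by decide)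
  have p2 : Φ (E [2]) = permTok 2 := hΦgen 2 19 1 ixY_b (by decide) (by decide) rfl (by decide +kernel) (by decide)
  have p6 : Φ (E [6]) = permTok 6 := hΦgen 6 20 1 ixY_z (by decide) (by decide) rfl (by decide +kernel) (by decide)
  have p4 : Φ (E [4]) = permTok 4 := hΦgen 4 21 0 ixY_d (by decide) (by decide) rfl (by decide +kernel) (by decide)
  have p8 : Φ (E [8]) = permTok 8 := hΦgen 8 22 1 ixY_C (by decide) (by decide) rfl (by decide +kernel) (by decide)
  have pinv : ∀ j, j ∈ [0, 2, 4, 6, 8] → Φ (E [j + 1]) = (Φ (E [j]))⁻¹ := by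
    intro j hj
    rw [← map_inv]
    refine congrArg Φ (Subtype.ext ?_)
    rw [Subgroup.coe_inv, cE, cE]
    simp only [List.mem_cons, List.not_mem_nil, or_false] at hj
    rcases hj with rfl | rfl | rfl | rfl | rfl <;> (rw [← val_winv N _ (by decide)]; rfl)
  have hΦ : ∀ w : List Nat, w.all (fun k => Nat.blt k 10) = true → Φ (E w) = permTW w := by
    intro w
    induction w with
    | nil => intro; simp [E, el, permTW]
    | cons k w ih =>
      intro hw
      simp only [List.all_cons, Bool.and_eq_true, Nat.blt_eq] at hw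
      rw [show E (k :: w) = E [k] * E w from el_append N hS hfs [k] w, map_mul,
        ih (by simpa using hw.2), show permTW (k :: w) = permTok k * permTW w from rfl]
      congr 1
      have hk := hw.1
      interval_cases k
      · exact p0
      · exact (pinv 0 (by decide)).trans (congrArg _ p0)
      · exact p2
      · exact (pinv 2 (by decide)).trans (congrArg _ p2)
      · exact p4
      · exact (pinv 4 (by decide)).trans (congrArg _ p4)
      · exact p6
      · exact (pinv 6 (by decide)).trans (congrArg _ p6)
      · exact p8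
      · exact (pinv 8 (by decide)).trans (congrArg _ p8)
  -- the identities
  have hG' : ∀ w : List Nat, w.all (fun x => Nat.blt x 9) = true →
      val N (winv w) = (val N w)⁻¹ := val_winv N
  have hgi : val N (winv wG) = (gel N)⁻¹ := hG' wG (by decide)
  have e6 : gel N * t * (gel N)⁻¹ = E tw_v := by
    rw [cE, ← hgi, gel, ht, tel, ← val_append, ← val_append]
    exact hid _ _ (k := 6) (by decide) rfl (by decide)
  have e7 : (gel N)⁻¹ * t * gel N = E tw_v1 := by
    rw [cE, ← hgi, gel, ht, tel, ← val_append, ← val_append]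
    exact hid _ _ (k := 7) (by decide) rfl (by decide)
  have hcube : ∀ {k : Nat} (w : List Nat), k < 24 →
      idWords.getD k [] = lets w ++ lets w ++ lets w → (E w : Q) ^ 3 = 1 := fun w hk he => by
    have h := id_val N hS hfs hk
    rw [he, val_append, val_append, ← cE] at h
    rw [pow_three, ← mul_assoc]
    exact h
  have hconj : ∀ {k : Nat} (w u : List Nat), k < 24 →
      idWords.getD k [] = wG ++ lets w ++ winv wG ++ winv (lets u) →
      (lets u).all (fun x => Nat.blt x 9) = true → gel N * E w * (gel N)⁻¹ = E u :=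
    fun w u hk he hu => by
      rw [cE, cE, ← hgi, gel, ← val_append, ← val_append]
      exact hid _ _ hk he hu
  have e16 : (gel N)⁻¹ * E tw_u2p * gel N = E tw_w2p := by
    rw [cE, cE, ← hgi, gel, ← val_append, ← val_append]
    exact hid _ _ (k := 16) (by decide) rfl (by decide)
  have e10 : (E tw_v : Q) = E tw_p * E tw_q := by
    rw [cE, cE, cE, ← val_append]
    exact hid _ _ (k := 10) (by decide) rfl (by decide)
  have e17 : (E tw_qv : Q) * E tw_v * (E tw_qv : Q)⁻¹ = E tw_v * t := by
    rw [cE, cE, ← hG' _ (by decide), ht, tel, ← val_append, ← val_append, ← val_append]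
    exact hid _ _ (k := 17) (by decide) rfl (by decide)
  have gmem : ∀ x < 9, N.gen' x = val N [x] := fun x _ => by simp [val]
  have C : Config F (val N [0]) (val N [2]) (val N [4]) (val N [6]) (val N [8, 1]) (gel N) :=
    { ha := tok_mem N hS hfs 0
      hb := tok_mem N hS hfs 2
      hd := tok_mem N hS hfs 4
      hz := tok_mem N hS hfs 6
      gen := gen_top N
      hc := by
        rw [← hgi, gel, pow_two, ← val_append, ← hG' _ (by decide), ← val_append, ← val_append]
        exact hid _ _ (k := 5) (by decide) rfl (by decide)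
      inv_conj := F.inv_conj hG (yEl N hS hfs 1) (E tw_v) (E tw_qv)
        ((hΦy 1).trans cg_one) (y1_sq N hS hfs) ((hΦ _ (by decide)).trans permTW_v) e6 e17
      hv := ⟨E tw_v, e6, E tw_p, E tw_q, e10, hcube tw_p (k := 8) (by decide) rfl,
        hcube tw_q (k := 9) (by decide) rfl, (hΦ _ (by decide)).trans permTW_p,
        (hΦ _ (by decide)).trans permTW_q⟩
      hv' := ⟨E tw_v1, e7, (hΦ _ (by decide)).trans permTW_v1⟩
      hw2 := ⟨E tw_w2, E tw_u2, hconj _ _ (k := 11) (by decide) rfl (by decide),
        (hΦ _ (by decide)).trans permTW_w2, hcube tw_u2 (k := 12) (by decide) rfl,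
        E tw_u2p, E tw_w2p, e16, (hΦ _ (by decide)).trans permTW_w2p,
        hcube tw_u2p (k := 15) (by decide) rfl,
        by rw [hΦ _ (by decide), hΦ _ (by decide), permTW_u2p]⟩
      hw4 := ⟨E tw_w4, E tw_u4, hconj _ _ (k := 13) (by decide) rfl (by decide),
        (hΦ _ (by decide)).trans permTW_w4⟩
      hw5 := ⟨E tw_w5, E tw_u5, hconj _ _ (k := 14) (by decide) rfl (by decide),
        (hΦ _ (by decide)).trans permTW_w5⟩ }
  exact C.natCard_out

end CfsgLib.Spor.LyOut
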