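import Cfsg.Agent.Lib.Spor.LyOut.Frame

/-!
The permutations of eleven letters used in the computation of the automorphism group of the
Lyons group, and the finite facts about them.
-/

set_option autoImplicit false

namespace CfsgLib.Spor.LyOut

open Equiv Equiv.Perm

/-- image of `g t g⁻¹` -/
def permV : Perm (Fin 11) :=
  ⟨![0, 9, 2, 10, 7, 8, 6, 4, 5, 1, 3], ![0, 9, 2, 10, 7, 8, 6, 4, 5, 1, 3], by decide, by decide⟩

/-- image of `g⁻¹ t g` -/
def permV' : Perm (Fin 11) :=
  ⟨![3, 9, 2, 0, 7, 5, 6, 4, 10, 1, 8], ![3, 9, 2, 0, 7, 5, 6, 4, 10, 1, 8], by decide, by decide⟩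

/-- first factor of `permV` -/
def permP : Perm (Fin 11) :=
  ⟨![0, 9, 2, 1, 7, 4, 6, 5, 8, 3, 10], ![0, 3, 2, 9, 5, 7, 6, 4, 8, 1, 10], by decide, by decide⟩

/-- second factor of `permV` -/
def permQ : Perm (Fin 11) :=
  ⟨![0, 1, 2, 10, 4, 8, 6, 5, 7, 3, 9], ![0, 1, 2, 9, 4, 7, 6, 8, 5, 10, 3], by decide, by decide⟩

/-- image of `w2` -/
def permW2 : Perm (Fin 11) :=
  ⟨![1, 8, 2, 9, 4, 5, 6, 7, 0, 10, 3], ![8, 0, 2, 10, 4, 5, 6, 7, 1, 3, 9], by decide, by decide⟩

/-- image of `w4` -/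
def permW4 : Perm (Fin 11) :=
  ⟨![0, 1, 5, 3, 4, 6, 2, 7, 8, 9, 10], ![0, 1, 6, 3, 4, 2, 5, 7, 8, 9, 10], by decide, by decide⟩

/-- image of `w5` -/
def permW5 : Perm (Fin 11) :=
  ⟨![3, 4, 5, 0, 1, 2, 6, 9, 8, 7, 10], ![3, 4, 5, 0, 1, 2, 6, 9, 8, 7, 10], by decide, by decide⟩

/-- the image `w2` would have under the twisted automorphism -/
def permW2' : Perm (Fin 11) :=
  ⟨![1, 8, 5, 9, 4, 6, 2, 7, 0, 10, 3], ![8, 0, 6, 10, 4, 2, 5, 7, 1, 3, 9], by decide, by decide⟩

/-- the odd permutation representing the outer class -/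
def permT : Perm (Fin 11) := swap 0 2

theorem sign_permT : Perm.sign permT = -1 := by decide

theorem permT_P : permT * permP * permT⁻¹ = permP := by decide

theorem permT_Q : permT * permQ * permT⁻¹ = permQ := by decide

theorem permP_mul_permQ : permP * permQ = permV := by decide

/-- number of fixed letters -/
def fixCard (p : Perm (Fin 11)) : ℕ := (Finset.univ.filter fun x => p x = x).card

theorem fixCard_conj (σ p : Perm (Fin 11)) : fixCard (σ * p * σ⁻¹) = fixCard p := by
  unfold fixCard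
  refine (Finset.card_equiv σ fun x => ?_).symm
  rw [Finset.mem_filter, Finset.mem_filter]
  simp

theorem fixCard_W2 : fixCard permW2 ≠ fixCard permW2' := by decide

/-- the candidate commuting map with given values at two letters -/
def cand (x y : Fin 11) : Fin 11 → Fin 11 :=
  ![x, permW2 x, y, permW5 x, permW5 (permW2 x), permW4 y, permW4 (permW4 y),
    permW5 (permW2 (permW5 x)), permW2 (permW2 x), permW2 (permW5 x), permW2 (permW2 (permW5 x))]

theorem cand_rigid : ∀ x y : Fin 11,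
    (∀ i, cand x y (permW2 i) = permW2 (cand x y i) ∧ cand x y (permW4 i) = permW4 (cand x y i) ∧
      cand x y (permW5 i) = permW5 (cand x y i)) →
    cand x y = id ∨ cand x y = permV' := by decide

/-- Only two permutations commute with the three images. -/
theorem centraliser_W (σ : Perm (Fin 11)) (h2 : σ * permW2 = permW2 * σ)
    (h4 : σ * permW4 = permW4 * σ) (h5 : σ * permW5 = permW5 * σ) : σ = 1 ∨ σ = permV' := by
  have e2 : ∀ i, σ (permW2 i) = permW2 (σ i) := fun i => Perm.ext_iff.1 h2 i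
  have e4 : ∀ i, σ (permW4 i) = permW4 (σ i) := fun i => Perm.ext_iff.1 h4 i
  have e5 : ∀ i, σ (permW5 i) = permW5 (σ i) := fun i => Perm.ext_iff.1 h5 i
  have hc : cand (σ 0) (σ 2) = σ := by
    funext i
    fin_cases i <;> simp only [cand, ← e2, ← e4, ← e5] <;> rfl
  have h := cand_rigid (σ 0) (σ 2)
  rw [hc] at h
  rcases h (fun i => ⟨e2 i, e4 i, e5 i⟩) with h | h
  · exact Or.inl (Perm.ext (congrFun h))
  · exact Or.inr (Perm.ext (congrFun h))

end CfsgLib.Spor.LyOut
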